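import Groth.Agent.Vanish.K910.Upper
import Groth.Agent.Pic13.H956.Numbers

/-!
# Kodaira's lemma: maximal growth and ample submodules
-/

set_option autoImplicit false
universe u
open CategoryTheory CategoryTheory.Limits AlgebraicGeometry TopologicalSpace

namespace K910.Kodaira

open Groth.Agent Groth.Agent.Fga Groth.Agent.Fga.PicMon Groth.Agent.Fga.RegSec K910.HZ K910.Growth

variable {k : Type u} [Field k] {X : Scheme.{u}} [X.Over (Spec (CommRingCat.of k))]

variable [IsProper (X ↘ Spec (CommRingCat.of k))]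

variable (k) in
/-- A monomorphism `A → B` of invertible modules gives `h^0(A^q) ≤ h^0(B^q)`. -/
theorem HZ_pow_le {A B : X.Modules} (hA : PicF.IsInvertible A) (hB : PicF.IsInvertible B) (φ : A ⟶ B) [hφ : Mono φ]
    (q : ℕ) {c : MC X} (hc : Inv c) : HZ k X (c * mc A ^ q) ≤ HZ k X (c * mc B ^ q) := by
  have := IntAdd.isNoetherian k X
  have hAc := HodgeSec.isCoh_of_isInvertible hA
  have hBc := HodgeSec.isCoh_of_isInvertible hB
  have hS : (ShortComplex.mk φ (cokernel.π φ) (cokernel.condition _)).ShortExact :=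
    { exact := ShortComplex.exact_cokernel _
      mono_f := hφ
      epi_g := inferInstanceAs (Epi (cokernel.π φ)) }
  have key : ∀ {c : MC X}, Inv c → HZ k X (c * mc A) ≤ HZ k X (c * mc B) := fun hc =>
    (HZ_le_of_shortExact k _ hS hAc hBc (Sga67.CohBasic.isCoh_cokernel _ hAc.1 hBc) hc).1
  induction q generalizing c with
  | zero => rw [pow_zero, pow_zero]
  | succ q ih =>
    have h1 : HZ k X (c * mc A ^ (q + 1)) ≤ HZ k X (c * mc A ^ q * mc B) := by
      rw [pow_succ, ← mul_assoc]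
      exact key (hc.mul ((inv_mc hA).pow q))
    have h2 := ih (hc.mul (inv_mc hB))
    have h3 : c * mc A ^ q * mc B = c * mc B * mc A ^ q := by
      rw [mul_assoc, mul_comm (mc A ^ q), ← mul_assoc]
    have h4 : c * mc B ^ (q + 1) = c * mc B * mc B ^ q := by
      rw [pow_succ', mul_assoc]
    rw [h3] at h1
    rw [h4]
    exact h1.trans h2

omit [IsProper (X ↘ Spec (CommRingCat.of k))] in
variable (k) in
theorem HZ_eq_zero_of_support {Q : X.Modules} (h : CohB1.support Q = ∅) {c : MC X} (hc : Inv c) :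
    HZ k X (c * mc Q) = 0 := by
  obtain ⟨N, hN, rfl⟩ := hc
  obtain ⟨N', hN', hNN'⟩ := exists_inv hN
  have h1 : CohB1.support (CohB1.tensorMod N Q) = ∅ := by
    rw [PosMain.support_tensor X hN hN' (by rw [mul_comm, hNN'])]
    exact h
  have h2 := IntNum0.HH_subsingleton_of_isZero (CohqB.DevSupport.isZero_of_support_eq_empty h1) 0
  rw [← mc_tensor, HZ_mc, Module.finrank_zero_of_subsingleton]

variable (k) in
/-- Lower bound from an ample submodule. -/
theorem lower_of_mono [IsIntegral X] (n : ℕ) (hn : topologicalKrullDim X = n) {L : X.Modules} (hL : PicF.IsInvertible L)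
    {ν : ℕ} (hν : 0 < ν) {A : X.Modules} (hA : CohB1.IsAmple A) (φ : A ⟶ CohB1.tensorPow L ν) (hφ : Mono φ) :
    ∃ ν a : ℕ, 0 < ν ∧ 0 < a ∧ ∀ μ : ℕ, 1 ≤ μ →
        μ ^ n ≤ a * HZ k X (mc L ^ (ν * μ)) := by
  have := IntAdd.isNoetherian k X
  obtain ⟨A', -, hAA'⟩ := exists_inv hA.1
  obtain ⟨a, q₀, ha, hq⟩ := ample_lower k n hn.le hA hAA' (CurvesC.UnitCoh.isCoh_unit X) n (by
    rw [Pic13.H956.Numbers.support_unit]
    rw [← hn]
    exact (Homeomorph.Set.univ X).isHomeomorph.topologicalKrullDim_eq)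
  refine ⟨ν * (q₀ + 1), a, by positivity, ha, fun μ hμ => ?_⟩
  have h1 := hq ((q₀ + 1) * μ) (by nlinarith)
  rw [mc_one, mul_one] at h1
  have h2 := HZ_pow_le k hA.1 (Fdesc.LocGen.isInvertible_tensorPow hL ν) φ ((q₀ + 1) * μ) (Inv.one (X := X))
  rw [one_mul, one_mul, mc_tensorPow, ← pow_mul, ← mul_assoc] at h2
  have h3 : μ ^ n ≤ ((q₀ + 1) * μ) ^ n := Nat.pow_le_pow_left (by nlinarith) n
  exact (h3.trans h1).trans (Nat.mul_le_mul_left a h2)

variable (k) in
/-- **Kodaira's lemma**: for `B` ample and `L` of maximal growth along multiples of `ν`, some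
`L^{νμ} ⊗ B⁻¹` has a nonzero section. -/
theorem exists_pos [IsIntegral X] (n : ℕ) (hn : topologicalKrullDim X = n) {H : X.Modules} (hH : CohB1.IsAmple H)
    {L : X.Modules} (hL : PicF.IsInvertible L) {B B' : X.Modules} (hB : PicF.IsInvertible B)
    (hB' : PicF.IsInvertible B') (hBB' : mc B' * mc B = 1)
    (s : Coh.structureModule X ⟶ B) (hs : s ≠ 0) {ν a : ℕ} (hν : 0 < ν) (ha : 0 < a)
    (hgrow : ∀ μ : ℕ, 1 ≤ μ → μ ^ n ≤ a * HZ k X (mc L ^ (ν * μ))) :
    ∃ μ₀ : ℕ, ∀ μ, μ₀ ≤ μ → 0 < HZ k X (mc L ^ (ν * μ) * mc B') := by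
  have := IntAdd.isNoetherian k X
  have hB'c := HodgeSec.isCoh_of_isInvertible hB'
  have hmono : Mono (mulS s B') := HodgeSec.mono_mulS hB hB' s hs
  have hmid : Coh.IsCoh (CohB1.tensorMod B B') := isCoh_tensor hB hB'c
  set Q := cokernel (mulS s B') with hQ
  have hQc : Coh.IsCoh Q := Sga67.CohBasic.isCoh_cokernel _ hB'c.1 hmid
  have hBB : mc (CohB1.tensorMod B B') = 1 := by rw [mc_tensor, mul_comm, hBB']
  have hη : genericPoint X ∉ CohB1.support Q := HodgeSec.genericPoint_notMem_support hB hB'c s hs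
  have hcl : IsClosed (CohB1.support Q) := S0020.result X _ hQc.2
  -- bound for `Q`
  have hbound : ∃ μ₀ : ℕ, ∀ μ, μ₀ ≤ μ → a * HZ k X (mc L ^ (ν * μ) * mc Q) < μ ^ n := by
    have hne : CohB1.support Q ≠ Set.univ := by
      intro h
      rw [h] at hη
      exact hη (Set.mem_univ _)
    have hdimlt : topologicalKrullDim (CohB1.support Q) < (n : ℕ) := by
      refine DimLt.topologicalKrullDim_lt (A := Set.univ) (irreducibleSpace_def X |>.mp inferInstance) hcl
        (Set.subset_univ _) hne ?_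
      have h1 : topologicalKrullDim (Set.univ : Set X) ≤ topologicalKrullDim X :=
        Topology.IsInducing.subtypeVal.topologicalKrullDim_le
      exact lt_of_le_of_lt (h1.trans hn.le) (by exact_mod_cast Nat.lt_succ_self n)
    rcases Nat.eq_zero_or_pos n with h0 | h0
    · subst h0
      have hemp : CohB1.support Q = ∅ := by
        by_contra hne'
        obtain ⟨x, hx⟩ := Set.nonempty_iff_ne_empty.2 hne'
        have : Nonempty (IrreducibleCloseds (CohB1.support Q)) :=
          ⟨⟨closure {⟨x, hx⟩}, isIrreducible_singleton.closure, isClosed_closure⟩⟩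
        have h1 : (0 : WithBot ℕ∞) ≤ topologicalKrullDim (CohB1.support Q) := Order.krullDim_nonneg
        exact absurd hdimlt (not_lt.2 (by simpa using h1))
      refine ⟨0, fun μ _ => ?_⟩
      rw [HZ_eq_zero_of_support k hemp ((inv_mc hL).pow _), mul_zero, pow_zero]
      exact Nat.one_pos
    · obtain ⟨r, rfl⟩ : ∃ r, n = r + 1 := ⟨n - 1, by omega⟩
      obtain ⟨C, hC⟩ := upper k (r + 1) hn.le hH hL hQc r (IntNum0.withBot_le_of_lt_succ hdimlt)
      refine ⟨a * C * (ν + 1) ^ r + 1, fun μ hμ => ?_⟩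
      have h1 := hC (ν * μ)
      have h2 : ν * μ + 1 ≤ (ν + 1) * μ := by
        have : 1 ≤ μ := le_trans (Nat.le_add_left _ _) hμ
        nlinarith
      have h3 : 0 < μ ^ r := pow_pos (lt_of_lt_of_le (Nat.succ_pos _) hμ) r
      calc a * HZ k X (mc L ^ (ν * μ) * mc Q) ≤ a * (C * (ν * μ + 1) ^ r) := Nat.mul_le_mul_left _ h1
        _ ≤ a * (C * ((ν + 1) * μ) ^ r) := by gcongr
        _ = a * C * (ν + 1) ^ r * μ ^ r := by rw [mul_pow]; ring
        _ < μ * μ ^ r := Nat.mul_lt_mul_of_pos_right (by omega) h3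
        _ = μ ^ (r + 1) := (pow_succ' μ r).symm
  obtain ⟨μ₀, hμ₀⟩ := hbound
  refine ⟨max μ₀ 1, fun μ hμ => ?_⟩
  have h1 := (HZ_le_of_shortExact k _ (shortExact_mulS s hmono) hB'c hmid hQc
    ((inv_mc hL).pow (ν * μ))).2
  rw [hBB, mul_one] at h1
  have h2 := hgrow μ ((le_max_right _ _).trans hμ)
  have h3 := hμ₀ μ ((le_max_left _ _).trans hμ)
  by_contra h4
  have h5 : HZ k X (mc L ^ (ν * μ) * mc B') = 0 := by omega
  change _ ≤ HZ k X (mc L ^ (ν * μ) * mc B') + HZ k X (mc L ^ (ν * μ) * mc Q) at h1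
  rw [h5, zero_add] at h1
  have h6 := Nat.mul_le_mul_left a h1
  omega

end K910.Kodaira
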