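import Groth.Agent.Vanish.K910.Desc
import Groth.Agent.PosLin.K931.Eff
import Groth.Agent.CalgB.ProjImm2
import Groth.Agent.Ega2.AmpleGlobGen
import Groth.Agent.Ega2.AmpleSec
import Groth.Agent.Ega1.AmpFam
import Groth.Agent.S0055
import Groth.Agent.BSB.K946.AffToR

/-!
# (NZ), and the descent of surjectivity and vanishing

`nz`: for `π : X₁ ⟶ X` proper and surjective between integral proper schemes of the same dimension with
ample modules, and `W₁` invertible on `X₁`, there is a quasi-coherent `F` with `R^q π_* F = 0`, `q ≥ 1`,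
and a non-zero `F ⟶ W₁`.

`desc : K909.AltInterface.Desc k` for `k` algebraically closed of characteristic zero.
-/

set_option autoImplicit false

universe u

noncomputable section

open CategoryTheory CategoryTheory.Limits AlgebraicGeometry Opposite TopologicalSpace

namespace K910.DescNZ

open Groth.Agent Groth.Agent.Fdesc.LocGen Groth.Agent.Grpsch.PicGrp K931.Eff

theorem exists_open {X₁ X : Scheme.{u}} (π : X₁ ⟶ X) (hcl : IsClosedMap π) (O : X₁.Opens) (x : X)
    (h : ∀ y : X₁, π y = x → y ∈ O) : ∃ V : X.Opens, x ∈ V ∧ π ⁻¹ᵁ V ≤ O := by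
  refine ⟨⟨(π '' (O : Set X₁)ᶜ)ᶜ, (hcl _ O.2.isClosed_compl).isOpen_compl⟩, ?_, ?_⟩
  · rintro ⟨y, hy, hyx⟩
    exact hy (h y hyx)
  · intro y hy
    by_contra hc
    exact hy ⟨y, hc, rfl⟩

theorem nz (k : Type u) [Field k] : K910.Desc.NZ k := by
  intro X X₁ _ _ π _ _ _ _ _ _ _ hdim A A₁ hA hA₁ W₁ hW₁
  have hπ : π ≫ (X ↘ Spec (CommRingCat.of k)) = X₁ ↘ Spec (CommRingCat.of k) := comp_over π _
  have hη : π (genericPoint X₁) = genericPoint X := K562.DimF.map_genericPoint π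
  have hLN : IsLocallyNoetherian X :=
    LocallyOfFiniteType.isLocallyNoetherian (X ↘ Spec (CommRingCat.of k))
  have hLN₁ : IsLocallyNoetherian X₁ :=
    LocallyOfFiniteType.isLocallyNoetherian (X₁ ↘ Spec (CommRingCat.of k))
  have hc : CompactSpace X := QuasiCompact.compactSpace_of_compactSpace (X ↘ Spec (CommRingCat.of k))
  have hc₁ : CompactSpace X₁ := QuasiCompact.compactSpace_of_compactSpace (X₁ ↘ Spec (CommRingCat.of k))
  have hN : IsNoetherian X := {}
  have hN₁ : IsNoetherian X₁ := {}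
  have hinjres : HasInjectiveResolutions X₁.Modules := Dcoh.DerSch.hasInjectiveResolutions X₁
  -- a power of `A₁` without higher direct images
  have ha : ∀ W : X.Opens, IsAffineOpen W → CohB1.IsAmple (A₁.restrict (π ⁻¹ᵁ W).ι) := fun W hW =>
    Groth.Agent.CalgB.ProjImm.isAmple_restrict_of_isCompact hA₁ _
      (π.isCompact_preimage hW.isCompact)
  have hO : Coh.IsCoh (Coh.structureModule X₁) :=
    Groth.Agent.Fdesc.StructMod.isCoh_structureModule X₁
  obtain ⟨a, ha'⟩ := S0055.result π A₁ hA₁.1 ha (Coh.structureModule X₁) hO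
  set E : X₁.Modules := CohB1.tensorMod (Coh.structureModule X₁) (CohB1.tensorPow A₁ a) with hEdef
  have hE : PicF.IsInvertible E := isInvertible_tensorMod
    (K246.Basic.isInvertible_structureModule X₁) (isInvertible_tensorPow hA₁.1 a)
  have hEq : Coh.IsQCoh E := PerfB.TensInv.isQCoh_of_isInvertible hE
  have hRZ : ∀ q : ℕ, 1 ≤ q → K946.RZ π E q := fun q hq =>
    K946.RZ.of_isZero π hEq ((Ega4B.RpushCompare.isZero_rpush_iff π E q).2 (ha' a le_rfl q hq))
  -- the module `M = W₁ / E` and a section of `M (x) π^* B^m`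
  obtain ⟨M, hM, hMc⟩ := exists_mk (mk W₁ hW₁ / mk E hE)
  obtain ⟨O₁, e, hηO, he⟩ := (isInvertible_iff M).mp hM (genericPoint X₁)
  obtain ⟨V, hηV, hV⟩ := exists_open π π.isClosedMap O₁ (genericPoint X) (fun y hy => by
    rw [K562.DimF.eq_genericPoint k π hπ hdim hy]
    exact hηO)
  obtain ⟨B, hB, w, hηw, hw⟩ : ∃ (B : X.Modules) (_ : PicF.IsInvertible B)
      (w : Coh.structureModule X ⟶ B), genericPoint X ∈ CohB1.genLocus B w ∧
        CohB1.genLocus B w ≤ V := by
    obtain ⟨n, w, hηw, hw, -⟩ := Ega2.AmpleSec.exists_affine_genLocus_nhd hA V _ hηV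
    exact ⟨_, isInvertible_tensorPow hA.1 _, w, hηw, hw⟩
  have hL₁ : PicF.IsInvertible ((Scheme.Modules.pullback π).obj B) := isInvertible_pullback π hB
  set s := Ega2.Weight.pullHom π w with hs
  have hgen : CohB1.genLocus _ s = π ⁻¹ᵁ CohB1.genLocus B w := Ega1.AmpFam.genLocus_pullHom π hB w
  have hle : CohB1.genLocus _ s ≤ O₁ := by
    rw [hgen]
    exact (Scheme.Hom.preimage_mono π hw).trans hV
  have hηs : genericPoint X₁ ∈ CohB1.genLocus _ s := by
    rw [hgen]
    change π (genericPoint X₁) ∈ CohB1.genLocus B w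
    rw [hη]
    exact hηw
  obtain ⟨m, hm⟩ := Ega2.AmpleGlobGen.exists_extend_top
    (PerfB.TensInv.isQCoh_of_isInvertible hM) hL₁ s (res M hle e)
  obtain ⟨t', ht'⟩ := hm m le_rfl
  have hgt : IsGen (res _ (le_top : CohB1.genLocus _ s ≤ ⊤) t') := by
    rw [ht']
    exact (he.res hle).tmul ((isGen_sec_genLocus s).pow m)
  have hsec : (homOf t') ≠ 0 := by
    apply ne_zero_of_mem_genLocus (homOf t') (x := genericPoint X₁)
    rw [mem_genLocus_iff]
    refine ⟨CohB1.genLocus _ s, hηs, ?_⟩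
    rw [sec_homOf]
    exact hgt
  have heff : Eff (mk M hM * mk _ hL₁ ^ m) := by
    rw [← mk_tensorPow, mk_mul_mk, eff_mk]
    exact ⟨_, hsec⟩
  -- the module `F`
  obtain ⟨C, hC, hCc⟩ := exists_mk ((mk B hB ^ m)⁻¹)
  have hF : PicF.IsInvertible (CohB1.tensorMod E ((Scheme.Modules.pullback π).obj C)) :=
    isInvertible_tensorMod hE (isInvertible_pullback π hC)
  refine ⟨CohB1.tensorMod E ((Scheme.Modules.pullback π).obj C),
    PerfB.TensInv.isQCoh_of_isInvertible hF, fun q hq => (hRZ q hq).twist hEq hC, ?_⟩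
  have hcl : mk W₁ hW₁ / mk _ hF = mk M hM * mk _ hL₁ ^ m := by
    have h1 : mk _ hF = mk E hE * pull π (mk C hC) := rfl
    have h2 : mk _ hL₁ = pull π (mk B hB) := rfl
    rw [h1, h2, ← hMc, ← hCc, map_inv, map_pow, div_mul_eq_div_div, div_inv_eq_mul]
  obtain ⟨f, hf⟩ := (exists_mono_iff hF hW₁).mpr (hcl ▸ heff)
  refine ⟨f, ?_⟩
  rintro rfl
  have hz : IsZero (CohB1.tensorMod E ((Scheme.Modules.pullback π).obj C)) := by
    rw [IsZero.iff_id_eq_zero, ← cancel_mono (0 : CohB1.tensorMod E _ ⟶ W₁)]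
    simp
  exact K792.EndLine.not_isZero hF hz

/-- **Descent of surjectivity and vanishing**: `K909.AltInterface.Desc k` holds for an algebraically
closed field of characteristic zero. -/
theorem desc (k : Type u) [Field k] [IsAlgClosed k] [CharZero k] : K909.AltInterface.Desc k :=
  K910.Desc.desc_of k (nz k)

section J

attribute [local instance] HasDerivedCategory.standard

open Groth.Agent.CurvesC.RepX K910.DescTrace

/-- Injectivity in terms of the pull-back of forms `J♭ : π^* W ⟶ W₁`, for `J` as in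
`K680.FormMain.main`. -/
theorem inj_J (k : Type u) [Field k] [IsAlgClosed k] [CharZero k]
    {X X₁ : Scheme.{u}} [X.Over (Spec (CommRingCat.of k))] [X₁.Over (Spec (CommRingCat.of k))]
    (π : X₁ ⟶ X) [π.IsOver (Spec (CommRingCat.of k))] [IsIntegral X] [IsIntegral X₁]
    [IsProper (X ↘ Spec (CommRingCat.of k))] [IsProper (X₁ ↘ Spec (CommRingCat.of k))]
    [IsProper π] [Surjective π] (n : ℕ) [SmoothOfRelativeDimension n (X ↘ Spec (CommRingCat.of k))]
    [SmoothOfRelativeDimension n (X₁ ↘ Spec (CommRingCat.of k))]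
    {A : X.Modules} {A₁ : X₁.Modules} (hA : CohB1.IsAmple A) (hA₁ : CohB1.IsAmple A₁)
    {W : X.Modules} {W₁ : X₁.Modules}
    (hW : ExtPow.IsExtPow n (Omega.sheaf (X ↘ Spec (CommRingCat.of k))) W)
    (hW₁ : ExtPow.IsExtPow n (Omega.sheaf (X₁ ↘ Spec (CommRingCat.of k))) W₁)
    [DCoh.HasLpull π] (J : W ⟶ (Scheme.Modules.pushforward π).obj W₁)
    (hJ1 : ∀ (U : X.Opens) (β : Γ(W, U)), β ≠ 0 → ∀ h : genericPoint X₁ ∈ π ⁻¹ᵁ U,
      W₁.presheaf.germ (π ⁻¹ᵁ U) (genericPoint X₁) h (show Γ(W₁, π ⁻¹ᵁ U) from J.app U β) ≠ 0)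
    (hJ2 : ∀ (y : X₁), IsDiscreteValuationRing (X₁.presheaf.stalk y) →
      IsDiscreteValuationRing (X.presheaf.stalk (π y)) →
      ∀ t : X.presheaf.stalk (π y), Irreducible t →
      ∀ a ∈ IsLocalRing.maximalIdeal (X₁.presheaf.stalk y),
      ∀ (U : X.Opens) (β : Γ(W, U)) (h : π y ∈ U), ∃ ω : W₁.presheaf.stalk y,
        a • W₁.presheaf.germ (π ⁻¹ᵁ U) y h (show Γ(W₁, π ⁻¹ᵁ U) from J.app U β) =
          (π.stalkMap y t) • ω) :
    letI : (DCoh.Lpull π).CommShift ℤ := Groth.Agent.Dcoh.DerPull.lpullCommShift π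
    ∀ t : P X ⟶ (DCoh.inD X W)⟦(n : ℤ)⟧,
      (DCoh.Lpull π).map t ≫ pullN π W n ≫ ((DerivedCategory.singleFunctor X₁.Modules 0).map
        (((Scheme.Modules.pullbackPushforwardAdjunction π).homEquiv W W₁).symm J))⟦(n : ℤ)⟧' = 0 →
      t = 0 :=
  K910.Desc.exists_J k (nz k) π n hA hA₁ hW hW₁ J hJ1 hJ2

end J

end K910.DescNZ
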