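import Mathlib.Algebra.Group.ForwardDiff
import Mathlib.Tactic.Linarith
import Mathlib.Tactic.NormNum
import Mathlib.Tactic.Positivity
import Mathlib.Tactic.GCongr

/-!
# Growth of integer sequences from their iterated differences
-/

set_option autoImplicit false

open fwdDiff

namespace K910.DiffGrowth

theorem succ_pow_le (q r : ℕ) : (q + 1) ^ (r + 1) ≤ q ^ (r + 1) + (r + 1) * (q + 1) ^ r := by
  induction r with
  | zero => simp
  | succ r ih =>
    have h1 : q ^ (r + 1) ≤ (q + 1) ^ (r + 1) := Nat.pow_le_pow_left (Nat.le_succ q) _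
    calc (q + 1) ^ (r + 1 + 1) = (q + 1) * (q + 1) ^ (r + 1) := by ring
      _ ≤ (q + 1) * (q ^ (r + 1) + (r + 1) * (q + 1) ^ r) := Nat.mul_le_mul_left _ ih
      _ = q ^ (r + 1 + 1) + q ^ (r + 1) + (r + 1) * (q + 1) ^ (r + 1) := by ring
      _ ≤ q ^ (r + 1 + 1) + (q + 1) ^ (r + 1) + (r + 1) * (q + 1) ^ (r + 1) := by gcongr
      _ = q ^ (r + 1 + 1) + (r + 1 + 1) * (q + 1) ^ (r + 1) := by ring

/-- If the `(r + 1)`-st difference of `u` vanishes, `|u q| ≤ C (q + 1) ^ r`. -/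
theorem upper (r : ℕ) (u : ℕ → ℤ) (h : ∀ q, Δ_[1]^[r + 1] u q = 0) :
    ∃ C : ℕ, ∀ q, |u q| ≤ C * (q + 1 : ℤ) ^ r := by
  induction r generalizing u with
  | zero =>
    refine ⟨(u 0).natAbs, fun q => ?_⟩
    have h1 : ∀ q, u q = u 0 := by
      intro q
      induction q with
      | zero => rfl
      | succ q ih =>
        have := h q
        simp only [zero_add, Function.iterate_one, fwdDiff] at this
        linarith
    rw [h1 q]
    simp
  | succ r ih =>
    obtain ⟨C, hC⟩ := ih (Δ_[1] u) (fun q => by rw [← Function.iterate_succ_apply]; exact h q)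
    refine ⟨(u 0).natAbs + C, fun q => ?_⟩
    have h1 : |u q| ≤ ((u 0).natAbs + C * q : ℤ) * (q + 1 : ℤ) ^ r := by
      induction q with
      | zero => simp
      | succ q ihq =>
        have h2 := hC q
        rw [fwdDiff] at h2
        have h3 : |u (q + 1)| ≤ |u q| + |u (q + 1) - u q| := by
          have := abs_add_le (u q) (u (q + 1) - u q)
          rwa [add_sub_cancel] at this
        have h4 : ((q : ℤ) + 1) ^ r ≤ ((q + 1 : ℕ) + 1 : ℤ) ^ r := by
          push_cast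
          gcongr
          linarith
        calc |u (q + 1)| ≤ |u q| + |u (q + 1) - u q| := h3
          _ ≤ ((u 0).natAbs + C * q : ℤ) * (q + 1 : ℤ) ^ r + C * (q + 1 : ℤ) ^ r := add_le_add ihq h2
          _ = ((u 0).natAbs + C * (q + 1 : ℕ) : ℤ) * (q + 1 : ℤ) ^ r := by push_cast; ring
          _ ≤ ((u 0).natAbs + C * (q + 1 : ℕ) : ℤ) * ((q + 1 : ℕ) + 1 : ℤ) ^ r := by gcongr
    refine h1.trans ?_
    have h5 : ((u 0).natAbs + C * q : ℤ) ≤ ((u 0).natAbs + C : ℕ) * (q + 1 : ℤ) := by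
      push_cast
      have : (0 : ℤ) ≤ |u 0| * q + C := by positivity
      linarith [mul_add (|u 0| + (C : ℤ)) q 1, add_mul |u 0| (C : ℤ) q]
    calc ((u 0).natAbs + C * q : ℤ) * (q + 1 : ℤ) ^ r
        ≤ (((u 0).natAbs + C : ℕ) * (q + 1 : ℤ)) * (q + 1 : ℤ) ^ r := by gcongr
      _ = ((u 0).natAbs + C : ℕ) * (q + 1 : ℤ) ^ (r + 1) := by ring

/-- If the `r`-th difference of `u` is eventually `≥ 1`, then `q ^ r ≤ a * u q` for `q` large. -/
theorem lower (r : ℕ) (u : ℕ → ℤ) (N : ℕ) (h : ∀ q, N ≤ q → 1 ≤ Δ_[1]^[r] u q) :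
    ∃ a q₀ : ℕ, 0 < a ∧ ∀ q, q₀ ≤ q → (q : ℤ) ^ r ≤ a * u q := by
  induction r generalizing u with
  | zero =>
    refine ⟨1, N, Nat.one_pos, fun q hq => ?_⟩
    have := h q hq
    simpa using this
  | succ r ih =>
    obtain ⟨a, q₀, ha, hq₀⟩ := ih (Δ_[1] u) (fun q hq => by rw [← Function.iterate_succ_apply]; exact h q hq)
    set A : ℕ := (r + 1) * 2 ^ r * a with hA
    have hA0 : 0 < A := by positivity
    set q₁ : ℕ := max q₀ 1 with hq₁
    set c : ℕ := q₁ ^ (r + 1) + (u q₁).natAbs with hc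
    have key : ∀ q, q₁ ≤ q → (q : ℤ) ^ (r + 1) ≤ A * (u q + c) := by
      intro q hq
      induction q, hq using Nat.le_induction with
      | base =>
        have h1 : (q₁ : ℤ) ^ (r + 1) ≤ u q₁ + c := by
          rw [hc]
          push_cast
          have := neg_abs_le (u q₁)
          linarith
        have h0 : (0 : ℤ) ≤ (q₁ : ℤ) ^ (r + 1) := by positivity
        have h2 : (1 : ℤ) ≤ A := by exact_mod_cast hA0
        nlinarith
      | succ q hq ihq =>
        have hq1 : 1 ≤ q := (le_max_right _ _).trans hq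
        have h1 := hq₀ q ((le_max_left _ _).trans hq)
        rw [fwdDiff] at h1
        have h2 : ((q : ℤ) + 1) ^ (r + 1) ≤ (q : ℤ) ^ (r + 1) + (r + 1) * ((q : ℤ) + 1) ^ r := by
          exact_mod_cast succ_pow_le q r
        have h3 : ((q : ℤ) + 1) ^ r ≤ 2 ^ r * (q : ℤ) ^ r := by
          rw [← mul_pow]
          gcongr
          have : (1 : ℤ) ≤ q := by exact_mod_cast hq1
          linarith
        have h4 : ((r : ℤ) + 1) * ((q : ℤ) + 1) ^ r ≤ A * (u (q + 1) - u q) := by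
          calc ((r : ℤ) + 1) * ((q : ℤ) + 1) ^ r ≤ ((r : ℤ) + 1) * (2 ^ r * (q : ℤ) ^ r) := by gcongr
            _ ≤ ((r : ℤ) + 1) * (2 ^ r * (a * (u (q + 1) - u q))) := by gcongr
            _ = A * (u (q + 1) - u q) := by rw [hA]; push_cast; ring
        push_cast
        calc ((q : ℤ) + 1) ^ (r + 1) ≤ (q : ℤ) ^ (r + 1) + (r + 1) * ((q : ℤ) + 1) ^ r := h2
          _ ≤ A * (u q + c) + A * (u (q + 1) - u q) := add_le_add ihq h4
          _ = A * (u (q + 1) + c) := by ring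
    refine ⟨2 * A, max q₁ (2 * (A * c) + 1), by positivity, fun q hq => ?_⟩
    have h1 := key q ((le_max_left _ _).trans hq)
    have h2 : 2 * (A * c) + 1 ≤ q := (le_max_right _ _).trans hq
    have h3 : (q : ℤ) ≤ (q : ℤ) ^ (r + 1) := by
      exact_mod_cast Nat.le_self_pow (Nat.succ_ne_zero r) q
    have h4 : 2 * ((A : ℤ) * c) + 1 ≤ q := by exact_mod_cast h2
    push_cast
    nlinarith

end K910.DiffGrowth
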