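import Groth.Agent.Vanish.K910.HZ
import Groth.Agent.Vanish.K910.DiffGrowth

/-!
# Growth of spaces of sections of powers of an ample module

* `fwdDiff_euler`: iterated differences of `q ↦ χ(A^q ⊗ F)` are intersection numbers.
* `ample_upper`: `h^0(H^q ⊗ G) ≤ C (q + 1)^r` if `dim Supp G ≤ r`, `H` ample.
* `ample_lower`: `q^r ≤ a h^0(A^q ⊗ F)` for large `q` if `dim Supp F = r`, `A` ample.
* `upper`: `h^0(L^q ⊗ F) ≤ C (q + 1)^r` if `dim Supp F ≤ r`, `L` invertible, `X` projective.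
-/

set_option autoImplicit false
universe u
open CategoryTheory CategoryTheory.Limits AlgebraicGeometry TopologicalSpace

namespace K910.Growth

open Groth.Agent Groth.Agent.Fga Groth.Agent.Fga.PicMon Groth.Agent.Fga.RegSec K910.HZ
open fwdDiff

variable {k : Type u} [Field k] {X : Scheme.{u}} [X.Over (Spec (CommRingCat.of k))]

theorem const_cons {α : Type*} (A : α) (r : ℕ) :
    (fun _ : Fin (r + 1) => A) = (Fin.cons A (fun _ : Fin r => A) : Fin (r + 1) → α) := by
  funext i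
  cases i using Fin.cases with
  | zero => rfl
  | succ i => rfl

variable (k) in
theorem fwdDiff_euler (d : ℕ) {A A' : X.Modules} (hAA' : mc A' * mc A = 1) (F : X.Modules) (r q : ℕ) :
    Δ_[1]^[r] (fun q => FGA.eulerCharLE k X (CohB1.tensorMod (CohB1.tensorPow A q) F) d) q =
      FGA.intNum k X d (fun _ : Fin r => A') (CohB1.tensorMod (CohB1.tensorPow A (q + r)) F) := by
  induction r generalizing q with
  | zero => rw [PicMon.intNum_zero]; rfl
  | succ r ih =>
    rw [Function.iterate_succ_apply', fwdDiff, ih, ih, const_cons, intNum_cons]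
    have e1 : q + 1 + r = q + (r + 1) := by ring
    rw [e1]
    congr 1
    have e2 : mc (CohB1.tensorMod A' (CohB1.tensorMod (CohB1.tensorPow A (q + (r + 1))) F)) =
        mc (CohB1.tensorMod (CohB1.tensorPow A (q + r)) F) := by
      rw [mc_tensor, mc_tensor, mc_tensor, mc_tensorPow, mc_tensorPow, ← add_assoc, pow_succ',
        ← mul_assoc, ← mul_assoc, hAA', one_mul]
    obtain ⟨e⟩ := (mc_eq_iff _ _).1 e2
    exact (intNum_iso k X d _ e).symm

variable [IsProper (X ↘ Spec (CommRingCat.of k))]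

variable (k) in
/-- A finite bound for the dimension is enough to compute `h^0` as an Euler characteristic. -/
theorem euler_eq_h0 (d : ℕ) (F : X.Modules) (h : ∀ p : ℕ, 0 < p → Subsingleton (Coh.HH X F p)) :
    FGA.eulerCharLE k X F d = HZ k X (mc F) := by
  unfold FGA.eulerCharLE
  rw [Finset.sum_range_succ', Finset.sum_eq_zero, HZ_mc]
  · simp
  · intro i _
    have := h (i + 1) (Nat.succ_pos i)
    rw [Module.finrank_zero_of_subsingleton]
    simp

variable (k) in
include k in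
theorem exists_vanish {H : X.Modules} (hH : CohB1.IsAmple H) {G : X.Modules} (hG : Coh.IsCoh G) :
    ∃ n₀ : ℕ, ∀ q, n₀ ≤ q → ∀ p : ℕ, 0 < p →
      Subsingleton (Coh.HH X (CohB1.tensorMod (CohB1.tensorPow H q) G) p) := by
  obtain ⟨n₀, hn₀⟩ := (S0051.result k X (X ↘ Spec (CommRingCat.of k)) H hH.1).1 hH G hG
  refine ⟨n₀, fun q hq p hp => ?_⟩
  have := hn₀ q hq p hp
  exact (hmapEquiv k X (Ega2.Tens.swap (CohB1.tensorPow H q) G) p).toEquiv.subsingleton

variable (k) in
theorem ample_upper (d : ℕ) (hd : topologicalKrullDim X ≤ d) {H : X.Modules} (hH : CohB1.IsAmple H)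
    {H' : X.Modules} (hHH' : mc H' * mc H = 1) (hH' : PicF.IsInvertible H')
    {G : X.Modules} (hG : Coh.IsCoh G) (r : ℕ) (hr : topologicalKrullDim (CohB1.support G) ≤ r) :
    ∃ C : ℕ, ∀ q, HZ k X (mc H ^ q * mc G) ≤ C * (q + 1) ^ r := by
  obtain ⟨n₀, hn₀⟩ := exists_vanish k hH hG
  set u : ℕ → ℤ := fun q => FGA.eulerCharLE k X (CohB1.tensorMod (CohB1.tensorPow H q) G) d with hu
  have hcoh : ∀ q, Coh.IsCoh (CohB1.tensorMod (CohB1.tensorPow H q) G) := fun q =>
    isCoh_tensor (Fdesc.LocGen.isInvertible_tensorPow hH.1 q) hG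
  have hsup : ∀ q, topologicalKrullDim (CohB1.support (CohB1.tensorMod (CohB1.tensorPow H q) G)) ≤ r := by
    intro q
    rw [PosMain.support_tensor X (Fdesc.LocGen.isInvertible_tensorPow hH.1 q)
      (Fdesc.LocGen.isInvertible_tensorPow hH' q) (by
        rw [mc_tensorPow, mc_tensorPow, ← mul_pow, mul_comm, hHH', one_pow])]
    exact hr
  obtain ⟨C, hC⟩ := DiffGrowth.upper r u (fun q => by
    rw [hu, fwdDiff_euler k d hHH']
    refine S3231.result k X d hd _ (fun _ => hH') _ (hcoh _) ?_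
    exact lt_of_le_of_lt (hsup _) (by exact_mod_cast Nat.lt_succ_self r))
  refine ⟨C + ∑ q ∈ Finset.range n₀, HZ k X (mc H ^ q * mc G), fun q => ?_⟩
  rcases lt_or_ge q n₀ with hq | hq
  · have h1 : HZ k X (mc H ^ q * mc G) ≤ ∑ q ∈ Finset.range n₀, HZ k X (mc H ^ q * mc G) :=
      Finset.single_le_sum (f := fun q => HZ k X (mc H ^ q * mc G)) (fun _ _ => Nat.zero_le _)
        (Finset.mem_range.2 hq)
    calc HZ k X (mc H ^ q * mc G) ≤ (C + ∑ q ∈ Finset.range n₀, HZ k X (mc H ^ q * mc G)) * 1 := by omega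
      _ ≤ _ := Nat.mul_le_mul_left _ (Nat.one_le_pow _ _ (Nat.succ_pos q))
  · have h1 := hC q
    rw [hu] at h1
    beta_reduce at h1
    rw [euler_eq_h0 k d _ (hn₀ q hq), mc_tensor, mc_tensorPow, abs_of_nonneg (by positivity)] at h1
    have h2 : HZ k X (mc H ^ q * mc G) ≤ C * (q + 1) ^ r := by exact_mod_cast h1
    exact h2.trans (Nat.mul_le_mul_right _ (Nat.le_add_right _ _))

variable (k) in
theorem ample_lower (d : ℕ) (hd : topologicalKrullDim X ≤ d) {A : X.Modules} (hA : CohB1.IsAmple A)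
    {A' : X.Modules} (hAA' : mc A' * mc A = 1)
    {F : X.Modules} (hF : Coh.IsCoh F) (r : ℕ) (hr : topologicalKrullDim (CohB1.support F) = r) :
    ∃ a q₀ : ℕ, 0 < a ∧ ∀ q, q₀ ≤ q → q ^ r ≤ a * HZ k X (mc A ^ q * mc F) := by
  obtain ⟨e⟩ : Nonempty (CohB1.tensorMod A A' ≅ Coh.structureModule X) :=
    (mc_eq_iff _ _).1 (by rw [mc_tensor, mul_comm, hAA', mc_one])
  have hA' : PicF.IsInvertible A' := IntAdd.isInvertible_of_tensor e
  obtain ⟨n₀, hn₀⟩ := exists_vanish k hA hF
  set u : ℕ → ℤ := fun q => FGA.eulerCharLE k X (CohB1.tensorMod (CohB1.tensorPow A q) F) d with hu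
  have hcoh : ∀ q, Coh.IsCoh (CohB1.tensorMod (CohB1.tensorPow A q) F) := fun q =>
    isCoh_tensor (Fdesc.LocGen.isInvertible_tensorPow hA.1 q) hF
  have hsup : ∀ q, topologicalKrullDim (CohB1.support (CohB1.tensorMod (CohB1.tensorPow A q) F)) = r := by
    intro q
    rw [PosMain.support_tensor X (Fdesc.LocGen.isInvertible_tensorPow hA.1 q)
      (Fdesc.LocGen.isInvertible_tensorPow hA' q) (by
        rw [mc_tensorPow, mc_tensorPow, ← mul_pow, mul_comm, hAA', one_pow])]
    exact hr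
  obtain ⟨a, q₀, ha, hq₀⟩ := DiffGrowth.lower r u 0 (fun q _ => by
    rw [hu, fwdDiff_euler k d hAA']
    exact PosMain.intNum_pos k X d hd (fun _ => A) _ (fun _ => hA) (fun _ => ⟨e⟩) _ (hcoh _) (hsup _))
  refine ⟨a, max q₀ n₀, ha, fun q hq => ?_⟩
  have h1 := hq₀ q ((le_max_left _ _).trans hq)
  rw [hu] at h1
  beta_reduce at h1
  rw [euler_eq_h0 k d _ (hn₀ q ((le_max_right _ _).trans hq)), mc_tensor, mc_tensorPow] at h1
  exact_mod_cast h1

theorem mono_mulS_of_ass [IsLocallyNoetherian X] [CompactSpace X] {N F : X.Modules} (hN : PicF.IsInvertible N) (hF : Coh.IsCoh F)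
    (s : Coh.structureModule X ⟶ N) (h : ∀ x ∈ AssSch.Ass F, x ∈ CohB1.genLocus N s) :
    Mono (mulS s F) := by
  refine mulS_mono s F hF ?_ (fun x hx => h x hx)
  exact (Sga67.CohBasic.isCoh_kernel _ hF (isCoh_tensor hN hF).1).1

end K910.Growth
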