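import Groth.Agent.Vanish.K910.Growth
import Groth.Agent.Grpsch.PicGrp
import Groth.Agent.S2324
import Groth.Agent.Fdesc.SubFilt
import Groth.Agent.Fga.HypSec

/-!
# Upper bound for the growth of sections of powers of an invertible module

* `upper`: `h^0(L^q ⊗ F) ≤ C (q + 1)^r` if `dim Supp F ≤ r`, `L` invertible, `X` projective.
-/

set_option autoImplicit false
universe u
open CategoryTheory CategoryTheory.Limits AlgebraicGeometry TopologicalSpace

namespace K910.Growth

open Groth.Agent Groth.Agent.Fga Groth.Agent.Fga.PicMon Groth.Agent.Fga.RegSec K910.HZ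

variable {k : Type u} [Field k] {X : Scheme.{u}} [X.Over (Spec (CommRingCat.of k))]

theorem exists_inv {L : X.Modules} (hL : PicF.IsInvertible L) :
    ∃ M : X.Modules, PicF.IsInvertible M ∧ mc M * mc L = 1 := by
  obtain ⟨M, hM, ⟨e⟩⟩ := Grpsch.PicGrp.exists_inverse hL
  refine ⟨M, hM, ?_⟩
  rw [mul_comm, ← mc_tensor, ← mc_one]
  exact (mc_eq_iff _ _).2 ⟨e⟩

variable [IsProper (X ↘ Spec (CommRingCat.of k))]

variable (k) in
include k in
/-- A section of a power of an ample module which is regular on a coherent module. -/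
theorem exists_mono_mulS {M : X.Modules} (hM : CohB1.IsAmple M) {F : X.Modules} (hF : Coh.IsCoh F) :
    ∃ (j : ℕ) (s : Coh.structureModule X ⟶ CohB1.tensorPow M (j + 1)), AssSch.Ass F ⊆ CohB1.genLocus _ s ∧
      Mono (mulS s F) := by
  have := HypSec.isNoetherian k X
  have := HypSec.isSeparated k X
  obtain ⟨j, s, h1, -, -⟩ := S2324.result X M hM (AssSch.Ass F) (Fdesc.SubFilt.finite_ass hF) ⊤
    (fun x _ => Opens.mem_top x)
  exact ⟨j, s, h1, mono_mulS_of_ass (Fdesc.LocGen.isInvertible_tensorPow hM.1 _) hF s h1⟩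

variable (k) in
/-- **Upper bound.** -/
theorem upper (d : ℕ) (hd : topologicalKrullDim X ≤ d) {H : X.Modules} (hH : CohB1.IsAmple H)
    {L : X.Modules} (hL : PicF.IsInvertible L)
    {F : X.Modules} (hF : Coh.IsCoh F) (r : ℕ) (hr : topologicalKrullDim (CohB1.support F) ≤ r) :
    ∃ C : ℕ, ∀ q, HZ k X (mc L ^ q * mc F) ≤ C * (q + 1) ^ r := by
  have := HypSec.isNoetherian k X
  have := HypSec.isSeparated k X
  obtain ⟨H', hH', hHH'⟩ := exists_inv hH.1
  obtain ⟨Li, hLi, hLiL⟩ := exists_inv hL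
  obtain ⟨n₀, hn₀, h0⟩ := S2329.result X H Li hH hLi
  set M := CohB1.tensorMod (CohB1.tensorPow H n₀) Li with hM
  have hMa : CohB1.IsAmple M := (h0 n₀ le_rfl).1
  have hML : mc M * mc L = mc H ^ n₀ := by
    rw [hM, mc_tensor, mc_tensorPow, mul_assoc, hLiL, mul_one]
  obtain ⟨j, s, -, hs⟩ := exists_mono_mulS k hMa hF
  have hMj : PicF.IsInvertible (CohB1.tensorPow M (j + 1)) := Fdesc.LocGen.isInvertible_tensorPow hMa.1 _
  -- bounds for the twists by `L ^ i`
  have hC : ∀ i : ℕ, ∃ C : ℕ, ∀ q, HZ k X (mc H ^ q * (mc L ^ i * mc F)) ≤ C * (q + 1) ^ r := by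
    intro i
    have hLi' : PicF.IsInvertible (CohB1.tensorPow L i) := Fdesc.LocGen.isInvertible_tensorPow hL i
    obtain ⟨C, hC⟩ := ample_upper k d hd hH hHH' hH'
      (G := CohB1.tensorMod (CohB1.tensorPow L i) F) (isCoh_tensor hLi' hF) r (by
        rw [PosMain.support_tensor X hLi' (Fdesc.LocGen.isInvertible_tensorPow hLi i) (by
          rw [mc_tensorPow, mc_tensorPow, ← mul_pow, mul_comm, hLiL, one_pow])]
        exact hr)
    refine ⟨C, fun q => ?_⟩
    have := hC q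
    rwa [mc_tensor, mc_tensorPow] at this
  choose C hC using hC
  refine ⟨(∑ i ∈ Finset.range (j + 1), C i) * (n₀ + 1) ^ r, fun q => ?_⟩
  set q' := q / (j + 1) with hq'
  set i := q % (j + 1) with hi
  have hqi : (j + 1) * q' + i = q := Nat.div_add_mod q (j + 1)
  have hij : i < j + 1 := Nat.mod_lt _ (Nat.succ_pos j)
  have h1 := HZ_le_mulS_pow k hMj hF s hs ((inv_mc hL).pow q) q'
  have h2 : mc L ^ q * mc (CohB1.tensorPow M (j + 1)) ^ q' * mc F =
      mc H ^ (n₀ * ((j + 1) * q')) * (mc L ^ i * mc F) := by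
    have e1 : (mc M ^ (j + 1)) ^ q' = mc M ^ ((j + 1) * q') := (pow_mul _ _ _).symm
    have e2 : mc H ^ (n₀ * ((j + 1) * q')) = (mc M * mc L) ^ ((j + 1) * q') := by rw [hML, ← pow_mul]
    have e3 : mc L ^ q = mc L ^ ((j + 1) * q') * mc L ^ i := by rw [← pow_add, hqi]
    rw [mc_tensorPow, e1, e2, mul_pow, e3]
    simp only [mul_assoc, mul_comm, mul_left_comm]
  rw [h2] at h1
  refine h1.trans ((hC i _).trans ?_)
  have h3 : C i ≤ ∑ i ∈ Finset.range (j + 1), C i :=
    Finset.single_le_sum (f := C) (fun _ _ => Nat.zero_le _) (Finset.mem_range.2 hij)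
  have h4 : n₀ * ((j + 1) * q') + 1 ≤ (n₀ + 1) * (q + 1) := by
    have : (j + 1) * q' ≤ q := by omega
    nlinarith
  calc C i * (n₀ * ((j + 1) * q') + 1) ^ r
      ≤ (∑ i ∈ Finset.range (j + 1), C i) * ((n₀ + 1) * (q + 1)) ^ r :=
        Nat.mul_le_mul h3 (Nat.pow_le_pow_left h4 r)
    _ = _ := by rw [mul_pow, mul_assoc]

end K910.Growth
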