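import Groth.Agent.Vanish.K910.KumModel

/-!
# The normalized cyclic cover algebra: final assembly
-/

set_option autoImplicit false
universe u

open Polynomial

namespace K910.KumFinal

open Groth.Agent.Pi1.H390.T1KumRing (pol root_pow monic_pol)
open K910.KumModel

/-- The inverse of `a` modulo `e`. -/
theorem exists_inv (a e : ℕ) (he : e ≠ 0) (h : Nat.Coprime a e) :
    ∃ (i₀ : ℕ) (c : ℤ), i₀ < e ∧ (i₀ : ℤ) * a - e * c = 1 ∧
      ((e = 1 ∧ i₀ = 0 ∧ c = -1) ∨ (1 < e ∧ c = ((i₀ * a / e : ℕ) : ℤ))) := by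
  rcases Nat.lt_or_ge 1 e with h1 | h1
  · obtain ⟨m, hm, hm1⟩ := Nat.exists_mul_mod_eq_one_of_coprime h h1
    refine ⟨m, ((m * a / e : ℕ) : ℤ), hm, ?_, Or.inr ⟨h1, rfl⟩⟩
    have h2 := Nat.div_add_mod (m * a) e
    rw [mul_comm m a, hm1] at h2
    have h3 : ((e * (m * a / e) + 1 : ℕ) : ℤ) = ((m * a : ℕ) : ℤ) := by
      rw [mul_comm m a, h2]
    push_cast at h3 ⊢
    linarith
  · have h2 : e = 1 := le_antisymm h1 (Nat.one_le_iff_ne_zero.2 he)
    subst h2
    exact ⟨0, -1, Nat.zero_lt_one, by norm_num, Or.inl ⟨rfl, rfl, rfl⟩⟩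

theorem main (k : Type u) [Field k] 
    (B : Type u) [CommRing B] [IsDomain B] [Algebra k B] [Algebra.FiniteType k B]
    (hreg : ∀ (P : Ideal B) [P.IsPrime], IsRegularLocalRing (Localization.AtPrime P))
    (N : ℕ) (hN : 0 < N) (hNk : IsUnit ((N : ℕ) : k)) (u : Bˣ) (α : ℕ) (f₁ : B) (hf₁ : f₁ ≠ 0)
    (hD : ∀ (P : Ideal (B ⧸ Ideal.span ({f₁} : Set B))) [P.IsPrime],
      IsRegularLocalRing (Localization.AtPrime P))
    (K : Type u) [CommRing K] [Algebra (AdjoinRoot (pol N ((u : B) * f₁ ^ α))) K]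
    [Algebra B K] [IsScalarTower B (AdjoinRoot (pol N ((u : B) * f₁ ^ α))) K]
    [IsLocalization.Away (algebraMap B (AdjoinRoot (pol N ((u : B) * f₁ ^ α))) f₁) K]
    (A : Subalgebra B K)
    (hA : A = Algebra.adjoin B (Set.range fun i : Fin N =>
      algebraMap (AdjoinRoot (pol N ((u : B) * f₁ ^ α))) K (AdjoinRoot.root _ ^ (i : ℕ)) *
      IsLocalization.Away.invSelf (S := K)
        (algebraMap B (AdjoinRoot (pol N ((u : B) * f₁ ^ α))) f₁) ^ ((i : ℕ) * α / N))) :
    Module.Finite B A ∧
      IsIntegralClosure A (AdjoinRoot (pol N ((u : B) * f₁ ^ α))) K ∧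
      ∀ (Q : Ideal A) [Q.IsPrime], IsRegularLocalRing (Localization.AtPrime Q) := by
  have hBn : IsNoetherianRing B := Algebra.FiniteType.isNoetherianRing k B
  have hBreg : IsRegularRing B := isRegularRing_iff.2 fun P _ => hreg P
  have hBfreg : IsRegularRing (B ⧸ Ideal.span {f₁}) := isRegularRing_iff.2 fun P _ => hD P
  have hN0 : N ≠ 0 := hN.ne'
  let g := N.gcd α
  have hg0 : 0 < g := Nat.gcd_pos_of_pos_left α hN
  obtain ⟨e, hNg⟩ : g ∣ N := Nat.gcd_dvd_left N α
  obtain ⟨a, hα⟩ : g ∣ α := Nat.gcd_dvd_right N α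
  have he0 : e ≠ 0 := by
    rintro rfl
    exact hN0 (by rw [hNg, mul_zero])
  have hcop : Nat.Coprime a e := by
    have h1 : Nat.gcd (g * e) (g * a) = g := by rw [← hNg, ← hα]
    rw [Nat.gcd_mul_left] at h1
    have h2 : Nat.gcd e a = 1 := by
      have := Nat.eq_of_mul_eq_mul_left hg0 (h1.trans (mul_one g).symm)
      exact this
    exact Nat.Coprime.symm h2
  obtain ⟨i₀, c, hi₀, hc, hcases⟩ := exists_inv a e he0 hcop
  have hNB : IsUnit ((N : ℕ) : B) := by
    have := hNk.map (algebraMap k B)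
    rwa [map_natCast] at this
  have hgeB : IsUnit ((g : B) * (e : B)) := by
    rw [hNg] at hNB
    push_cast at hNB
    exact hNB
  have hgB : IsUnit (g : B) := isUnit_of_mul_isUnit_left hgeB
  have heB : IsUnit (e : B) := isUnit_of_mul_isUnit_right hgeB
  obtain ⟨D, _, _, v, w, hfin, hDreg, hDw, hwn, hfD, hv, hw, hext, hlift, hadj⟩ :=
    exists_model (u := u) (f := f₁) hf₁ g e i₀ hg0.ne' he0 hgB heB
  obtain ⟨φ, hφv, hφw⟩ := hlift K (VV u f₁ N α K hN0 e a : K) (WW u f₁ N α K hN0 i₀ c : K)
    (by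
      have := congrArg Units.val (VV_pow u f₁ N α K hN0 hNg hα)
      rw [Units.val_pow_eq_pow_val] at this
      exact this)
    (by
      have := congrArg Units.val (WW_pow u f₁ N α K hN0 hc)
      rw [Units.val_pow_eq_pow_val, Units.val_mul, Units.val_pow_eq_pow_val, coe_FF] at this
      exact this)
  have hinj : Function.Injective φ := injective_of u f₁ N α K hN0 hNg hα hc he0 v w hv hw hfD hext
    φ hφv hφw
  have hrange : φ.range = Algebra.adjoin B
      {(VV u f₁ N α K hN0 e a : K), (WW u f₁ N α K hN0 i₀ c : K)} := by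
    rw [← Algebra.map_top, ← hadj, AlgHom.map_adjoin, Set.image_pair, hφv, hφw]
  have hTT : (TT u f₁ N α K hN0 : K) ∈ φ.range := by
    refine ⟨w ^ a * (v ^ (-c) : Dˣ), ?_⟩
    have h1 := TT_eq u f₁ N α K hN0 hc
    have h2 : Units.map (φ : D →+* K).toMonoidHom v = VV u f₁ N α K hN0 e a := Units.ext hφv
    rw [h1, zpow_natCast, Units.val_mul, Units.val_pow_eq_pow_val, ← hφw, ← h2, ← map_zpow]
    change φ (w ^ a * _) = φ w ^ a * φ _
    rw [map_mul, map_pow]
  have hinv : IsLocalization.Away.invSelf (S := K)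
      (algebraMap B (AdjoinRoot (pol N ((u : B) * f₁ ^ α))) f₁) =
      ((FF u f₁ N α K)⁻¹ : Kˣ) := by
    have h1 := IsLocalization.Away.mul_invSelf (S := K)
      (algebraMap B (AdjoinRoot (pol N ((u : B) * f₁ ^ α))) f₁)
    rw [← IsScalarTower.algebraMap_apply] at h1
    have h2 : (FF u f₁ N α K : K) * IsLocalization.Away.invSelf (S := K)
      (algebraMap B (AdjoinRoot (pol N ((u : B) * f₁ ^ α))) f₁) = 1 := h1
    exact Units.eq_inv_of_mul_eq_one_left h2
  have hgen : ∀ i : ℕ, algebraMap (AdjoinRoot (pol N ((u : B) * f₁ ^ α))) K (AdjoinRoot.root _ ^ i) *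
      IsLocalization.Away.invSelf (S := K)
        (algebraMap B (AdjoinRoot (pol N ((u : B) * f₁ ^ α))) f₁) ^ (i * α / N) =
      ((TT u f₁ N α K hN0 ^ (i : ℤ) * FF u f₁ N α K ^ (-((i * α / N : ℕ) : ℤ)) : Kˣ) : K) := by
    intro i
    rw [hinv, zpow_neg, ← inv_zpow, zpow_natCast, zpow_natCast, Units.val_mul,
      Units.val_pow_eq_pow_val, Units.val_pow_eq_pow_val, map_pow, coe_TT]
  -- `A` is the range of `φ`
  have hAr : A = φ.range := by
    apply le_antisymm
    · rw [hA, Algebra.adjoin_le_iff]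
      rintro _ ⟨i, rfl⟩
      dsimp only
      rw [hgen]
      have hle : (i : ℕ) * α / N * e ≤ i * a := by
        have h1 : (i : ℕ) * α / N * N ≤ i * α := Nat.div_mul_le_self _ _
        have h2 : (i : ℕ) * α / N * e * g ≤ i * a * g := by
          calc (i : ℕ) * α / N * e * g = (i : ℕ) * α / N * (g * e) := by ring
            _ = (i : ℕ) * α / N * N := by rw [← hNg]
            _ ≤ i * α := h1
            _ = i * (g * a) := by rw [← hα]
            _ = i * a * g := by ring
        exact Nat.le_of_mul_le_mul_right h2 hg0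
      rw [grp_gen (TT u f₁ N α K hN0) (FF u f₁ N α K) (VV u f₁ N α K hN0 e a) (WW u f₁ N α K hN0 i₀ c)
        i₀ a e c (by
          have := WW_pow u f₁ N α K hN0 hc
          rw [← zpow_natCast, ← zpow_natCast] at this
          exact this) (TT_eq u f₁ N α K hN0 hc) i _]
      have h3 : ((i : ℕ) : ℤ) * a - (((i : ℕ) * α / N : ℕ) : ℤ) * e =
          ((((i : ℕ) * a - (i : ℕ) * α / N * e : ℕ)) : ℤ) := by
        rw [Nat.cast_sub hle]
        push_cast
        rfl
      rw [h3, zpow_natCast, Units.val_mul, Units.val_pow_eq_pow_val]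
      have hWm : (WW u f₁ N α K hN0 i₀ c : K) ∈ φ.range := ⟨w, hφw⟩
      refine mul_mem (pow_mem hWm _) ?_
      have h2 : Units.map (φ : D →+* K).toMonoidHom v = VV u f₁ N α K hN0 e a := Units.ext hφv
      rw [← h2, ← map_zpow]
      exact ⟨_, rfl⟩
    · rw [hrange, Algebra.adjoin_le_iff]
      have hmem : ∀ i : ℕ, i < N → ((TT u f₁ N α K hN0 ^ (i : ℤ) *
          FF u f₁ N α K ^ (-((i * α / N : ℕ) : ℤ)) : Kˣ) : K) ∈ A := by
        intro i hi
        rw [← hgen, hA]
        exact Algebra.subset_adjoin ⟨⟨i, hi⟩, rfl⟩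
      rintro x (rfl | rfl)
      · -- `VV`
        rcases Nat.lt_or_ge e N with h1 | h1
        · have h2 := hmem e h1
          have h3 : e * α / N = a := by
            rw [hα, hNg, ← mul_assoc, mul_comm e g]
            exact Nat.mul_div_cancel_left a (by rw [← hNg]; exact hN)
          rw [h3] at h2
          exact h2
        · have hg1 : g = 1 := by
            by_contra hne
            have : 2 ≤ g := by omega
            have h4 : 2 * e ≤ N := by
              rw [hNg]
              exact Nat.mul_le_mul_right e this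
            omega
          have h2 := VV_pow u f₁ N α K hN0 hNg hα
          rw [hg1, pow_one] at h2
          rw [h2]
          exact A.algebraMap_mem u
      · -- `WW`
        rcases hcases with ⟨h1, h2, h3⟩ | ⟨h1, h2⟩
        · subst h2 h3
          have h4 : WW u f₁ N α K hN0 0 (-1) = FF u f₁ N α K := by
            rw [WW, Nat.cast_zero, zpow_zero, one_mul, neg_neg, zpow_one]
          rw [h4]
          exact A.algebraMap_mem f₁
        · have h3 : i₀ < N := lt_of_lt_of_le hi₀ (by rw [hNg]; exact Nat.le_mul_of_pos_left e hg0)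
          have h4 := hmem i₀ h3
          have h5 : i₀ * α / N = i₀ * a / e := by
            rw [hα, hNg, mul_left_comm]
            exact Nat.mul_div_mul_left _ _ hg0
          rw [h5, ← h2] at h4
          exact h4
  clear hA
  subst hAr
  let e' : D ≃ₐ[B] φ.range := AlgEquiv.ofInjective φ hinj
  refine ⟨Module.Finite.equiv e'.toLinearEquiv, ⟨Subtype.val_injective, ?_⟩, ?_⟩
  · intro x
    constructor
    · intro hx
      have hAfin : Module.Finite B (AdjoinRoot (pol N ((u : B) * f₁ ^ α))) :=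
        (monic_pol hN0 _).finite_adjoinRoot
      have hxB : IsIntegral B x := isIntegral_trans (A := AdjoinRoot (pol N ((u : B) * f₁ ^ α))) x hx
      let : Algebra D K := φ.toRingHom.toAlgebra
      have : IsScalarTower B D K := IsScalarTower.of_algebraMap_eq fun b => (φ.commutes b).symm
      have hxD : IsIntegral D x := hxB.tower_top
      have hred : IsReduced (D ⧸ Ideal.span {w}) := KumReg.isReduced_of_isRegularRing _
      have hwK : algebraMap D K w = (WW u f₁ N α K hN0 i₀ c : K) := hφw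
      have hAK : ∀ y : AdjoinRoot (pol N ((u : B) * f₁ ^ α)), algebraMap _ K y ∈ φ.range := by
        intro y
        have hy : y ∈ Algebra.adjoin B {AdjoinRoot.root (pol N ((u : B) * f₁ ^ α))} := by
          rw [AdjoinRoot.adjoinRoot_eq_top]
          exact Algebra.mem_top
        have hle : Algebra.adjoin B {AdjoinRoot.root (pol N ((u : B) * f₁ ^ α))} ≤
            φ.range.comap (IsScalarTower.toAlgHom B (AdjoinRoot (pol N ((u : B) * f₁ ^ α))) K) := by
          rw [Algebra.adjoin_le_iff, Set.singleton_subset_iff]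
          exact hTT
        exact hle hy
      obtain ⟨d, hd⟩ := KumReg.mem_range_of_isIntegral w x hinj
        (by rw [hwK]; exact (WW u f₁ N α K hN0 i₀ c).isUnit) (by
          obtain ⟨n, y, hy⟩ := IsLocalization.Away.surj
            (algebraMap B (AdjoinRoot (pol N ((u : B) * f₁ ^ α))) f₁) x
          rw [← IsScalarTower.algebraMap_apply] at hy
          obtain ⟨d, hd⟩ := hAK y
          refine ⟨e * n, (v ^ i₀ : Dˣ) ^ n * d, ?_⟩
          rw [pow_mul, ← map_pow, hw, map_mul, ← IsScalarTower.algebraMap_apply, mul_pow, map_mul,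
            mul_left_comm, hy, map_pow]
          congr 1
          exact hd.symm) hxD
      exact ⟨⟨x, ⟨d, hd⟩⟩, rfl⟩
    · rintro ⟨y, rfl⟩
      have hfin' : Module.Finite B φ.range := Module.Finite.equiv e'.toLinearEquiv
      have h1 : IsIntegral B y := Algebra.IsIntegral.isIntegral y
      have h2 : IsIntegral B (algebraMap φ.range K y) := h1.map (IsScalarTower.toAlgHom B φ.range K)
      exact h2.tower_top
  · intro Q hQ
    have := IsRegularRing.of_ringEquiv e'.toRingEquiv
    infer_instance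

end K910.KumFinal
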