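import Groth.Agent.Vanish.K910.SemiMain
import Groth.Agent.CohqA.IntClosed

/-!
# Numerical triviality of `c_1(L)^m` and growth of sections

* `exists_point`: an integral closed subscheme of dimension `0`.
* `not_growth`: if `L` is nef and `c_1(L)^m` is numerically trivial, `h^0(L^{νμ})` does not grow like `μ^m`.
* `nefA_of_gg`: a semi-ample module is nef.
* `growth_of_semiample`: if `L` is semi-ample and `(L^m · V) ≠ 0`, `h^0(L^{νμ})` grows at least like `μ^m`.
-/

set_option autoImplicit false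
universe u
open CategoryTheory CategoryTheory.Limits AlgebraicGeometry TopologicalSpace

namespace K910.NoGrowth

open Groth.Agent Groth.Agent.Fga Groth.Agent.Fga.PicMon Groth.Agent.Fga.RegSec K910.HZ K910.IL K910.Nef K910.Dev
  K910.Growth K910.NefGrowth K910.Semi

theorem exists_point (X : Scheme.{u}) [CompactSpace X] [Nonempty X] :
    ∃ (Z : Scheme.{u}) (i : Z ⟶ X) (_ : IsClosedImmersion i) (_ : IsIntegral Z),
      topologicalKrullDim Z = (0 : ℕ) := by
  obtain ⟨x, -, hx⟩ := (isClosed_univ (X := X)).exists_closed_singleton Set.univ_nonempty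
  obtain ⟨Z, i, hi, hZ, h⟩ := CohqA.IntClosed.exists_integral x
  refine ⟨Z, i, hi, hZ, ?_⟩
  have h1 : Set.range i = {x} := by
    rw [← MultInt.closure_generic X Z i, h, hx.closure_eq]
  have h2 : Subsingleton Z := ⟨fun a b => i.isClosedEmbedding.injective (by
    have ha : i a ∈ ({x} : Set X) := h1 ▸ ⟨a, rfl⟩
    have hb : i b ∈ ({x} : Set X) := h1 ▸ ⟨b, rfl⟩
    exact (Set.mem_singleton_iff.1 ha).trans (Set.mem_singleton_iff.1 hb).symm)⟩
  have h3 : Nonempty (IrreducibleCloseds Z) :=
    ⟨⟨Set.univ, (irreducibleSpace_def Z).1 inferInstance, isClosed_univ⟩⟩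
  have h4 : Subsingleton (IrreducibleCloseds Z) := ⟨fun A B => by
    ext z
    obtain ⟨a, ha⟩ := A.2.nonempty
    obtain ⟨b, hb⟩ := B.2.nonempty
    have e1 := Subsingleton.elim a z
    have e2 := Subsingleton.elim b z
    subst e1
    subst e2
    exact ⟨fun _ => hb, fun _ => ha⟩⟩
  exact Order.krullDim_eq_zero

/-- `IL` with a power in the first entries. -/
theorem IL_replicate_pow (k : Type u) [Field k] {X : Scheme.{u}} [X.Over (Spec (CommRingCat.of k))]
    [IsProper (X ↘ Spec (CommRingCat.of k))] {d : ℕ} (hd : topologicalKrullDim X ≤ d) {p x : MC X} (hp : Inv p)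
    (ν j : ℕ) {l : List (MC X)} (hl : InvL l) (hx : DLt (j + l.length + 1) x) :
    IL k X d (List.replicate j (p ^ ν) ++ l) x = ν ^ j * IL k X d (List.replicate j p ++ l) x := by
  have hI : ∀ j, InvL (List.replicate j (p ^ ν) ++ l) := fun j q hq => by
    rcases List.mem_append.1 hq with hq | hq
    · rw [List.eq_of_mem_replicate hq]; exact hp.pow ν
    · exact hl q hq
  induction j generalizing l with
  | zero => simp
  | succ j ih =>
    rw [List.replicate_succ, List.replicate_succ, List.cons_append, List.cons_append,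
      IL_pow k hd (hI j) hp (by
        rw [List.length_append, List.length_replicate]
        exact hx.mono (by omega)),
      ← IL_perm k d (List.perm_middle (a := p) (l₁ := List.replicate j (p ^ ν)) (l₂ := l)),
      ih (hl.cons hp) (by
        rw [List.length_cons]
        exact hx.mono (by omega)) (fun j q hq => by
          rcases List.mem_append.1 hq with hq | hq
          · rw [List.eq_of_mem_replicate hq]; exact hp.pow ν
          · exact hl.cons hp q hq),
      IL_perm k d (List.perm_middle (a := p) (l₁ := List.replicate j p) (l₂ := l))]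
    ring

variable (k : Type u) [Field k] {X : Scheme.{u}} [X.Over (Spec (CommRingCat.of k))]
  [IsProper (X ↘ Spec (CommRingCat.of k))] {d : ℕ} (hd : topologicalKrullDim X ≤ d)

include hd

/-- No growth of order `m`. -/
theorem not_growth [Nonempty X] {A A' L L' : X.Modules} (hA : CohB1.IsAmple A) (hA' : PicF.IsInvertible A')
    (hAA' : mc A' * mc A = 1) (hL : PicF.IsInvertible L) (hL' : PicF.IsInvertible L') (hLL' : mc L' * mc L = 1)
    (hnef : NefA (mc A') (mc L')) (m : ℕ)
    (hm : ∀ (V : Scheme.{u}) (i : V ⟶ X) [IsClosedImmersion i], IsIntegral V → topologicalKrullDim V = (m : ℕ) →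
      IL k X d (List.replicate m (mc L')) (mc ((Coh.push i).obj (Coh.structureModule V))) = 0) :
    ¬ ∃ ν a : ℕ, 0 < ν ∧ 0 < a ∧ ∀ μ : ℕ, 1 ≤ μ → μ ^ m ≤ a * HZ k X (mc L ^ (ν * μ)) := by
  have hNoeth := IntAdd.isNoetherian k X
  rcases Nat.eq_zero_or_pos m with h0 | h0
  · subst h0
    exfalso
    obtain ⟨Z, i, hi, hZ, hdim⟩ := exists_point X
    have h1 := hm Z i hZ hdim
    have hO : Coh.IsCoh (Coh.structureModule Z) := by
      have : IsLocallyNoetherian Z := LocallyOfFiniteType.isLocallyNoetherian i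
      exact HodgeSec.isCoh_of_isInvertible Fdesc.LocGen.isInvertible_structureModule
    have h2 := IL_pos k hd (l := []) (fun p hp => absurd hp List.not_mem_nil)
      (CohqB.FinAmple.isCoh_push i hO) (by
        rw [CohqB.DevSimple.support_push, Pic13.H956.Numbers.support_unit, Set.image_univ, dim_range, hdim]
        rfl)
    rw [List.replicate_zero] at h1
    rw [h1] at h2
    exact lt_irrefl _ h2
  · rintro ⟨ν, a, hν, ha, hgrow⟩
    have hO : Coh.IsCoh (Coh.structureModule X) :=
      HodgeSec.isCoh_of_isInvertible Fdesc.LocGen.isInvertible_structureModule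
    obtain ⟨C, hC⟩ := main_bound k hd hA hA' hAA' hL hL' hLL' hnef m h0 hm d (Coh.structureModule X) hO
      ((Topology.IsInducing.subtypeVal.topologicalKrullDim_le).trans hd) (Inv.one (X := X))
    obtain ⟨r, rfl⟩ : ∃ r, m = r + 1 := ⟨m - 1, by omega⟩
    simp only [mc_one, mul_one, Nat.add_sub_cancel] at hC
    set μ := a * C * (ν + 1) ^ r + 1 with hμ
    have h1 := hgrow μ (Nat.le_add_left _ _)
    have h2 := hC (ν * μ)
    have h3 : ν * μ + 1 ≤ (ν + 1) * μ := by
      have : 1 ≤ μ := Nat.le_add_left _ _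
      nlinarith
    have h4 : 0 < μ ^ r := pow_pos (Nat.succ_pos _) r
    have h5 : a * HZ k X (mc L ^ (ν * μ)) < μ ^ (r + 1) := by
      calc a * HZ k X (mc L ^ (ν * μ)) ≤ a * (C * (ν * μ + 1) ^ r) := Nat.mul_le_mul_left _ h2
        _ ≤ a * (C * ((ν + 1) * μ) ^ r) := by gcongr
        _ = a * C * (ν + 1) ^ r * μ ^ r := by rw [mul_pow]; ring
        _ < μ * μ ^ r := Nat.mul_lt_mul_of_pos_right (by omega) h4
        _ = μ ^ (r + 1) := (pow_succ' μ r).symm
    omega

omit hd in
include k in
/-- A semi-ample module is nef. -/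
theorem nefA_of_gg {A A' L L' : X.Modules} (hA : CohB1.IsAmple A)
    (hAA' : mc A' * mc A = 1) (hL : PicF.IsInvertible L) (hL' : PicF.IsInvertible L') (hLL' : mc L' * mc L = 1)
    {μ : ℕ} (hμ : 0 < μ) (hgg : Curv2.IsGloballyGenerated (CohB1.tensorPow L μ)) : NefA (mc A') (mc L') := by
  have hNoeth := IntAdd.isNoetherian k X
  have hSep := HypSec.isSeparated k X
  have hN : PicF.IsInvertible (CohB1.tensorPow L μ) := Fdesc.LocGen.isInvertible_tensorPow hL μ
  have key : ∀ (B : X.Modules), CohB1.IsAmple B → ∀ j : ℕ,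
      ∃ M : X.Modules, CohB1.IsAmple M ∧ mc M = mc (CohB1.tensorPow L μ) ^ j * mc B := by
    intro B hB j
    induction j with
    | zero => exact ⟨B, hB, by rw [pow_zero, one_mul]⟩
    | succ j ih =>
      obtain ⟨M, hM, hMj⟩ := ih
      refine ⟨CohB1.tensorMod M (CohB1.tensorPow L μ), S2328.result X M _ hM hN fun x => ?_, ?_⟩
      · obtain ⟨s, hs⟩ := Ega1.GlobGenPt.exists_mem_genLocus hN hgg x
        refine ⟨0, Fdesc.LocGen.powHom s 1, ?_⟩
        rwa [Fdesc.LocGen.genLocus_powHom hN s 0]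
      · rw [mc_tensor, hMj, pow_succ]
        simp only [mul_assoc, mul_comm, mul_left_comm]
  refine ⟨inv_mc hL', fun ν hν => ?_⟩
  obtain ⟨M, hM, hMm⟩ := key (CohB1.tensorPow A μ) (isAmple_pow hA hμ) ν
  have hLA : PicF.IsInvertible (CohB1.tensorMod (CohB1.tensorPow L ν) A) :=
    Fdesc.LocGen.isInvertible_tensorMod (Fdesc.LocGen.isInvertible_tensorPow hL ν) hA.1
  refine ⟨CohB1.tensorMod (CohB1.tensorPow L ν) A, (S2327.result X _ hLA μ hμ).2 ?_, ?_⟩
  · obtain ⟨e⟩ := (mc_eq_iff M (CohB1.tensorPow (CohB1.tensorMod (CohB1.tensorPow L ν) A) μ)).1 (by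
      rw [hMm, mc_tensorPow, mc_tensorPow, mc_tensorPow, mc_tensor, mc_tensorPow, mul_pow, ← pow_mul, ← pow_mul,
        mul_comm μ ν])
    exact S2329.isAmple_of_iso e hM
  · rw [mc_tensor, mc_tensorPow]
    calc mc L ^ ν * mc A * (mc L' ^ ν * mc A') = (mc L' * mc L) ^ ν * (mc A' * mc A) := by
          rw [mul_pow]; simp only [mul_assoc, mul_comm, mul_left_comm]
      _ = 1 := by rw [hLL', hAA', one_pow, one_mul]

/-- Growth of sections of a semi-ample module. -/
theorem growth_of_semiample [Nonempty X] {L L' : X.Modules}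
    (hL : PicF.IsInvertible L) (hL' : PicF.IsInvertible L') (hLL' : mc L' * mc L = 1)
    {μ₀ : ℕ} (hμ₀ : 0 < μ₀) (hgg : Curv2.IsGloballyGenerated (CohB1.tensorPow L μ₀)) (m : ℕ)
    (Z : Scheme.{u}) (i : Z ⟶ X) [IsClosedImmersion i] [IsIntegral Z] (hZ : topologicalKrullDim Z = (m : ℕ))
    (hne : IL k X d (List.replicate m (mc L')) (mc ((Coh.push i).obj (Coh.structureModule Z))) ≠ 0) :
    ∃ ν a : ℕ, 0 < ν ∧ 0 < a ∧ ∀ μ : ℕ, 1 ≤ μ → μ ^ m ≤ a * HZ k X (mc L ^ (ν * μ)) := by
  have hNoeth := IntAdd.isNoetherian k X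
  have hN : PicF.IsInvertible (CohB1.tensorPow L μ₀) := Fdesc.LocGen.isInvertible_tensorPow hL μ₀
  have hN' : PicF.IsInvertible (CohB1.tensorPow L' μ₀) := Fdesc.LocGen.isInvertible_tensorPow hL' μ₀
  have hO : Coh.IsCoh (Coh.structureModule Z) := by
    have : IsLocallyNoetherian Z := LocallyOfFiniteType.isLocallyNoetherian i
    exact HodgeSec.isCoh_of_isInvertible Fdesc.LocGen.isInvertible_structureModule
  have hp := CohqB.FinAmple.isCoh_push i hO
  have hx : DLt (m + 1) (mc ((Coh.push i).obj (Coh.structureModule Z))) := dLt_of_le hp (by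
    rw [CohqB.DevSimple.support_push, Pic13.H956.Numbers.support_unit, Set.image_univ, dim_range, hZ])
  have h1 := IL_replicate_pow k hd (inv_mc hL') μ₀ m (l := []) (fun p hp => absurd hp List.not_mem_nil) (by simpa using hx)
  rw [List.append_nil, List.append_nil, ← mc_tensorPow] at h1
  have h2 := fun q => HZ_ge k hd hN hN' (by rw [mc_tensorPow, mc_tensorPow, ← mul_pow, hLL', one_pow])
    (Ega1.GlobGenPt.exists_mem_genLocus hN hgg) m Z i hZ (by
      rw [h1]
      exact mul_ne_zero (by positivity) hne) q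
  refine ⟨μ₀, m.factorial, hμ₀, Nat.factorial_pos m, fun μ _ => ?_⟩
  have h3 := h2 μ
  rw [mc_tensorPow, ← pow_mul] at h3
  have h4 : μ ^ m ≤ m.factorial * (μ + m).choose m := by
    rw [← Nat.ascFactorial_eq_factorial_mul_choose]
    exact (Nat.pow_le_pow_left (Nat.le_succ μ) m).trans (Nat.pow_succ_le_ascFactorial (μ + 1) m)
  exact h4.trans (Nat.mul_le_mul_left _ h3)

end K910.NoGrowth
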