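import Groth.Agent.Fga.PosMain
import Groth.Agent.Fga.HodgeSec
import Groth.Agent.Fga.SnapperTwist
import Groth.Agent.S0051
import Groth.Agent.S2329

/-!
# Dimensions of spaces of global sections, on isomorphism classes

`X` proper over a field `k`; `HZ k X c = dim_k H^0(X, F)` for `c = mc F`.

* `HZ_le_of_shortExact`: behaviour in short exact sequences, after an invertible twist.
* `HZ_le_mulS`: multiplication by an `F`-regular section.
-/

set_option autoImplicit false
universe u
open CategoryTheory CategoryTheory.Limits AlgebraicGeometry TopologicalSpace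

namespace K910.HZ

open Groth.Agent Groth.Agent.Fga Groth.Agent.Fga.PicMon Groth.Agent.Fga.RegSec
  Groth.Agent.VarietyA.EulerLES

/-- Dimension of the middle term of an exact sequence. -/
theorem finrank_le_of_exact {k A B C : Type*} [Field k] [AddCommGroup A] [AddCommGroup B]
    [AddCommGroup C] [Module k A] [Module k B] [Module k C] [Module.Finite k A] [Module.Finite k B]
    [Module.Finite k C] (f : A →ₗ[k] B) (g : B →ₗ[k] C) (h : Function.Exact f g) :
    Module.finrank k B ≤ Module.finrank k A + Module.finrank k C := by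
  have h1 := LinearMap.finrank_range_add_finrank_ker g
  have h2 : LinearMap.ker g = LinearMap.range f := (LinearMap.exact_iff.1 h)
  have h3 : Module.finrank k (LinearMap.range f) ≤ Module.finrank k A := LinearMap.finrank_range_le f
  have h4 : Module.finrank k (LinearMap.range g) ≤ Module.finrank k C := Submodule.finrank_le _
  rw [h2] at h1
  omega

variable (k : Type u) [Field k] (X : Scheme.{u}) [X.Over (Spec (CommRingCat.of k))]

/-- `dim_k H^0` on isomorphism classes. -/
noncomputable def HZ (c : MC X) : ℕ :=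
  Quot.lift (fun F : X.Modules => Module.finrank k (Coh.HH X F 0))
    (fun _ _ ⟨e⟩ => (hmapEquiv k X e 0).finrank_eq) c

theorem HZ_mc (F : X.Modules) : HZ k X (mc F) = Module.finrank k (Coh.HH X F 0) := rfl

variable {k X}

/-- The invertible classes. -/
def Inv (c : MC X) : Prop := ∃ L : X.Modules, PicF.IsInvertible L ∧ mc L = c

theorem Inv.mul {a b : MC X} (ha : Inv a) (hb : Inv b) : Inv (a * b) := by
  obtain ⟨L, hL, rfl⟩ := ha
  obtain ⟨M, hM, rfl⟩ := hb
  exact ⟨CohB1.tensorMod L M, Fdesc.LocGen.isInvertible_tensorMod hL hM, rfl⟩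

theorem Inv.one : Inv (1 : MC X) := ⟨Coh.structureModule X, Fdesc.LocGen.isInvertible_structureModule, rfl⟩

theorem Inv.pow {a : MC X} (ha : Inv a) (n : ℕ) : Inv (a ^ n) := by
  induction n with
  | zero => rw [pow_zero]; exact Inv.one
  | succ n ih => rw [pow_succ]; exact ih.mul ha

theorem inv_mc {L : X.Modules} (hL : PicF.IsInvertible L) : Inv (mc L) := ⟨L, hL, rfl⟩

theorem isCoh_tensor {L F : X.Modules} (hL : PicF.IsInvertible L) (hF : Coh.IsCoh F) :
    Coh.IsCoh (CohB1.tensorMod L F) :=
  Sga67.CohBasic.isCoh_of_iso (Ega2.Tens.swap F _) (TwistCoh.isCoh_tensor hF hL)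

variable [IsProper (X ↘ Spec (CommRingCat.of k))]

variable (k) in
theorem HZ_le_of_shortExact (S : ShortComplex X.Modules) (hS : S.ShortExact) (h1 : Coh.IsCoh S.X₁)
    (h2 : Coh.IsCoh S.X₂) (h3 : Coh.IsCoh S.X₃) {c : MC X} (hc : Inv c) :
    HZ k X (c * mc S.X₁) ≤ HZ k X (c * mc S.X₂) ∧
      HZ k X (c * mc S.X₂) ≤ HZ k X (c * mc S.X₁) + HZ k X (c * mc S.X₃) := by
  obtain ⟨L, hL, rfl⟩ := hc
  have hT := TwistCoh.shortExact_tensorBi hL S hS
  have f1 : Module.Finite k (Coh.HH X (CohB1.tensorMod L S.X₁) 0) := HodgeSec.finite_HH' k (isCoh_tensor hL h1) 0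
  have f2 : Module.Finite k (Coh.HH X (CohB1.tensorMod L S.X₂) 0) := HodgeSec.finite_HH' k (isCoh_tensor hL h2) 0
  have f3 : Module.Finite k (Coh.HH X (CohB1.tensorMod L S.X₃) 0) := HodgeSec.finite_HH' k (isCoh_tensor hL h3) 0
  have hinj := injectiveA₀ k _ hT
  constructor
  · exact LinearMap.finrank_le_finrank_of_injective hinj
  · rw [← mc_tensor, ← mc_tensor, ← mc_tensor, HZ_mc, HZ_mc, HZ_mc]
    exact finrank_le_of_exact _ _ (exactA₂ k _ hT 0)

/-- The short exact sequence attached to an `F`-regular section. -/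
theorem shortExact_mulS {N F : X.Modules} (s : Coh.structureModule X ⟶ N) (hmono : Mono (mulS s F)) :
    (ShortComplex.mk (mulS s F) (cokernel.π (mulS s F)) (cokernel.condition _)).ShortExact :=
  { exact := ShortComplex.exact_cokernel _
    mono_f := hmono
    epi_g := inferInstanceAs (Epi (cokernel.π (mulS s F))) }

variable (k) in
theorem HZ_le_mulS {N F : X.Modules} (hN : PicF.IsInvertible N) (hF : Coh.IsCoh F)
    (s : Coh.structureModule X ⟶ N) (hmono : Mono (mulS s F)) {c : MC X} (hc : Inv c) :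
    HZ k X (c * mc F) ≤ HZ k X (c * mc N * mc F) := by
  have := IntAdd.isNoetherian k X
  have hNF : Coh.IsCoh (CohB1.tensorMod N F) := isCoh_tensor hN hF
  have hC : Coh.IsCoh (cokernel (mulS s F)) := Sga67.CohBasic.isCoh_cokernel _ hF.1 hNF
  have h := (HZ_le_of_shortExact k _ (shortExact_mulS s hmono) hF hNF hC hc).1
  rw [mul_assoc]
  exact h

variable (k) in
theorem HZ_le_mulS_pow {N F : X.Modules} (hN : PicF.IsInvertible N) (hF : Coh.IsCoh F)
    (s : Coh.structureModule X ⟶ N) (hmono : Mono (mulS s F)) {c : MC X} (hc : Inv c) (q : ℕ) :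
    HZ k X (c * mc F) ≤ HZ k X (c * mc N ^ q * mc F) := by
  induction q with
  | zero => rw [pow_zero, mul_one]
  | succ q ih =>
    refine ih.trans ?_
    rw [pow_succ, ← mul_assoc]
    exact HZ_le_mulS k hN hF s hmono (hc.mul ((inv_mc hN).pow q))

end K910.HZ
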