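import Groth.Agent.Vanish.K910.SplitJ
import Groth.Agent.AbVar.K504.Hodge
import Groth.Agent.Surf.K455.Canon
import Groth.Agent.S1535
import Groth.Agent.Models.H67.NormFam

/-!
# Splitting of the pull-back of top forms for generically finite maps

`split`: `π : X₁ ⟶ X` proper and surjective between smooth integral schemes of the same dimension `n` over
a field of characteristic zero (not necessarily proper), `W`, `W₁` the canonical
modules: `i : W ⟶ π_* W₁`, `r : π_* W₁ ⟶ W` with `i ≫ r = 𝟙`.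
-/

set_option autoImplicit false
set_option backward.isDefEq.respectTransparency false

universe u

noncomputable section

open CategoryTheory CategoryTheory.Limits AlgebraicGeometry Opposite TopologicalSpace
open Groth.Agent.Sga67.Sec K680.FormHom K475.GenStalk Groth.Agent.CycB.ModStalk
open K476.ExtStalk (germ_res germ_resO)
open K910.DescGlue K910.DescTop K910.SplitForm

namespace K910.Split

/-! ### Hartogs for invertible modules, in terms of stalks -/

theorem mem_range_of_codim_one {X : Scheme.{u}} [IsIntegral X] [IsLocallyNoetherian X]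
    (hN : ∀ x : X, IsIntegrallyClosed (X.presheaf.stalk x)) {W : X.Modules}
    (hW : PicF.IsInvertible W) {v : W.presheaf.stalk (η X)} {x : X}
    (h : ∀ y : X, y ⤳ x → IsDiscreteValuationRing (X.presheaf.stalk y) →
      v ∈ Set.range (W.presheaf.stalkSpecializes (spec y))) :
    v ∈ Set.range (W.presheaf.stalkSpecializes (spec x)) := by
  obtain ⟨t, ht⟩ := exists_isGen hW x
  have htη : IsGen W (η X) (W.presheaf.stalkSpecializes (spec x) t) := ht.stalkSpecializes hW (spec x)
  obtain ⟨z, hz⟩ := htη.2 v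
  change (z : X.presheaf.stalk (η X)) • _ = v at hz
  obtain ⟨f, g, hg, hfg⟩ := IsFractionRing.div_surjective (A := X.presheaf.stalk x)
    (z : X.functionField)
  have hg0 : g ≠ 0 := nonZeroDivisors.ne_zero hg
  have hg0' : algebraMap (X.presheaf.stalk x) X.functionField g ≠ 0 := by
    rw [Ne, IsFractionRing.to_map_eq_zero_iff]
    exact hg0
  have key : g ∣ f := by
    refine Groth.Agent.Models.H67.NormFam.stalk_hartogs hN hg0 (fun y hyx hy _ => ?_)
    obtain ⟨m, hm⟩ := h y hyx hy
    have hty : IsGen W y (W.presheaf.stalkSpecializes hyx t) := ht.stalkSpecializes hW hyx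
    obtain ⟨a, ha⟩ := hty.2 m
    change (a : X.presheaf.stalk y) • _ = m at ha
    refine ⟨a, ?_⟩
    have hcomp : ∀ b : X.presheaf.stalk x, algebraMap (X.presheaf.stalk y) X.functionField
        ((X.presheaf.stalkSpecializes hyx).hom b) =
        algebraMap (X.presheaf.stalk x) X.functionField b := by
      intro b
      have h1 : X.presheaf.stalkSpecializes hyx ≫ X.presheaf.stalkSpecializes (spec y) =
          X.presheaf.stalkSpecializes (spec x) := TopCat.Presheaf.stalkSpecializes_comp _ _ _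
      exact congrArg (fun φ => φ.hom b) h1
    have h2 : z = algebraMap (X.presheaf.stalk y) X.functionField a := by
      apply htη.1
      change (z : X.presheaf.stalk (η X)) • _ =
        (X.presheaf.stalkSpecializes (spec y) a : X.presheaf.stalk (η X)) • _
      rw [hz, ← hm, ← ha, stalkSpecializes_smul, spec_spec]
    apply IsFractionRing.injective (X.presheaf.stalk y) X.functionField
    change algebraMap _ _ ((X.presheaf.stalkSpecializes hyx).hom f) =
      algebraMap _ _ ((X.presheaf.stalkSpecializes hyx).hom g * a)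
    rw [map_mul, hcomp, hcomp, ← h2, ← hfg, mul_div_cancel₀ _ hg0']
  obtain ⟨c, rfl⟩ := key
  refine ⟨c • t, ?_⟩
  rw [stalkSpecializes_smul, ← hz]
  congr 1
  change algebraMap (X.presheaf.stalk x) X.functionField c = z
  rw [← hfg, map_mul, mul_div_cancel_left₀ _ hg0']

/-! ### The trace on generic stalks -/

section Generic

variable {X₁ X : Scheme.{u}} (π : X₁ ⟶ X) [IsIntegral X₁] [IsIntegral X]
  (hη : π (genericPoint X₁) = genericPoint X) {W : X.Modules} {W₁ : X₁.Modules}
  (J : W ⟶ (Scheme.Modules.pushforward π).obj W₁)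

include hη in
theorem mem_pre {V : X.Opens} (h : η X ∈ V) : η X₁ ∈ π ⁻¹ᵁ V := by
  change π (η X₁) ∈ V
  rw [hη]
  exact h

/-- `J` on generic stalks is semilinear. -/
theorem germ_im {V₀ V : X.Opens} (h₀ : η X ∈ V₀) (h : η X ∈ V) (β₀ : Sec W V₀) (β : Sec W V)
    (c : X.presheaf.stalk (η X))
    (hc : W.presheaf.germ V (η X) h β = c • W.presheaf.germ V₀ (η X) h₀ β₀) :
    W₁.presheaf.germ (π ⁻¹ᵁ V) (η X₁) (mem_pre π hη h) (im π J β) =
      (K660.FF.ff π hη c : X₁.presheaf.stalk (η X₁)) •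
        W₁.presheaf.germ (π ⁻¹ᵁ V₀) (η X₁) (mem_pre π hη h₀) (im π J β₀) := by
  have hs : ∀ {V : X.Opens} (h : η X ∈ V) (β : Sec W V),
      W.presheaf.stalkSpecializes (specializes_of_eq hη) (W.presheaf.germ V (η X) h β) =
        W.presheaf.germ V (π (η X₁)) (mem_pre π hη h) β := fun h β =>
    TopCat.Presheaf.germ_stalkSpecializes_apply W.presheaf h (specializes_of_eq hη) β
  have h1 := congrArg (W.presheaf.stalkSpecializes (specializes_of_eq hη)) hc
  rw [stalkSpecializes_smul, hs, hs] at h1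
  have h2 := congrArg (pst π J (η X₁)) h1
  rw [pst_smul, pst_germ, pst_germ] at h2
  exact h2

end Generic

section Main

variable (k : Type u) [Field k] [CharZero k] {X X₁ : Scheme.{u}}
  [X.Over (Spec (CommRingCat.of k))] [X₁.Over (Spec (CommRingCat.of k))]
  [IsIntegral X] [IsIntegral X₁] [LocallyOfFiniteType (X₁ ↘ Spec (CommRingCat.of k))]
  [LocallyOfFiniteType (X ↘ Spec (CommRingCat.of k))] (π : X₁ ⟶ X) [IsProper π]
  (hπ : π ≫ (X ↘ Spec (CommRingCat.of k)) = X₁ ↘ Spec (CommRingCat.of k))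
  (hdim : topologicalKrullDim X₁ = topologicalKrullDim X)
  (hX : ∀ x : X, IsRegularLocalRing (X.presheaf.stalk x))
  (hX₁ : ∀ y : X₁, IsRegularLocalRing (X₁.presheaf.stalk y))
  (hη : π (genericPoint X₁) = genericPoint X)
  {W : X.Modules} {W₁ : X₁.Modules} (hW : PicF.IsInvertible W) (hW₁ : PicF.IsInvertible W₁)
  (J : W ⟶ (Scheme.Modules.pushforward π).obj W₁)

include hπ hdim hX hX₁ hη hW hW₁ in
set_option maxHeartbeats 1000000 in
theorem exists_retraction
    (hJ1 : ∀ (U : X.Opens) (β : Γ(W, U)), β ≠ 0 → ∀ h : genericPoint X₁ ∈ π ⁻¹ᵁ U,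
        W₁.presheaf.germ (π ⁻¹ᵁ U) (genericPoint X₁) h (im π J β) ≠ 0)
    (hJ3 : ∀ (y : X₁), IsDiscreteValuationRing (X₁.presheaf.stalk y) →
        IsDiscreteValuationRing (X.presheaf.stalk (π y)) → ResAlg (π.stalkMap y).hom →
        ∀ t : X.presheaf.stalk (π y), Irreducible t → ∀ m : W.presheaf.stalk (π y),
        IsGen W (π y) m → ∀ ω : W₁.presheaf.stalk y,
        ∃ a ∈ IsLocalRing.maximalIdeal (X₁.presheaf.stalk y),
          π.stalkMap y t • ω = a • pst π J y m) :
    ∃ r : (Scheme.Modules.pushforward π).obj W₁ ⟶ W, J ≫ r = 𝟙 W := by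
  have hNoeth : IsLocallyNoetherian X :=
    LocallyOfFiniteType.isLocallyNoetherian (X ↘ Spec (CommRingCat.of k))
  have hNX : ∀ x : X, IsIntegrallyClosed (X.presheaf.stalk x) := fun x => (isNormal hX x).2
  have hI : Inj W := inj_of_isInvertible hW
  -- generators at the generic points
  obtain ⟨V₀, hV₀, -, h₀, β₀, hβ₀⟩ := exists_gen hW (x := η X) (U := ⊤) trivial
  have hne : ∀ {V : X.Opens} (_ : η X ∈ V) {β : Sec W V} (_ : IsGenOn W V β), β ≠ 0 := by
    intro V hV β hβ
    have hN : Nonempty V := ⟨⟨_, hV⟩⟩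
    rintro rfl
    have h3 : (1 : Γ(X, V)) = 0 := by
      apply (smul_inj hβ).1
      change (1 : Γ(X, V)) • (0 : Sec W V) = (0 : Γ(X, V)) • (0 : Sec W V)
      rw [smul_zero, smul_zero]
    exact one_ne_zero h3
  set b₀ : W.presheaf.stalk (η X) := W.presheaf.germ V₀ (η X) h₀ β₀ with hb₀
  have hb₀g : IsGen W (η X) b₀ := hβ₀.isGen _ h₀
  set ε₀ : W₁.presheaf.stalk (η X₁) :=
    W₁.presheaf.germ (π ⁻¹ᵁ V₀) (η X₁) (mem_pre π hη h₀) (im π J β₀) with hε₀
  have hε₀0 : ε₀ ≠ 0 := hJ1 V₀ β₀ (hne h₀ hβ₀) _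
  have hgenL : ∀ m : W₁.presheaf.stalk (η X₁), m ≠ 0 → IsGen W₁ (η X₁) m := by
    intro m hm
    obtain ⟨t, ht⟩ := exists_isGen hW₁ (η X₁)
    obtain ⟨c, hc⟩ := ht.2 m
    change (c : X₁.presheaf.stalk (η X₁)) • t = m at hc
    rw [← hc]
    refine ht.unit_smul ?_
    have hc0 : (c : X₁.functionField) ≠ 0 := by
      intro h0
      apply hm
      rw [← hc, show (c : X₁.presheaf.stalk (η X₁)) = 0 from h0, zero_smul]
    exact IsUnit.mk0 (G₀ := X₁.functionField) _ hc0
  have hε₀g : IsGen W₁ (η X₁) ε₀ := hgenL _ hε₀0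
  let co : W₁.presheaf.stalk (η X₁) ≃ₗ[X₁.presheaf.stalk (η X₁)] X₁.presheaf.stalk (η X₁) :=
    (LinearEquiv.ofBijective (LinearMap.toSpanSingleton (X₁.presheaf.stalk (η X₁))
      (W₁.presheaf.stalk (η X₁)) ε₀) hε₀g).symm
  have hco : ∀ m, co m • ε₀ = m := fun m => co.symm_apply_apply m
  have hco' : ∀ (l : X₁.presheaf.stalk (η X₁)), co (l • ε₀) = l := fun l =>
    hε₀g.1 (hco (l • ε₀))
  -- the trace
  obtain ⟨d, hd, htrd⟩ : ∃ d : ℕ, d ≠ 0 ∧ ∀ c : X.functionField,
      tr π hη (K660.FF.ff π hη c) = d • c := by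
    letI := (K660.FF.ff π hη).toAlgebra
    haveI : FiniteDimensional X.functionField X₁.functionField :=
      K562.DimF.finiteDimensional_ff k π hπ hdim hη
    exact ⟨Module.finrank X.functionField X₁.functionField, Module.finrank_pos.ne',
      fun c => Algebra.trace_algebraMap c⟩
  have htrs : ∀ (c : X.functionField) (z : X₁.functionField),
      tr π hη (K660.FF.ff π hη c * z) = c * tr π hη z := by
    intro c z
    letI := (K660.FF.ff π hη).toAlgebra
    have h1 : K660.FF.ff π hη c * z = c • z := rfl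
    rw [h1]
    exact map_smul (Algebra.trace X.functionField X₁.functionField) c z
  have htra : ∀ z z' : X₁.functionField, tr π hη (z + z') = tr π hη z + tr π hη z' := by
    intro z z'
    letI := (K660.FF.ff π hη).toAlgebra
    exact map_add (Algebra.trace X.functionField X₁.functionField) z z'
  have hchar : ∀ (R : Type u) [CommRing R] [Nontrivial R] (F : k →+* R), IsUnit (d : R) := by
    intro R _ _ F
    have h1 : IsUnit (d : k) := IsUnit.mk0 _ (Nat.cast_ne_zero.mpr hd)
    have h2 := h1.map F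
    rwa [map_natCast] at h2
  have hdK : (d : X.functionField) ≠ 0 := by
    let F : k →+* X.functionField := (X.presheaf.germ ⊤ (η X) trivial).hom.comp
      ((Scheme.ΓSpecIso (CommRingCat.of k)).inv ≫ (X ↘ Spec (CommRingCat.of k)).appTop).hom
    exact (hchar _ F).ne_zero
  let TT : W₁.presheaf.stalk (η X₁) → W.presheaf.stalk (η X) := fun m =>
    (((d : X.functionField)⁻¹ * tr π hη (co m) : X.functionField) : X.presheaf.stalk (η X)) • b₀
  have hTT : ∀ m, TT m = (((d : X.functionField)⁻¹ * tr π hη (co m) : X.functionField) :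
    X.presheaf.stalk (η X)) • b₀ := fun _ => rfl
  have hTTadd : ∀ m m', TT (m + m') = TT m + TT m' := by
    intro m m'
    rw [hTT, hTT, hTT, ← add_smul]
    congr 1
    rw [map_add]
    change (d : X.functionField)⁻¹ * tr π hη (_ + _) = _
    rw [htra, mul_add]
  have hTTsmul : ∀ (c : X.presheaf.stalk (η X)) m,
      TT ((K660.FF.ff π hη c : X₁.presheaf.stalk (η X₁)) • m) = c • TT m := by
    intro c m
    rw [hTT, hTT, smul_smul]
    congr 1
    rw [map_smul]
    change (d : X.functionField)⁻¹ * tr π hη (K660.FF.ff π hη c * _) =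
      (c : X.functionField) * ((d : X.functionField)⁻¹ * tr π hη (co m))
    rw [htrs]
    ring
  -- sections of `W` at the generic point
  have hTTim : ∀ {V : X.Opens} (h : η X ∈ V) (β : Sec W V),
      TT (W₁.presheaf.germ (π ⁻¹ᵁ V) (η X₁) (mem_pre π hη h) (im π J β)) =
        W.presheaf.germ V (η X) h β := by
    intro V h β
    obtain ⟨c, hc⟩ := hb₀g.2 (W.presheaf.germ V (η X) h β)
    change (c : X.presheaf.stalk (η X)) • b₀ = _ at hc
    rw [germ_im π hη J h₀ h β₀ β c hc.symm, hTTsmul, hTT, smul_smul, ← hc]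
    congr 1
    have h1 : co ε₀ = 1 := by
      have := hco' 1
      rwa [one_smul] at this
    change (c : X.functionField) * ((d : X.functionField)⁻¹ * tr π hη (co ε₀)) = c
    have h2 : tr π hη (co ε₀) = d := by
      have h3 := htrd 1
      rw [map_one, nsmul_eq_mul, mul_one] at h3
      rw [h1]
      exact h3
    rw [h2, inv_mul_cancel₀ hdK, mul_one]
  -- regularity in codimension one
  have hreg1 : ∀ (x : X), IsDiscreteValuationRing (X.presheaf.stalk x) →
      ∀ w : W₁.presheaf.stalk (η X₁),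
        (∀ y : X₁, π y = x → w ∈ Set.range (W₁.presheaf.stalkSpecializes (spec y))) →
        TT w ∈ Set.range (W.presheaf.stalkSpecializes (spec x)) := by
    intro x hx w hw
    obtain ⟨V, hV, -, hxV, β, hβ⟩ := exists_gen hW (x := x) (U := ⊤) trivial
    have hηV : η X ∈ V := mem_of_nonempty hxV
    have hx1 : ringKrullDim (X.presheaf.stalk x) = 1 :=
      ((Groth.Agent.S0549.dvr_iff (X.presheaf.stalk x)).mp ⟨inferInstance, hx⟩).2
    obtain ⟨c, hc⟩ := hb₀g.2 (W.presheaf.germ V (η X) hηV β)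
    change (c : X.presheaf.stalk (η X)) • b₀ = _ at hc
    have hβη : W₁.presheaf.germ (π ⁻¹ᵁ V) (η X₁) (mem_pre π hη hηV) (im π J β) ≠ 0 :=
      hJ1 V β (hne hηV hβ) _
    obtain ⟨l, hl⟩ := (hgenL _ hβη).2 w
    change (l : X₁.presheaf.stalk (η X₁)) • _ = w at hl
    -- `TT w = d⁻¹ tr(l) β`
    have hTw : TT w = (((d : X.functionField)⁻¹ * tr π hη l : X.functionField) :
        X.presheaf.stalk (η X)) • W.presheaf.germ V (η X) hηV β := by
      rw [← hl, germ_im π hη J h₀ hηV β₀ β c hc.symm, smul_smul, hTT, hco', ← hc, smul_smul]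
      congr 1
      change (d : X.functionField)⁻¹ * tr π hη (l * K660.FF.ff π hη c) =
        (d : X.functionField)⁻¹ * tr π hη l * (c : X.functionField)
      rw [mul_comm (l : X₁.functionField), htrs]
      ring
    obtain ⟨t, ht⟩ := IsDiscreteValuationRing.exists_irreducible (X.presheaf.stalk x)
    set τ : X.functionField := algebraMap (X.presheaf.stalk x) X.functionField t with hτ
    have hτ0 : τ ≠ 0 := by
      rw [hτ, Ne, IsFractionRing.to_map_eq_zero_iff]
      exact ht.ne_zero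
    obtain ⟨r, hr, hrtr⟩ := K910.SplitPt.trace_mem π k hπ hdim hX hX₁ hη hx1
      (K660.FF.ff π hη τ * (l : X₁.functionField)) (by
        intro y hy
        subst hy
        obtain ⟨ω, hω⟩ := hw y rfl
        have hyd : IsDiscreteValuationRing (X₁.presheaf.stalk y) :=
          isDVR (hX₁ y) (K562.DimF.ringKrullDim_stalk_eq_one k π hπ hdim hη hx1)
        obtain ⟨a, ha, haω⟩ := hJ3 y hyd hx (K910.SplitJ.resAlg k π hπ hdim hη hx1) t ht
          (W.presheaf.germ V (π y) hxV β) (hβ.isGen _ hxV) ω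
        refine ⟨a, ha, ?_⟩
        have h1 := congrArg (W₁.presheaf.stalkSpecializes (spec y)) haω
        rw [stalkSpecializes_smul, stalkSpecializes_smul, hω, pst_germ, germ_spec] at h1
        have h2 : X₁.presheaf.stalkSpecializes (spec y) (π.stalkMap y t) =
            (K660.FF.ff π hη τ : X₁.presheaf.stalk (η X₁)) := (K660.FF.ff_algebraMap π hη y t).symm
        rw [h2, ← hl, smul_smul] at h1
        exact ((hgenL _ hβη).1 h1).symm)
    -- `r = t r'`
    obtain ⟨r', rfl⟩ : t ∣ r := by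
      rw [ht.maximalIdeal_eq] at hr
      exact Ideal.mem_span_singleton.mp hr
    rw [htrs, map_mul, ← hτ] at hrtr
    have hl2 : algebraMap (X.presheaf.stalk x) X.functionField r' = tr π hη l :=
      mul_left_cancel₀ hτ0 hrtr
    obtain ⟨v, hv⟩ : IsUnit (d : X.presheaf.stalk x) := by
      let F : k →+* X.presheaf.stalk x := (X.presheaf.germ ⊤ x trivial).hom.comp
        ((Scheme.ΓSpecIso (CommRingCat.of k)).inv ≫ (X ↘ Spec (CommRingCat.of k)).appTop).hom
      exact hchar _ F
    have hv' : algebraMap (X.presheaf.stalk x) X.functionField (↑v⁻¹ : X.presheaf.stalk x) =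
        (d : X.functionField)⁻¹ := by
      apply eq_inv_of_mul_eq_one_left
      rw [← map_natCast (algebraMap (X.presheaf.stalk x) X.functionField), ← hv, ← map_mul,
        Units.inv_mul, map_one]
    refine ⟨(↑v⁻¹ * r' : X.presheaf.stalk x) • W.presheaf.germ V x hxV β, ?_⟩
    rw [stalkSpecializes_smul, germ_spec, hTw]
    congr 1
    change algebraMap (X.presheaf.stalk x) X.functionField (↑v⁻¹ * r') = _
    rw [map_mul, hv', hl2]
  -- regularity
  have hreg : ∀ (U : X.Opens) (w : Sec W₁ (π ⁻¹ᵁ U)) (h : η X ∈ U) (x : X), x ∈ U →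
      TT (W₁.presheaf.germ (π ⁻¹ᵁ U) (η X₁) (mem_pre π hη h) w) ∈
        Set.range (W.presheaf.stalkSpecializes (spec x)) := by
    intro U w h x hxU
    refine mem_range_of_codim_one hNX hW (fun x' hx' hd' => ?_)
    refine hreg1 x' hd' _ (fun y hy => ?_)
    have hyU : π y ∈ U := by
      rw [hy]
      exact hx'.mem_open U.2 hxU
    exact ⟨W₁.presheaf.germ (π ⁻¹ᵁ U) y hyU w, germ_spec W₁ y hyU w⟩
  have hex : ∀ (U : X.Opens) (w : Sec W₁ (π ⁻¹ᵁ U)), ∃ s : Sec W U, ∀ h : η X ∈ U,
      W.presheaf.germ U (η X) h s =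
        TT (W₁.presheaf.germ (π ⁻¹ᵁ U) (η X₁) (mem_pre π hη h) w) := by
    intro U w
    by_cases h : η X ∈ U
    · obtain ⟨s, hs⟩ := exists_section hI U _ (hreg U w h)
      exact ⟨s, fun h' => hs h'⟩
    · exact ⟨0, fun h' => absurd h' h⟩
  choose T hT using hex
  -- the morphism
  let f : ∀ U : X.Opens, Γ((Scheme.Modules.pushforward π).obj W₁, U) →+ Γ(W, U) := fun U =>
    AddMonoidHom.mk' (fun w => (T U w : Sec W U)) (fun w w' => by
      apply section_ext hI
      intro h
      rw [map_add]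
      refine (hT U _ h).trans ?_
      refine Eq.trans ?_ (congrArg₂ (· + ·) (hT U w h) (hT U w' h)).symm
      rw [← hTTadd, ← map_add])
  have hf : ∀ (U : X.Opens) (w : Sec W₁ (π ⁻¹ᵁ U)), f U w = T U w := fun _ _ => rfl
  have hlin : ∀ (U : X.Opens) (a : Γ(X, U)) (m : Γ((Scheme.Modules.pushforward π).obj W₁, U)),
      f U (a • m) = a • f U m := by
    intro U a m
    apply section_ext hI
    intro h
    refine (hT U _ h).trans ?_
    refine Eq.trans ?_ (germ_smul W U (η X) h a (f U m)).symm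
    refine Eq.trans ?_ (congrArg (X.presheaf.germ U (η X) h a • ·) (hT U m h)).symm
    rw [← hTTsmul]
    congr 1
    refine (germ_smul W₁ (π ⁻¹ᵁ U) (η X₁) (mem_pre π hη h) (π.app U a) m).trans ?_
    congr 1
    exact (K660.FF.ff_germ π hη U h (mem_pre π hη h) a).symm
  have hnat : ∀ (U V : X.Opens) (h : V ≤ U) (m : Γ((Scheme.Modules.pushforward π).obj W₁, U)),
      f V (Groth.Agent.Fdesc.LocGen.res _ h m) = Groth.Agent.Fdesc.LocGen.res W h (f U m) := by
    intro U V h m
    apply section_ext hI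
    intro h'
    refine (hT V _ h').trans ?_
    refine Eq.trans ?_ (germ_res W h h' (f U m)).symm
    refine Eq.trans ?_ (hT U m (h h')).symm
    congr 1
    exact germ_res W₁ (Scheme.Hom.preimage_mono π h) (mem_pre π hη h')
      (show Sec W₁ (π ⁻¹ᵁ U) from m)
  refine ⟨Groth.Agent.Fdesc.LocGen.mkHom f hlin hnat, ?_⟩
  apply Groth.Agent.Sga67.Sec.hom_ext
  intro U s
  apply section_ext hI
  intro h
  exact (hT U (im π J s) h).trans (hTTim h s)

end Main

/-- **Splitting of the pull-back `J` of top forms**: `J ≫ r = 𝟙`. -/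
theorem split_isPull {k : Type u} [Field k] [CharZero k] {X X₁ : Scheme.{u}} (n : ℕ)
    (f : X ⟶ Spec (CommRingCat.of k)) (π : X₁ ⟶ X) [IsIntegral X] [IsIntegral X₁]
    [QuasiSeparated f] [QuasiSeparated (π ≫ f)] [SmoothOfRelativeDimension n f]
    [SmoothOfRelativeDimension n (π ≫ f)] [IsProper π] [Surjective π]
    {W : X.Modules} {W₁ : X₁.Modules}
    (hW : ExtPow.IsExtPow n (Omega.sheaf f) W)
    (hW₁ : ExtPow.IsExtPow n (Omega.sheaf (π ≫ f)) W₁)
    {J : W ⟶ (Scheme.Modules.pushforward π).obj W₁}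
    (hJ : K680.FormMain.IsPull π
      (K680.FormMain.psi π (Groth.Agent.S5005.result f) (OmegaSh.dOmega (π ≫ f))) hW hW₁ J) :
    ∃ r : (Scheme.Modules.pushforward π).obj W₁ ⟶ W, J ≫ r = 𝟙 W := by
  letI : X.Over (Spec (CommRingCat.of k)) := ⟨f⟩
  letI : X₁.Over (Spec (CommRingCat.of k)) := ⟨π ≫ f⟩
  have hsm : Smooth f := SmoothOfRelativeDimension.smooth n f
  have hsm₁ : Smooth (π ≫ f) := SmoothOfRelativeDimension.smooth n (π ≫ f)
  have i1 : Smooth (X ↘ Spec (CommRingCat.of k)) := hsm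
  have i2 : Smooth (X₁ ↘ Spec (CommRingCat.of k)) := hsm₁
  have i3 : SmoothOfRelativeDimension n (X ↘ Spec (CommRingCat.of k)) :=
    ‹SmoothOfRelativeDimension n f›
  have i4 : SmoothOfRelativeDimension n (X₁ ↘ Spec (CommRingCat.of k)) :=
    ‹SmoothOfRelativeDimension n (π ≫ f)›
  have hη : π (genericPoint X₁) = genericPoint X := K562.DimF.map_genericPoint π
  have h1 := K504.Hodge.topologicalKrullDim_eq (X ↘ Spec (CommRingCat.of k)) n
  have h2 := K504.Hodge.topologicalKrullDim_eq (X₁ ↘ Spec (CommRingCat.of k)) n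
  obtain ⟨hJ1, hJ3⟩ := K910.SplitJ.props n f π hη hW hW₁ hJ
  exact exists_retraction k π rfl (h2.trans h1.symm)
    (fun x => Groth.Agent.S1535.result k X x) (fun y => Groth.Agent.S1535.result k X₁ y) hη
    (K455.Canon.isInvertible f n hW) (K455.Canon.isInvertible (π ≫ f) n hW₁) J hJ1 hJ3

/-- **Splitting of the pull-back of top forms.** -/
theorem split {k : Type u} [Field k] [CharZero k] {X X₁ : Scheme.{u}}
    [X.Over (Spec (CommRingCat.of k))] [X₁.Over (Spec (CommRingCat.of k))] [IsIntegral X]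
    [IsIntegral X₁] [QuasiSeparated (X ↘ Spec (CommRingCat.of k))]
    [QuasiSeparated (X₁ ↘ Spec (CommRingCat.of k))] [Smooth (X ↘ Spec (CommRingCat.of k))]
    [Smooth (X₁ ↘ Spec (CommRingCat.of k))]
    (n : ℕ) (hX : topologicalKrullDim X = n) (hX₁ : topologicalKrullDim X₁ = n) (π : X₁ ⟶ X)
    (hπ : π ≫ (X ↘ Spec (CommRingCat.of k)) = X₁ ↘ Spec (CommRingCat.of k)) [IsProper π]
    [Surjective π] {W : X.Modules} {W₁ : X₁.Modules}
    (hW : ExtPow.IsExtPow n (Omega.sheaf (X ↘ Spec (CommRingCat.of k))) W)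
    (hW₁ : ExtPow.IsExtPow n (Omega.sheaf (X₁ ↘ Spec (CommRingCat.of k))) W₁) :
    ∃ (i : W ⟶ (Scheme.Modules.pushforward π).obj W₁)
      (r : (Scheme.Modules.pushforward π).obj W₁ ⟶ W), i ≫ r = 𝟙 W := by
  have hsm : SmoothOfRelativeDimension n (X ↘ Spec (CommRingCat.of k)) := by
    obtain ⟨m, hm⟩ := K504.Hodge.exists_relDim k X (X ↘ Spec (CommRingCat.of k))
    have h1 := K504.Hodge.topologicalKrullDim_eq (X ↘ Spec (CommRingCat.of k)) m
    rw [hX] at h1
    obtain rfl : n = m := by exact_mod_cast h1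
    exact hm
  have hsm₁ : SmoothOfRelativeDimension n (X₁ ↘ Spec (CommRingCat.of k)) := by
    obtain ⟨m, hm⟩ := K504.Hodge.exists_relDim k X₁ (X₁ ↘ Spec (CommRingCat.of k))
    have h1 := K504.Hodge.topologicalKrullDim_eq (X₁ ↘ Spec (CommRingCat.of k)) m
    rw [hX₁] at h1
    obtain rfl : n = m := by exact_mod_cast h1
    exact hm
  have i1 : SmoothOfRelativeDimension n (π ≫ (X ↘ Spec (CommRingCat.of k))) := by
    rw [hπ]; exact hsm₁
  have i2 : QuasiSeparated (π ≫ (X ↘ Spec (CommRingCat.of k))) := by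
    rw [hπ]; infer_instance
  have hW₁' : ExtPow.IsExtPow n (Omega.sheaf (π ≫ (X ↘ Spec (CommRingCat.of k)))) W₁ := by
    rw [hπ]; exact hW₁
  obtain ⟨J, hJ⟩ := K910.SplitJ.exists_J n (X ↘ Spec (CommRingCat.of k)) π hW hW₁'
  obtain ⟨r, hr⟩ := split_isPull n (X ↘ Spec (CommRingCat.of k)) π hW hW₁' hJ
  exact ⟨J, r, hr⟩

end K910.Split
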