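import Groth.Agent.Vanish.K910.Dev
import Groth.Agent.Vanish.K910.Upper
import Groth.Agent.Ega3B.PullTensor
import Groth.Agent.S9815
import Groth.Agent.S2328
import Groth.Agent.S2327

/-!
# Growth of sections of a nef module with `c_1(L)^m` numerically trivial

* `main_bound`: `h^0(L^q ⊗ F) ≤ C (q + 1)^{m - 1}` if `L` is nef and `(L^m · V) = 0` for all integral closed
  subschemes `V` of dimension `m`.
-/

set_option autoImplicit false
universe u
open CategoryTheory CategoryTheory.Limits AlgebraicGeometry TopologicalSpace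

namespace K910.NefGrowth

open Groth.Agent Groth.Agent.Fga Groth.Agent.Fga.PicMon Groth.Agent.Fga.RegSec K910.HZ K910.IL K910.Nef K910.Dev
  K910.Growth

section Ample

variable {X Z : Scheme.{u}}

theorem isAmple_tensor [CompactSpace X] [X.IsSeparated] {L L' : X.Modules} (hL : CohB1.IsAmple L)
    (hL' : CohB1.IsAmple L') : CohB1.IsAmple (CohB1.tensorMod L L') :=
  S2328.result X L L' hL hL'.1 fun x => by
    obtain ⟨n, s, hs, -⟩ := S2324.result X L' hL' {x} (Set.finite_singleton _) ⊤ (fun y _ => Opens.mem_top y)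
    exact ⟨n, s, hs rfl⟩

theorem isAmple_pow [CompactSpace X] [X.IsSeparated] {L : X.Modules} (hL : CohB1.IsAmple L) {n : ℕ} (hn : 0 < n) :
    CohB1.IsAmple (CohB1.tensorPow L n) := (S2327.result X L hL.1 n hn).1 hL

theorem nefA_of_ampInv [CompactSpace X] [X.IsSeparated] {a b : MC X} (ha : AmpInv a) (hb : AmpInv b) : NefA a b := by
  refine ⟨hb.inv, fun ν hν => ?_⟩
  obtain ⟨A, hA, hAa⟩ := ha
  obtain ⟨B, hB, hBb⟩ := hb
  refine ⟨CohB1.tensorMod (CohB1.tensorPow B ν) A, isAmple_tensor (isAmple_pow hB hν) hA, ?_⟩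
  rw [mc_tensor, mc_tensorPow]
  calc mc B ^ ν * mc A * (b ^ ν * a) = (mc B * b) ^ ν * (mc A * a) := by
        rw [mul_pow]; simp only [mul_assoc, mul_comm, mul_left_comm]
    _ = 1 := by rw [hBb, hAa, one_pow, one_mul]

theorem mc_pull_tensor (f : Z ⟶ X) {A B : X.Modules} (hA : PicF.IsInvertible A) (hB : PicF.IsInvertible B) :
    mc ((Scheme.Modules.pullback f).obj (CohB1.tensorMod A B)) =
      mc ((Scheme.Modules.pullback f).obj A) * mc ((Scheme.Modules.pullback f).obj B) :=
  mc_eq (Ega3B.PullTensor.pullTensorIso f hA hB)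

theorem mc_pull_pow (f : Z ⟶ X) {A : X.Modules} (hA : PicF.IsInvertible A) (n : ℕ) :
    mc ((Scheme.Modules.pullback f).obj (CohB1.tensorPow A n)) = mc ((Scheme.Modules.pullback f).obj A) ^ n := by
  obtain ⟨e⟩ := CohqB.FinAmple.nonempty_pullback_tensorPow f hA n
  rw [mc_eq e, mc_tensorPow]

theorem mc_pull_unit (f : Z ⟶ X) : mc ((Scheme.Modules.pullback f).obj (Coh.structureModule X)) = 1 := by
  obtain ⟨e⟩ := CohqB.FinAmple.nonempty_pullback_tensorPow f
    (Fdesc.LocGen.isInvertible_structureModule (X := X)) 0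
  exact mc_eq e

theorem isInv_pull (f : Z ⟶ X) {A : X.Modules} (hA : PicF.IsInvertible A) :
    PicF.IsInvertible ((Scheme.Modules.pullback f).obj A) :=
  Fdesc.LocGen.isInvertible_pullback f hA

theorem mc_pull_inv (f : Z ⟶ X) {A B : X.Modules} (hA : PicF.IsInvertible A) (hB : PicF.IsInvertible B)
    (h : mc A * mc B = 1) :
    mc ((Scheme.Modules.pullback f).obj A) * mc ((Scheme.Modules.pullback f).obj B) = 1 := by
  rw [← mc_pull_tensor f hA hB]
  obtain ⟨e⟩ := (mc_eq_iff (CohB1.tensorMod A B) (Coh.structureModule X)).1 (by rw [mc_tensor, h, mc_one])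
  rw [mc_eq ((Scheme.Modules.pullback f).mapIso e), mc_pull_unit]

theorem ampInv_pull (i : Z ⟶ X) [CompactSpace Z] (hi : Topology.IsEmbedding i) {B : X.Modules}
    (h : AmpInv (mc B)) : AmpInv (mc ((Scheme.Modules.pullback i).obj B)) := by
  obtain ⟨M, hM, hMB⟩ := h
  refine ⟨(Scheme.Modules.pullback i).obj M, S9815.result i hi M hM, ?_⟩
  obtain ⟨e⟩ : Nonempty (CohB1.tensorMod M B ≅ Coh.structureModule X) :=
    (mc_eq_iff _ _).1 (by rw [mc_tensor, hMB, mc_one])
  exact mc_pull_inv i hM.1 (IntAdd.isInvertible_of_tensor e) hMB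

theorem nefA_pull (i : Z ⟶ X) [CompactSpace Z] (hi : Topology.IsEmbedding i) {A' L' : X.Modules}
    (hA' : PicF.IsInvertible A') (hL' : PicF.IsInvertible L')
    (h : NefA (mc A') (mc L')) :
    NefA (mc ((Scheme.Modules.pullback i).obj A')) (mc ((Scheme.Modules.pullback i).obj L')) := by
  refine ⟨inv_mc (isInv_pull i hL'), fun ν hν => ?_⟩
  have h1 := h.2 ν hν
  rw [← mc_tensorPow, ← mc_tensor] at h1
  have h2 := ampInv_pull i hi h1
  rwa [mc_pull_tensor i (Fdesc.LocGen.isInvertible_tensorPow hL' ν) hA', mc_pull_pow i hL'] at h2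

end Ample

variable (k : Type u) [Field k] {X : Scheme.{u}} [X.Over (Spec (CommRingCat.of k))]
  [IsProper (X ↘ Spec (CommRingCat.of k))] {d : ℕ} (hd : topologicalKrullDim X ≤ d)

include hd

/-- `c_1(L)^m` numerically trivial implies `(L^m · A^e · F) = 0` for `dim Supp F ≤ m + e`. -/
theorem IL_eq_zero [Nonempty X] {A A' L' : X.Modules} (hA : CohB1.IsAmple A) (hA' : PicF.IsInvertible A')
    (hAA' : mc A' * mc A = 1) (hL' : PicF.IsInvertible L') (m : ℕ)
    (hm : ∀ (V : Scheme.{u}) (i : V ⟶ X) [IsClosedImmersion i], IsIntegral V → topologicalKrullDim V = (m : ℕ) →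
      IL k X d (List.replicate m (mc L')) (mc ((Coh.push i).obj (Coh.structureModule V))) = 0)
    (e : ℕ) (F : X.Modules) (hF : Coh.IsCoh F) (hr : topologicalKrullDim (CohB1.support F) ≤ (m + e : ℕ)) :
    IL k X d (List.replicate m (mc L') ++ List.replicate e (mc A')) (mc F) = 0 := by
  have := IntAdd.isNoetherian k X
  have hIL : InvL (List.replicate m (mc L')) := fun p hp => by
    rw [List.eq_of_mem_replicate hp]; exact inv_mc hL'
  have hIA : ∀ e, InvL (List.replicate e (mc A')) := fun e p hp => by
    rw [List.eq_of_mem_replicate hp]; exact inv_mc hA'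
  have hII : ∀ e, InvL (List.replicate m (mc L') ++ List.replicate e (mc A')) := fun e p hp => by
    rcases List.mem_append.1 hp with hp | hp
    · exact hIL p hp
    · exact hIA e p hp
  induction e generalizing F with
  | zero =>
    have h1 := IL_eq_zero_of_integral k hd (l := List.replicate m L') (fun M hM => by
      rw [List.eq_of_mem_replicate hM]; exact hL') (T := Set.univ) (by
        intro Z i _ hZ _ hdim
        rw [List.map_replicate]
        rw [List.length_replicate] at hdim
        exact hm Z i hZ hdim) F hF (Set.subset_univ _) (by rw [List.length_replicate]; exact hr)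
    rw [List.map_replicate] at h1
    simpa using h1
  | succ e ih =>
    rcases lt_or_eq_of_le hr with hlt | heq
    · refine IL_vanish k hd (hII _) ⟨F, hF, ?_, rfl⟩
      rw [List.length_append, List.length_replicate, List.length_replicate]
      exact hlt
    · obtain ⟨n, s, hmono, hdim⟩ := HypSec.exists_cut k X A hA F hF (m + e) heq
      have hQ : Coh.IsCoh (cokernel (mulS s F)) := Sga67.CohBasic.isCoh_cokernel _ hF.1
        (isCoh_tensor (Fdesc.LocGen.isInvertible_tensorPow hA.1 (n + 1)) hF)
      have h1 := IL_cut k hd (hII e) (Fdesc.LocGen.isInvertible_tensorPow hA.1 (n + 1)) hF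
        ((inv_mc hA').pow (n + 1)) (by rw [mc_tensorPow, ← mul_pow, hAA', one_pow]) (mulS s F) (by
          rw [List.length_append, List.length_replicate, List.length_replicate]
          exact hdim.le)
      rw [ih _ hQ hdim.le, IL_pow k hd (hII e) (inv_mc hA') (by
        rw [List.length_append, List.length_replicate, List.length_replicate]
        exact dLt_of_le hF heq.le)] at h1
      have h2 : IL k X d (mc A' :: (List.replicate m (mc L') ++ List.replicate e (mc A'))) (mc F) = 0 := by
        rcases mul_eq_zero.1 h1 with h | h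
        · exact absurd h (by positivity)
        · exact h
      rw [List.replicate_succ, IL_perm k d List.perm_middle]
      exact h2

/-- **Growth bound**: if `L` is nef and `c_1(L)^m` is numerically trivial, then
`h^0(L^q ⊗ c ⊗ F) ≤ C (q + 1)^{m - 1}`. -/
theorem main_bound [Nonempty X] {A A' L L' : X.Modules} (hA : CohB1.IsAmple A) (hA' : PicF.IsInvertible A')
    (hAA' : mc A' * mc A = 1) (hL : PicF.IsInvertible L) (hL' : PicF.IsInvertible L') (hLL' : mc L' * mc L = 1)
    (hnef : NefA (mc A') (mc L')) (m : ℕ) (hm1 : 0 < m)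
    (hm : ∀ (V : Scheme.{u}) (i : V ⟶ X) [IsClosedImmersion i], IsIntegral V → topologicalKrullDim V = (m : ℕ) →
      IL k X d (List.replicate m (mc L')) (mc ((Coh.push i).obj (Coh.structureModule V))) = 0)
    (r : ℕ) (F : X.Modules) (hF : Coh.IsCoh F) (hr : topologicalKrullDim (CohB1.support F) ≤ r)
    {c : MC X} (hc : Inv c) : ∃ C : ℕ, ∀ q, HZ k X (mc L ^ q * c * mc F) ≤ C * (q + 1) ^ (m - 1) := by
  have hNoeth := IntAdd.isNoetherian k X
  have hSep := HypSec.isSeparated k X
  have hAi : AmpInv (mc A') := ⟨A, hA, by rw [mul_comm, hAA']⟩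
  -- small dimension
  have hsmall : ∀ (F : X.Modules), Coh.IsCoh F → topologicalKrullDim (CohB1.support F) ≤ (m - 1 : ℕ) →
      ∀ {c : MC X}, Inv c → ∃ C : ℕ, ∀ q, HZ k X (mc L ^ q * c * mc F) ≤ C * (q + 1) ^ (m - 1) := by
    rintro F hF hr _ ⟨N, hN, rfl⟩
    obtain ⟨C, hC⟩ := upper k d hd hA hL (F := CohB1.tensorMod N F) (isCoh_tensor hN hF) (m - 1) (by
      rw [IL.support_tensor' hN]; exact hr)
    refine ⟨C, fun q => ?_⟩
    have := hC q
    rwa [mc_tensor, ← mul_assoc] at this
  induction r generalizing F c with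
  | zero => exact hsmall F hF (hr.trans (by exact_mod_cast Nat.zero_le _)) hc
  | succ r ih =>
    by_cases hrm : r + 1 ≤ m - 1
    · exact hsmall F hF (hr.trans (by exact_mod_cast hrm)) hc
    · push Not at hrm
      refine dev Set.univ (r + 1) (fun F => ∀ {c : MC X}, Inv c →
        ∃ C : ℕ, ∀ q, HZ k X (mc L ^ q * c * mc F) ≤ C * (q + 1) ^ (m - 1)) ?_ ?_ ?_ ?_ F hF
        (Set.subset_univ _) hr hc
      · rintro M N ⟨e⟩ h c hc
        rw [← mc_eq e]
        exact h hc
      · intro M hM c hc
        exact hsmall M (PerfA.CohSerre.isCoh_of_isZero hM) (by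
          rw [CohqB.DevSupport.support_eq_empty_of_isZero hM]
          have : IsEmpty (IrreducibleCloseds (∅ : Set X)) := ⟨fun Z => by
            obtain ⟨x, hx⟩ := Z.2.nonempty
            exact x.2⟩
          have h0 : topologicalKrullDim (∅ : Set X) = ⊥ := Order.krullDim_eq_bot
          rw [h0]
          exact bot_le) hc
      · intro S hS c1 c2 c3 _ _ h1 h3 c hc
        obtain ⟨C1, h1⟩ := h1 hc
        obtain ⟨C3, h3⟩ := h3 hc
        refine ⟨C1 + C3, fun q => ?_⟩
        have h4 := (HZ_le_of_shortExact k S hS c1 c2 c3 (((inv_mc hL).pow q).mul hc)).2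
        calc _ ≤ _ := h4
          _ ≤ C1 * (q + 1) ^ (m - 1) + C3 * (q + 1) ^ (m - 1) := add_le_add (h1 q) (h3 q)
          _ = (C1 + C3) * (q + 1) ^ (m - 1) := by ring
      · intro Z i _ _ _ hZr I ι hι hI c hc
        have hZN : IsLocallyNoetherian Z := LocallyOfFiniteType.isLocallyNoetherian i
        have hZc : CompactSpace Z := i.isClosedEmbedding.compactSpace
        have hO : Coh.IsCoh (Coh.structureModule Z) :=
          HodgeSec.isCoh_of_isInvertible Fdesc.LocGen.isInvertible_structureModule
        have hpI : Coh.IsCoh ((Coh.push i).obj I) := CohqB.FinAmple.isCoh_push i hI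
        set G := (Coh.push i).obj (Coh.structureModule Z) with hG
        have hpO : Coh.IsCoh G := CohqB.FinAmple.isCoh_push i hO
        have hGs : CohB1.support G = Set.range i := by
          rw [hG, CohqB.DevSimple.support_push, Pic13.H956.Numbers.support_unit, Set.image_univ]
        -- reduction to `G`
        suffices hGb : ∃ C : ℕ, ∀ q, HZ k X (mc L ^ q * c * mc G) ≤ C * (q + 1) ^ (m - 1) by
          obtain ⟨C, hC⟩ := hGb
          refine ⟨C, fun q => le_trans ?_ (hC q)⟩
          have hmono : Mono ((Coh.push i).map ι) := (Coh.push i).map_mono ι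
          have hS : (ShortComplex.mk ((Coh.push i).map ι) (cokernel.π _) (cokernel.condition _)).ShortExact :=
            { exact := ShortComplex.exact_cokernel _
              mono_f := hmono
              epi_g := inferInstanceAs (Epi (cokernel.π ((Coh.push i).map ι))) }
          exact (HZ_le_of_shortExact k _ hS hpI hpO (Sga67.CohBasic.isCoh_cokernel _ hpI.1 hpO)
            (((inv_mc hL).pow q).mul hc)).1
        rcases lt_or_eq_of_le hZr with hlt | heq
        · refine ih G hpO ?_ hc
          rw [hGs, dim_range]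
          exact IntNum0.withBot_le_of_lt_succ hlt
        · -- the main case
          obtain ⟨N, hN, rfl⟩ := hc
          obtain ⟨N', hN', hNN'⟩ := exists_inv hN
          obtain ⟨n₀, hn₀, h0⟩ := S2329.result X A N' hA hN'
          have hA₁ : CohB1.IsAmple (CohB1.tensorPow A n₀) := isAmple_pow hA hn₀
          obtain ⟨n₁, B, ⟨hn₁, hmcB⟩, hBi, s, hmono, hdim⟩ : ∃ (n₁ : ℕ) (B : X.Modules)
              (_ : n₀ ≤ n₁ ∧ mc B = mc A ^ n₁) (_ : PicF.IsInvertible B) (s : Coh.structureModule X ⟶ B),
              Mono (mulS s G) ∧ topologicalKrullDim (CohB1.support (cokernel (mulS s G))) = r := by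
            obtain ⟨j, s, hmono, hdim⟩ := HypSec.exists_cut k X _ hA₁ G hpO r (by rw [hGs, dim_range, heq])
            exact ⟨n₀ * (j + 1), _, ⟨Nat.le_mul_of_pos_right _ (Nat.succ_pos j), by
              rw [mc_tensorPow, mc_tensorPow, ← pow_mul]⟩,
              Fdesc.LocGen.isInvertible_tensorPow hA₁.1 _, s, hmono, hdim⟩
          have hbB : mc A' ^ n₁ * mc B = 1 := by rw [hmcB, ← mul_pow, hAA', one_pow]
          -- the ample module `M = B ⊗ N'`, with inverse `M'`
          obtain ⟨M, hMa, hmcM⟩ : ∃ M, CohB1.IsAmple M ∧ mc M = mc B * mc N' :=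
            ⟨_, (h0 n₁ hn₁).1, by rw [mc_tensor, mc_tensorPow, hmcB]⟩
          obtain ⟨M', hM'i, hmcM'⟩ : ∃ M', PicF.IsInvertible M' ∧ mc M' = mc A' ^ n₁ * mc N :=
            ⟨CohB1.tensorMod (CohB1.tensorPow A' n₁) N,
              Fdesc.LocGen.isInvertible_tensorMod (Fdesc.LocGen.isInvertible_tensorPow hA' _) hN, by
                rw [mc_tensor, mc_tensorPow]⟩
          have hMM' : mc M' * mc M = 1 := by
            rw [hmcM, hmcM']
            calc mc A' ^ n₁ * mc N * (mc B * mc N') = (mc A' ^ n₁ * mc B) * (mc N' * mc N) := by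
                  simp only [mul_assoc, mul_comm, mul_left_comm]
              _ = 1 := by rw [hbB, hNN', one_mul]
          have hM'a : AmpInv (mc M') := ⟨M, hMa, by rw [mul_comm, hMM']⟩
          -- vanishing
          have hvan : ∀ q, HZ k X (mc L ^ q * mc M' * mc G) = 0 := by
            intro q
            letI : Z.Over (Spec (CommRingCat.of k)) := ⟨i ≫ (X ↘ Spec (CommRingCat.of k))⟩
            have hi : i ≫ (X ↘ Spec (CommRingCat.of k)) = Z ↘ Spec (CommRingCat.of k) := rfl
            have hZp : IsProper (Z ↘ Spec (CommRingCat.of k)) :=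
              inferInstanceAs (IsProper (i ≫ (X ↘ Spec (CommRingCat.of k))))
            have hemb : Topology.IsEmbedding i := i.isClosedEmbedding.isEmbedding
            have hZsep := HypSec.isSeparated k Z
            have hdZ : topologicalKrullDim Z ≤ d := i.isClosedEmbedding.isInducing.topologicalKrullDim_le.trans hd
            have hLq : PicF.IsInvertible (CohB1.tensorPow L q) := Fdesc.LocGen.isInvertible_tensorPow hL q
            have e1 : mc L ^ q * mc M' = mc (CohB1.tensorMod (CohB1.tensorPow L q) M') := by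
              rw [mc_tensor, mc_tensorPow]
            rw [e1, hG, HZ_mul_push i hi (Fdesc.LocGen.isInvertible_tensorMod hLq hM'i), mc_one, mul_one,
              mc_pull_tensor i hLq hM'i, mc_pull_pow i hL]
            have haZ := ampInv_pull i hemb hAi
            have hmZ := ampInv_pull i hemb hM'a
            have hre : r + 1 = m + (r + 1 - m) := by omega
            refine HZ_eq_zero_of_IL k hdZ (a := mc ((Scheme.Modules.pullback i).obj A'))
              (ell := mc ((Scheme.Modules.pullback i).obj L'))
              (M := mc ((Scheme.Modules.pullback i).obj M)) haZ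
              (nefA_pull i hemb hA' hL' hnef) (nefA_of_ampInv haZ hmZ) hmZ
              (inv_mc (isInv_pull i hL)) (inv_mc (isInv_pull i hMa.1))
              (mc_pull_inv i hL' hL hLL') (mc_pull_inv i hM'i hMa.1 hMM') m (r + 1 - m)
              (by rw [heq]; exact congrArg (fun n : ℕ => (n : WithBot ℕ∞)) hre) (nefA_of_ampInv haZ haZ) ?_ q
            have h1 := IL_eq_zero k hd hA hA' hAA' hL' m hm (r + 1 - m) G hpO (by
              rw [hGs, dim_range, heq]
              exact le_of_eq (congrArg (fun n : ℕ => (n : WithBot ℕ∞)) hre))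
            have h2 := IL_push i hi d (l := List.replicate m L' ++ List.replicate (r + 1 - m) A') (by
              intro M hM
              rcases List.mem_append.1 hM with hM | hM
              · rw [List.eq_of_mem_replicate hM]; exact hL'
              · rw [List.eq_of_mem_replicate hM]; exact hA') (Coh.structureModule Z)
            simp only [List.map_append, List.map_replicate] at h2
            rw [mc_one, h1] at h2
            exact h2.symm.le
          -- cut
          have hQ : Coh.IsCoh (cokernel (mulS s G)) :=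
            Sga67.CohBasic.isCoh_cokernel _ hpO.1 (isCoh_tensor hBi hpO)
          obtain ⟨C, hC⟩ := ih _ hQ hdim.le (inv_mc hM'i)
          refine ⟨C, fun q => ?_⟩
          have h4 := (HZ_le_of_shortExact k _ (shortExact_mulS s hmono) hpO (isCoh_tensor hBi hpO) hQ
            (((inv_mc hL).pow q).mul (inv_mc hM'i))).2
          have h5 : mc L ^ q * mc M' * mc (CohB1.tensorMod B G) = mc L ^ q * mc N * mc G := by
            rw [mc_tensor, hmcM']
            calc mc L ^ q * (mc A' ^ n₁ * mc N) * (mc B * mc G) = (mc A' ^ n₁ * mc B) * (mc L ^ q * mc N * mc G) := by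
                  simp only [mul_assoc, mul_comm, mul_left_comm]
              _ = _ := by rw [hbB, one_mul]
          rw [h5] at h4
          refine h4.trans ?_
          rw [hvan q, zero_add]
          exact hC q

end K910.NefGrowth
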