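import Groth.Agent.BSB.K946.RZ
import Groth.Agent.PerfC.RpushSingle
import Groth.Agent.LoccohB.RpushTri
import Groth.Agent.LoccohB.DCalc

/-!
# `Rπ_* F` is concentrated in degree zero when `R^q π_* F = 0` for `q ≥ 1`
-/

set_option autoImplicit false

universe u

open CategoryTheory CategoryTheory.Limits AlgebraicGeometry

attribute [local instance] HasDerivedCategory.standard

namespace K910.DescPush

open Groth.Agent

variable {X X₁ : Scheme.{u}} (π : X₁ ⟶ X) [QuasiCompact π] [QuasiSeparated π] [DCoh.HasRpush π]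

theorem exists_iso₀ {F : X₁.Modules} (hF : Coh.IsQCoh F) (h : ∀ q : ℕ, 1 ≤ q → K946.RZ π F q) :
    ∃ G : X.Modules, Nonempty (DCoh.inD X G ≅ (DCoh.Rpush π).obj (DCoh.inD X₁ F)) := by
  have := Dcoh.DerSch.hasInjectiveResolutions X₁
  set K := (DCoh.Rpush π).obj (DCoh.inD X₁ F) with hK
  have h1 : K.IsGE 0 := PerfC.RpushTrunc.isGE_Rpush π (DCoh.inD X₁ F) 0
  have h2 : K.IsLE 0 := by
    rw [DerivedCategory.isLE_iff]
    intro i hi
    obtain ⟨q, rfl⟩ := Int.eq_ofNat_of_zero_le hi.le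
    exact ((h q (by omega)).isZero hF).of_iso (PerfC.RpushSingle.iso π q F)
  have h3 : (DCoh.inD X (DCoh.HD K 0)).IsGE 0 :=
    inferInstanceAs (((DerivedCategory.singleFunctor X.Modules 0).obj _).IsGE 0)
  have h4 : (DCoh.inD X (DCoh.HD K 0)).IsLE 0 :=
    inferInstanceAs (((DerivedCategory.singleFunctor X.Modules 0).obj _).IsLE 0)
  exact ⟨DCoh.HD K 0, LoccohB.DCalc.nonempty_iso_of_both 0 _ _
    ((DerivedCategory.singleFunctorCompHomologyFunctorIso X.Modules 0).app (DCoh.HD K 0))⟩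

theorem exists_iso {F : X₁.Modules} (hF : Coh.IsQCoh F) (h : ∀ q : ℕ, 1 ≤ q → K946.RZ π F q) (n : ℤ) :
    ∃ G : X.Modules, Nonempty ((DCoh.inD X G)⟦n⟧ ≅ (DCoh.Rpush π).obj ((DCoh.inD X₁ F)⟦n⟧)) := by
  obtain ⟨G, ⟨e⟩⟩ := exists_iso₀ π hF h
  obtain ⟨hc, -⟩ := LoccohB.RpushTri.exists_isTriangulated_Rpush π
  exact ⟨G, ⟨(shiftFunctor (DCoh.D X) n).mapIso e ≪≫
    (((DCoh.Rpush π).commShiftIso n).app (DCoh.inD X₁ F)).symm⟩⟩

end K910.DescPush
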