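import Groth.Agent.Vanish.K910.DescGlue
import Groth.Agent.Vanish.K562.DimF
import Groth.Agent.PerfB.TensInv
import Groth.Agent.Ega4dA.GenSec
import Groth.Agent.S0549
import Groth.Agent.S9829

/-!
# `J ≫ T ≠ 0`

`comp_ne_zero`: for `π : X₁ ⟶ X` proper and surjective between regular proper integral schemes of the same
dimension over an algebraically closed field of characteristic zero, invertible modules `W`, `W₁`, a
morphism `J : W ⟶ π_* W₁` with logarithmic poles and a non-zero `T : π_* W₁ ⟶ W`, the composition `J ≫ T`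
is not zero.
-/

set_option autoImplicit false
set_option backward.isDefEq.respectTransparency false

universe u

noncomputable section

open CategoryTheory CategoryTheory.Limits AlgebraicGeometry Opposite TopologicalSpace
open Groth.Agent.Sga67.Sec K680.FormHom K475.GenStalk Groth.Agent.CycB.ModStalk
open K476.ExtStalk (germ_res germ_resO)
open K910.DescStar K910.DescGlue

namespace K910.DescTop

theorem isDVR {Y : Scheme.{u}} [IsIntegral Y] {y : Y} (hy : IsRegularLocalRing (Y.presheaf.stalk y))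
    (h : ringKrullDim (Y.presheaf.stalk y) = 1) : IsDiscreteValuationRing (Y.presheaf.stalk y) := by
  obtain ⟨_, h1⟩ := (Groth.Agent.S0549.dvr_iff (Y.presheaf.stalk y)).mpr ⟨hy, h⟩
  exact h1

theorem isNormal {Y : Scheme.{u}} [IsIntegral Y] (hY : ∀ y : Y, IsRegularLocalRing (Y.presheaf.stalk y)) :
    Pi1.IsNormalScheme Y := fun y => by
  have := hY y
  exact ⟨inferInstance, Groth.Agent.S9829.result _⟩

theorem inj_of_isInvertible {Y : Scheme.{u}} [IsIntegral Y] {L : Y.Modules} (hL : PicF.IsInvertible L) :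
    Inj L := by
  refine inj_of_isTorsionFree (Groth.Agent.PerfB.TensInv.isQCoh_of_isInvertible hL) (fun x => ?_)
  obtain ⟨t, ht⟩ := exists_isGen hL x
  have h2 : Module.Free (Y.presheaf.stalk x) (L.presheaf.stalk x) :=
    Module.Free.of_equiv (LinearEquiv.ofBijective
      (LinearMap.toSpanSingleton (Y.presheaf.stalk x) (L.presheaf.stalk x) t) ht)
  infer_instance

theorem exists_gen {Y : Scheme.{u}} {L : Y.Modules} (hL : PicF.IsInvertible L) {x : Y} {U : Y.Opens}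
    (hx : x ∈ U) : ∃ (V : Y.Opens) (_ : IsAffineOpen V) (_ : V ≤ U) (_ : x ∈ V) (β : Sec L V),
      IsGenOn L V β := by
  obtain ⟨U', hxU', t, ht⟩ := exists_isGenOn hL x
  obtain ⟨_, ⟨V, hV, rfl⟩, hxV, hle⟩ :=
    Y.isBasis_affineOpens.exists_subset_of_mem_open (show x ∈ ((U ⊓ U' : Y.Opens) : Set Y) from ⟨hx, hxU'⟩)
      (U ⊓ U').2
  have hle' : V ≤ U ⊓ U' := hle
  exact ⟨V, hV, hle'.trans inf_le_left, hxV, _, ht.mono (hle'.trans inf_le_right)⟩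

theorem smul_inj {Y : Scheme.{u}} {L : Y.Modules} {V : Y.Opens} {β : Sec L V} (hβ : IsGenOn L V β) :
    Function.Bijective (fun a : Γ(Y, V) => a • β) := by
  have h2 := hβ V le_rfl
  have h3 : (L.presheaf.map (homOfLE (le_refl V)).op β) = β := res_self L le_rfl β
  rw [h3] at h2
  exact h2

/-- The conclusions of `DescGlue.exists_local`. -/
def Loc {X X₁ : Scheme.{u}} (π : X₁ ⟶ X) {W : X.Modules} {W₁ : X₁.Modules}
    [IsIntegral X] [IsIntegral X₁] (hη : π (genericPoint X₁) = genericPoint X)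
    (J : W ⟶ (Scheme.Modules.pushforward π).obj W₁)
    (T : (Scheme.Modules.pushforward π).obj W₁ ⟶ W) {V : X.Opens} (β : Sec W V) : Prop :=
  ∀ h₁ : η X₁ ∈ π ⁻¹ᵁ V,
    (∃ g : Γ(X₁, π ⁻¹ᵁ V), P π hη J T β (X₁.presheaf.germ (π ⁻¹ᵁ V) (η X₁) h₁ g)) ∧
    (∀ z z' : X₁.functionField, (∀ b : Γ(X₁, π ⁻¹ᵁ V),
      tr π hη (z * X₁.presheaf.germ (π ⁻¹ᵁ V) (η X₁) h₁ b) =
        tr π hη (z' * X₁.presheaf.germ (π ⁻¹ᵁ V) (η X₁) h₁ b)) → z = z') ∧
    (∀ z : X₁.functionField, ∃ s : Γ(X, V), s ≠ 0 ∧ ∃ b : Γ(X₁, π ⁻¹ᵁ V),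
      X₁.presheaf.germ (π ⁻¹ᵁ V) (η X₁) h₁ (π.app V s) * z =
        X₁.presheaf.germ (π ⁻¹ᵁ V) (η X₁) h₁ b) ∧
    (∃ d : ℕ, d ≠ 0 ∧ ∀ c : X.functionField, tr π hη (K660.FF.ff π hη c) = d • c)

section Loc

variable (k : Type u) [Field k] [CharZero k] {X₁ X : Scheme.{u}}
  [X₁.Over (Spec (CommRingCat.of k))] [X.Over (Spec (CommRingCat.of k))]
  [LocallyOfFiniteType (X₁ ↘ Spec (CommRingCat.of k))]
  [LocallyOfFiniteType (X ↘ Spec (CommRingCat.of k))] (π : X₁ ⟶ X) [IsProper π]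
  (hπ : π ≫ (X ↘ Spec (CommRingCat.of k)) = X₁ ↘ Spec (CommRingCat.of k))
  [IsIntegral X₁] [IsIntegral X] (hdim : topologicalKrullDim X₁ = topologicalKrullDim X)
  (hX : ∀ x : X, IsRegularLocalRing (X.presheaf.stalk x))
  (hX₁ : ∀ y : X₁, IsRegularLocalRing (X₁.presheaf.stalk y))
  (hη : π (genericPoint X₁) = genericPoint X)
  {W : X.Modules} {W₁ : X₁.Modules} (hW₁ : PicF.IsInvertible W₁)
  (J : W ⟶ (Scheme.Modules.pushforward π).obj W₁)
  (hJ : ∀ (y : X₁), IsDiscreteValuationRing (X₁.presheaf.stalk y) →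
    IsDiscreteValuationRing (X.presheaf.stalk (π y)) →
    ∀ t : X.presheaf.stalk (π y), Irreducible t →
    ∀ a ∈ IsLocalRing.maximalIdeal (X₁.presheaf.stalk y),
    ∀ (U : X.Opens) (β : Γ(W, U)) (h : π y ∈ U), ∃ ω : W₁.presheaf.stalk y,
      a • W₁.presheaf.germ (π ⁻¹ᵁ U) y h (show Γ(W₁, π ⁻¹ᵁ U) from J.app U β) =
        (π.stalkMap y t) • ω)
  (T : (Scheme.Modules.pushforward π).obj W₁ ⟶ W)

include hπ hdim hX hX₁ hW₁ hJ in
theorem loc {V : X.Opens} (hV : IsAffineOpen V) [hN : Nonempty V] {β : Sec W V}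
    (hβ : IsGenOn W V β) : Loc π hη J T β := by
  intro h₁
  have hNoeth : IsLocallyNoetherian X :=
    LocallyOfFiniteType.isLocallyNoetherian (X ↘ Spec (CommRingCat.of k))
  have hN₁ : Nonempty (π ⁻¹ᵁ V) := ⟨⟨_, h₁⟩⟩
  have i1 : IsNoetherianRing Γ(X, V) := IsLocallyNoetherian.component_noetherian ⟨V, hV⟩
  have i2 : IsIntegrallyClosed Γ(X, V) := K562.DimF.isIntegrallyClosed_app (isNormal hX) V
  have i3 : IsIntegrallyClosed Γ(X₁, π ⁻¹ᵁ V) :=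
    K562.DimF.isIntegrallyClosed_app (isNormal hX₁) (π ⁻¹ᵁ V)
  have i4 : IsFractionRing Γ(X₁, π ⁻¹ᵁ V) X₁.functionField :=
    K562.DimF.isFractionRing_app π hη (K562.DimF.finiteDimensional_ff k π hπ hdim hη)
      (isNormal hX₁) hV
  refine exists_local π hη π.isClosedMap (inj_of_isInvertible hW₁) J T hV ?_
    (K562.DimF.finite_app π hV) hβ (fun x _ h => isDVR (hX x) h) ?_ h₁
  · intro n hn
    let F : k →+* Γ(X, V) := ((Scheme.ΓSpecIso (CommRingCat.of k)).inv ≫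
      (X ↘ Spec (CommRingCat.of k)).appLE ⊤ V (by simp)).hom
    have h1 : IsUnit (n : k) := IsUnit.mk0 _ (Nat.cast_ne_zero.mpr hn)
    have h2 := h1.map F
    rwa [map_natCast] at h2
  · intro y hy t ht c hc h
    exact hJ y (isDVR (hX₁ y) (K562.DimF.ringKrullDim_stalk_eq_one k π hπ hdim hη hy))
      (isDVR (hX _) hy) t ht c hc V β h

end Loc

section Glue

variable {X₁ X : Scheme.{u}} (π : X₁ ⟶ X) [IsIntegral X₁] [IsIntegral X]
  (hη : π (genericPoint X₁) = genericPoint X) {W : X.Modules} {W₁ : X₁.Modules}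
  (J : W ⟶ (Scheme.Modules.pushforward π).obj W₁)
  (T : (Scheme.Modules.pushforward π).obj W₁ ⟶ W)

theorem eq_of_le {V V' : X.Opens} (hle : V' ≤ V) (hη' : η X ∈ V') {γ : Sec W V} {γ' : Sec W V'}
    (hγ : IsGenOn W V γ) (hγ' : IsGenOn W V' γ') {g g' : X₁.functionField}
    (L : Loc π hη J T γ) (hP : P π hη J T γ g) (hP' : P π hη J T γ' g') : g = g' := by
  have hηV : η X ∈ V := hle hη'
  have h₁ : η X₁ ∈ π ⁻¹ᵁ V := by change π (η X₁) ∈ V; rw [hη]; exact hηV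
  have h₁' : η X₁ ∈ π ⁻¹ᵁ V' := by change π (η X₁) ∈ V'; rw [hη]; exact hη'
  have hN' : Nonempty V' := ⟨⟨_, hη'⟩⟩
  apply (L h₁).2.1
  intro b
  obtain ⟨a, ha⟩ := (smul_inj hγ).2 (co π T (b • im π J γ))
  have h1 := hP hηV h₁ b a ha.symm
  obtain ⟨v, hv⟩ := (smul_inj hγ').2 (res W hle γ)
  have hv0 : v ≠ 0 := by
    rintro rfl
    have h2 : res W hle γ = 0 := hv.symm.trans (zero_smul _ _)
    have h3 : (1 : Γ(X, V')) = 0 := by
      apply (smul_inj (hγ.mono hle)).1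
      change (1 : Γ(X, V')) • res W hle γ = (0 : Γ(X, V')) • res W hle γ
      rw [h2, smul_zero, smul_zero]
    exact one_ne_zero h3
  set b' : Γ(X₁, π ⁻¹ᵁ V') := resO X₁ (Scheme.Hom.preimage_mono π hle) b with hb'
  obtain ⟨a', ha'⟩ := (smul_inj hγ').2 (co π T (b' • im π J γ'))
  have h2 := hP' hη' h₁' b' a' ha'.symm
  have h3 : res W hle (co π T (b • im π J γ)) = v • (a' • γ') := by
    have e1 : im π J (res W hle γ) = (π.app V' v : Γ(X₁, π ⁻¹ᵁ V')) • im π J γ' := by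
      rw [← hv]
      exact im_smul π J v γ'
    have e2 : res W₁ (Scheme.Hom.preimage_mono π hle) (b • im π J γ) =
        (π.app V' v : Γ(X₁, π ⁻¹ᵁ V')) • (b' • im π J γ') := by
      rw [res_smul, res_im π J hle, e1, smul_comm]
    rw [res_co, e2, co_smul]
    exact congrArg (v • ·) ha'.symm
  have h4 : res W hle (co π T (b • im π J γ)) = resO X hle a • (v • γ') := by
    rw [← ha]
    change res W hle (a • γ) = _
    rw [res_smul]
    exact congrArg (resO X hle a • ·) hv.symm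
  have h5 : resO X hle a = a' := by
    have h6 : (resO X hle a * v) • γ' = (v * a') • γ' := by
      rw [mul_smul, mul_smul, ← h4, h3]
    have h7 := (smul_inj hγ').1 h6
    rw [mul_comm] at h7
    exact mul_left_cancel₀ hv0 h7
  have h6 : X.presheaf.germ V (η X) hηV a = X.presheaf.germ V' (η X) hη' a' := by
    rw [← h5]
    exact (germ_resO hle hη' a).symm
  have h7 : X₁.presheaf.germ (π ⁻¹ᵁ V') (η X₁) h₁' b' =
      X₁.presheaf.germ (π ⁻¹ᵁ V) (η X₁) h₁ b :=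
    germ_resO (Scheme.Hom.preimage_mono π hle) h₁' b
  rw [← h1, h6, h2, h7]

theorem eq_zero_of_P (hI₁ : Inj W₁) (hW₁ : PicF.IsInvertible W₁)
    (hJ1 : ∀ (U : X.Opens) (β : Γ(W, U)), β ≠ 0 → ∀ h : genericPoint X₁ ∈ π ⁻¹ᵁ U,
      W₁.presheaf.germ (π ⁻¹ᵁ U) (genericPoint X₁) h (show Γ(W₁, π ⁻¹ᵁ U) from J.app U β) ≠ 0)
    {V : X.Opens} (hηV : η X ∈ V) {β : Sec W V} (hβ : IsGenOn W V β)
    (L : Loc π hη J T β) (hP : P π hη J T β 0) (w : Sec W₁ (π ⁻¹ᵁ V)) : co π T w = 0 := by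
  have h₁ : η X₁ ∈ π ⁻¹ᵁ V := by change π (η X₁) ∈ V; rw [hη]; exact hηV
  have hN : Nonempty V := ⟨⟨_, hηV⟩⟩
  have hβ0 : β ≠ 0 := by
    rintro rfl
    have h3 : (1 : Γ(X, V)) = 0 := by
      apply (smul_inj hβ).1
      change (1 : Γ(X, V)) • (0 : Sec W V) = (0 : Γ(X, V)) • (0 : Sec W V)
      rw [smul_zero, smul_zero]
    exact one_ne_zero h3
  have hm : W₁.presheaf.germ (π ⁻¹ᵁ V) (η X₁) h₁ (im π J β) ≠ 0 := hJ1 V β hβ0 h₁
  obtain ⟨t, ht⟩ := exists_isGen hW₁ (η X₁)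
  obtain ⟨c, hc⟩ := ht.2 (W₁.presheaf.germ (π ⁻¹ᵁ V) (η X₁) h₁ (im π J β))
  obtain ⟨l, hl⟩ := ht.2 (W₁.presheaf.germ (π ⁻¹ᵁ V) (η X₁) h₁ w)
  have hc' : (c : X₁.functionField) ≠ 0 := by
    intro h0
    apply hm
    rw [← hc]
    change (c : X₁.presheaf.stalk (η X₁)) • t = 0
    rw [show (c : X₁.presheaf.stalk (η X₁)) = 0 from h0, zero_smul]
  obtain ⟨s, hs, b, hb⟩ := (L h₁).2.2.1 ((l : X₁.functionField) * (c : X₁.functionField)⁻¹)
  have key : (π.app V s : Γ(X₁, π ⁻¹ᵁ V)) • w = b • im π J β := by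
    apply section_ext hI₁
    intro h
    rw [germ_smul, germ_smul, ← hb, ← hl, ← hc]
    change (X₁.presheaf.germ (π ⁻¹ᵁ V) (η X₁) h (π.app V s)) • ((l : X₁.presheaf.stalk (η X₁)) • t) = 
      _ • ((c : X₁.presheaf.stalk (η X₁)) • t)
    rw [smul_smul, smul_smul]
    congr 1
    have hcc : (c : X₁.functionField)⁻¹ * c = 1 := inv_mul_cancel₀ hc'
    change _ = (_ * ((l : X₁.functionField) * (c : X₁.functionField)⁻¹)) * c
    rw [mul_assoc, mul_assoc, hcc, mul_one]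
  obtain ⟨a, ha⟩ := (smul_inj hβ).2 (co π T (b • im π J β))
  have h2 := hP hηV h₁ b a ha.symm
  have h3 : tr π hη (0 * X₁.presheaf.germ (π ⁻¹ᵁ V) (η X₁) h₁ b) = 0 := by
    rw [zero_mul]
    exact map_zero _
  rw [h3] at h2
  have ha0 : a = 0 := by
    have hinj : Function.Injective (X.germToFunctionField V) := X.germToFunctionField_injective V
    apply hinj
    exact h2.trans (map_zero _).symm
  obtain ⟨a', ha'⟩ := (smul_inj hβ).2 (co π T w)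
  have h4 : s • co π T w = 0 := by
    rw [← co_smul, key, ← ha, ha0]
    exact zero_smul _ _
  have h5 : s * a' = 0 := by
    apply (smul_inj hβ).1
    change (s * a') • β = (0 : Γ(X, V)) • β
    rw [mul_smul, zero_smul]
    exact (congrArg (s • ·) ha').trans h4
  have h6 : a' = 0 := (mul_eq_zero.mp h5).resolve_left hs
  rw [← ha', h6]
  exact zero_smul _ _

end Glue

section Main

variable (k : Type u) [Field k] [IsAlgClosed k] [CharZero k] {X₁ X : Scheme.{u}}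
  [X₁.Over (Spec (CommRingCat.of k))] [X.Over (Spec (CommRingCat.of k))]
  [IsProper (X₁ ↘ Spec (CommRingCat.of k))]
  [IsProper (X ↘ Spec (CommRingCat.of k))] (π : X₁ ⟶ X) [IsProper π] [Surjective π]
  (hπ : π ≫ (X ↘ Spec (CommRingCat.of k)) = X₁ ↘ Spec (CommRingCat.of k))
  [IsIntegral X₁] [IsIntegral X] (hdim : topologicalKrullDim X₁ = topologicalKrullDim X)
  (hX : ∀ x : X, IsRegularLocalRing (X.presheaf.stalk x))
  (hX₁ : ∀ y : X₁, IsRegularLocalRing (X₁.presheaf.stalk y))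

include hπ hdim hX hX₁ in
/-- **The trace of the pull-back of top forms is not zero.** -/
theorem comp_ne_zero {W : X.Modules} {W₁ : X₁.Modules} (hW : PicF.IsInvertible W)
    (hW₁ : PicF.IsInvertible W₁) (J : W ⟶ (Scheme.Modules.pushforward π).obj W₁)
    (hJ1 : ∀ (U : X.Opens) (β : Γ(W, U)), β ≠ 0 → ∀ h : genericPoint X₁ ∈ π ⁻¹ᵁ U,
      W₁.presheaf.germ (π ⁻¹ᵁ U) (genericPoint X₁) h (show Γ(W₁, π ⁻¹ᵁ U) from J.app U β) ≠ 0)
    (hJ : ∀ (y : X₁), IsDiscreteValuationRing (X₁.presheaf.stalk y) →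
      IsDiscreteValuationRing (X.presheaf.stalk (π y)) →
      ∀ t : X.presheaf.stalk (π y), Irreducible t →
      ∀ a ∈ IsLocalRing.maximalIdeal (X₁.presheaf.stalk y),
      ∀ (U : X.Opens) (β : Γ(W, U)) (h : π y ∈ U), ∃ ω : W₁.presheaf.stalk y,
        a • W₁.presheaf.germ (π ⁻¹ᵁ U) y h (show Γ(W₁, π ⁻¹ᵁ U) from J.app U β) =
          (π.stalkMap y t) • ω)
    (T : (Scheme.Modules.pushforward π).obj W₁ ⟶ W) (hT : T ≠ 0) : J ≫ T ≠ 0 := by
  intro hJT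
  apply hT
  have hη : π (genericPoint X₁) = genericPoint X := K562.DimF.map_genericPoint π
  have hloc : ∀ {V : X.Opens} (_ : IsAffineOpen V) (_ : η X ∈ V) {β : Sec W V}
      (_ : IsGenOn W V β), Loc π hη J T β := fun {V} hV hηV {β} hβ => by
    have : Nonempty V := ⟨⟨_, hηV⟩⟩
    exact loc k π hπ hdim hX hX₁ hη hW₁ J hJ T hV hβ
  have hη₁ : ∀ {V : X.Opens}, η X ∈ V → η X₁ ∈ π ⁻¹ᵁ V := fun {V} h => by
    change π (η X₁) ∈ V
    rw [hη]
    exact h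
  -- local data around every point of `X₁`
  have hdata : ∀ y : X₁, ∃ (V : X.Opens) (_ : IsAffineOpen V) (_ : π y ∈ V) (β : Sec W V)
      (_ : IsGenOn W V β) (g : Γ(X₁, π ⁻¹ᵁ V)), ∀ h₁ : η X₁ ∈ π ⁻¹ᵁ V,
        P π hη J T β (X₁.presheaf.germ (π ⁻¹ᵁ V) (η X₁) h₁ g) := by
    intro y
    obtain ⟨V, hV, -, hyV, β, hβ⟩ := exists_gen hW (U := ⊤) (show π y ∈ (⊤ : X.Opens) from trivial)
    have hηV : η X ∈ V := mem_of_nonempty hyV
    obtain ⟨g, hg⟩ := ((hloc hV hηV hβ) (hη₁ hηV)).1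
    exact ⟨V, hV, hyV, β, hβ, g, fun _ => hg⟩
  choose V hV hyV β hβ g hg using hdata
  have hηV : ∀ y, η X ∈ V y := fun y => mem_of_nonempty (hyV y)
  -- the function `g₀`
  let y₀ : X₁ := η X₁
  let g₀ : X₁.functionField := X₁.presheaf.germ (π ⁻¹ᵁ V y₀) (η X₁) (hη₁ (hηV y₀)) (g y₀)
  have hcmp : ∀ {V₁ V₂ : X.Opens} (_ : IsAffineOpen V₁) (_ : IsAffineOpen V₂) (_ : η X ∈ V₁)
      (_ : η X ∈ V₂) {γ₁ : Sec W V₁} {γ₂ : Sec W V₂} (_ : IsGenOn W V₁ γ₁) (_ : IsGenOn W V₂ γ₂)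
      {g₁ g₂ : X₁.functionField}, P π hη J T γ₁ g₁ → P π hη J T γ₂ g₂ → g₁ = g₂ := by
    intro V₁ V₂ hV₁ hV₂ h1 h2 γ₁ γ₂ hγ₁ hγ₂ g₁ g₂ hP₁ hP₂
    obtain ⟨V₃, hV₃, hle, h3, γ₃, hγ₃⟩ := exists_gen hW (U := V₁ ⊓ V₂) (x := η X) ⟨h1, h2⟩
    obtain ⟨g₃, hg₃⟩ := ((hloc hV₃ h3 hγ₃) (hη₁ h3)).1
    rw [eq_of_le π hη J T (hle.trans inf_le_left) h3 hγ₁ hγ₃ (hloc hV₁ h1 hγ₁) hP₁ hg₃,
      eq_of_le π hη J T (hle.trans inf_le_right) h3 hγ₂ hγ₃ (hloc hV₂ h2 hγ₂) hP₂ hg₃]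
  have hg₀ : ∀ y, X₁.presheaf.germ (π ⁻¹ᵁ V y) (η X₁) (hη₁ (hηV y)) (g y) = g₀ := fun y =>
    hcmp (hV y) (hV y₀) (hηV y) (hηV y₀) (hβ y) (hβ y₀) (hg y _) (hg y₀ _)
  obtain ⟨s, hs⟩ : ∃ s : Γ(X₁, ⊤), X₁.presheaf.germ ⊤ (η X₁) trivial s = g₀ := by
    obtain ⟨s, hs⟩ := Groth.Agent.Ega4dA.GenSec.existsO_glue (X := X₁) (U := ⊤)
      (fun y : X₁ => π ⁻¹ᵁ V y) (fun _ => le_top)
      (fun y _ => Opens.mem_iSup.mpr ⟨y, hyV y⟩) g (fun y y' => by
        have hN : Nonempty (π ⁻¹ᵁ V y ⊓ π ⁻¹ᵁ V y' : X₁.Opens) :=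
          ⟨⟨η X₁, hη₁ (hηV y), hη₁ (hηV y')⟩⟩
        apply X₁.germToFunctionField_injective (π ⁻¹ᵁ V y ⊓ π ⁻¹ᵁ V y' : X₁.Opens)
        have e1 := germ_resO (X := X₁) (inf_le_left : π ⁻¹ᵁ V y ⊓ π ⁻¹ᵁ V y' ≤ π ⁻¹ᵁ V y)
          (x := η X₁) ⟨hη₁ (hηV y), hη₁ (hηV y')⟩ (g y)
        have e2 := germ_resO (X := X₁) (inf_le_right : π ⁻¹ᵁ V y ⊓ π ⁻¹ᵁ V y' ≤ π ⁻¹ᵁ V y')
          (x := η X₁) ⟨hη₁ (hηV y), hη₁ (hηV y')⟩ (g y')
        exact (e1.trans (hg₀ y)).trans (e2.trans (hg₀ y')).symm)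
    refine ⟨s, ?_⟩
    have e1 := germ_resO (X := X₁) (le_top : π ⁻¹ᵁ V y₀ ≤ ⊤) (x := η X₁) (hη₁ (hηV y₀)) s
    rw [← e1]
    exact congrArg _ (hs y₀)
  -- it is constant
  obtain ⟨c, hc⟩ := K792.EndLine.exists_const k (X₁ ↘ Spec (CommRingCat.of k)) s
  let c' : Γ(X, ⊤) := (X ↘ Spec (CommRingCat.of k)).appTop ((Scheme.ΓSpecIso (CommRingCat.of k)).inv c)
  have hcc' : s = (π.app ⊤ c' : Γ(X₁, ⊤)) := by
    rw [hc]
    have h1 : (X ↘ Spec (CommRingCat.of k)).appTop ≫ π.appTop =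
        (X₁ ↘ Spec (CommRingCat.of k)).appTop := by
      rw [← Scheme.Hom.comp_appTop, hπ]
    exact (congrArg (fun φ => φ.hom ((Scheme.ΓSpecIso (CommRingCat.of k)).inv c)) h1).symm
  have hg₀c : g₀ = K660.FF.ff π hη (X.presheaf.germ ⊤ (η X) trivial c') := by
    rw [← hs, hcc']
    exact (K660.FF.ff_germ π hη ⊤ trivial trivial c').symm
  -- it is zero
  have htr : tr π hη g₀ = 0 := by
    have h1 : co π T ((1 : Γ(X₁, π ⁻¹ᵁ V y₀)) • im π J (β y₀)) = (0 : Γ(X, V y₀)) • β y₀ := by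
      rw [one_smul, co_im, hJT, zero_smul]
      rfl
    have h2 := hg y₀ (hη₁ (hηV y₀)) (hηV y₀) (hη₁ (hηV y₀)) 1 0 h1
    rw [map_one, mul_one, map_zero] at h2
    exact h2.symm
  have hzero : g₀ = 0 := by
    obtain ⟨d, hd, htrd⟩ := ((hloc (hV y₀) (hηV y₀) (hβ y₀)) (hη₁ (hηV y₀))).2.2.2
    rw [hg₀c, htrd] at htr
    have hchar : CharZero X.functionField := by
      let F : k →+* X.functionField := (X.presheaf.germ ⊤ (η X) trivial).hom.comp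
        ((Scheme.ΓSpecIso (CommRingCat.of k)).inv ≫ (X ↘ Spec (CommRingCat.of k)).appTop).hom
      exact charZero_of_injective_ringHom F.injective
    have h3 : (X.presheaf.germ ⊤ (η X) trivial c' : X.functionField) = 0 := by
      rw [nsmul_eq_mul] at htr
      exact (mul_eq_zero.mp htr).resolve_left (Nat.cast_ne_zero.mpr hd)
    rw [hg₀c]
    exact (congrArg _ h3).trans (map_zero _)
  -- hence `T = 0`
  apply hom_ext_of_locally
  intro x U hxU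
  obtain ⟨V', hV', hle, hxV', γ, hγ⟩ := exists_gen hW hxU
  refine ⟨V', hle, hxV', fun w => ?_⟩
  have hη' : η X ∈ V' := mem_of_nonempty hxV'
  obtain ⟨g', hg'⟩ := ((hloc hV' hη' hγ) (hη₁ hη')).1
  have h1 := hcmp hV' (hV y₀) hη' (hηV y₀) hγ (hβ y₀) hg' (hg y₀ (hη₁ (hηV y₀)))
  have h2 : P π hη J T γ 0 := by
    have h3 : X₁.presheaf.germ (π ⁻¹ᵁ V') (η X₁) (hη₁ hη') g' = 0 := h1.trans hzero
    rw [h3] at hg'
    exact hg'
  exact eq_zero_of_P π hη J T (inj_of_isInvertible hW₁) hW₁ hJ1 hη' hγ (hloc hV' hη' hγ) h2 w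

end Main

end K910.DescTop
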