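import Groth.Agent.Vanish.K910.DescTrace
import Groth.Agent.Vanish.K910.DescPush
import Groth.Agent.Vanish.K910.DescTop
import Groth.Agent.Vanish.K909.AltInterface
import Groth.Agent.Vanish.K680.FormMain
import Groth.Agent.Surf.K455.Canon
import Groth.Agent.Surf.K461.SerreDual
import Groth.Agent.AbVar.K504.Hodge
import Groth.Agent.S0998
import Groth.Agent.S1535

/-!
# Descent of surjectivity and vanishing in cohomology along generically finite maps

`π : X₁ ⟶ X` proper surjective between smooth projective varieties of the same dimension `n` over an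
algebraically closed field of characteristic zero, `W`, `W₁` the canonical modules:

* `inj_J`: `t : O_X ⟶ W[n]` with `J♭[n] ∘ Lπ^* t = 0` is zero, `J♭ : π^* W ⟶ W₁` the pull-back of forms;
* `inj`: `Lπ^*` is injective on `Hom(O_X, W[n])`;
* `desc : K909.AltInterface.Desc k`.
-/

set_option autoImplicit false

universe u

open CategoryTheory CategoryTheory.Limits AlgebraicGeometry

attribute [local instance] HasDerivedCategory.standard

namespace K910.Desc

open Groth.Agent Groth.Agent.CurvesC Groth.Agent.CurvesC.RepX Groth.Agent.CurvesC.DualLin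
  Groth.Agent.Sga67.SelfIntT K910.DescFormal K910.DescTrace

attribute [local instance] LinMod.linearModules

/-- (NZ): there is a quasi-coherent module without higher direct images and with a non-zero map to `W₁`. -/
def NZ (k : Type u) [Field k] : Prop :=
  ∀ (X X₁ : Scheme.{u}) [X.Over (Spec (CommRingCat.of k))] [X₁.Over (Spec (CommRingCat.of k))]
    (π : X₁ ⟶ X) [π.IsOver (Spec (CommRingCat.of k))] [IsIntegral X] [IsIntegral X₁]
    [IsProper (X ↘ Spec (CommRingCat.of k))] [IsProper (X₁ ↘ Spec (CommRingCat.of k))]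
    [IsProper π] [Surjective π], topologicalKrullDim X₁ = topologicalKrullDim X →
    ∀ (A : X.Modules) (A₁ : X₁.Modules), CohB1.IsAmple A → CohB1.IsAmple A₁ →
    ∀ W₁ : X₁.Modules, PicF.IsInvertible W₁ →
      ∃ F : X₁.Modules, Coh.IsQCoh F ∧ (∀ q : ℕ, 1 ≤ q → K946.RZ π F q) ∧ ∃ f : F ⟶ W₁, f ≠ 0

section Scalar

variable (k : Type u) [Field k] [IsAlgClosed k] {X : Scheme.{u}} [X.Over (Spec (CommRingCat.of k))]
  [IsProper (X ↘ Spec (CommRingCat.of k))] [IsIntegral X] {W : X.Modules} (hW : PicF.IsInvertible W)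
  (n : ℤ) (τ : (P X ⟶ (DCoh.inD X W)⟦n⟧) →ₗ[k] k)
  (hτ : ∀ K : DCoh.D X, DCoh.IsQCohD K → Function.Bijective (pairing k X τ K))

theorem comp_scalar (t : P X ⟶ (DCoh.inD X W)⟦n⟧) (a : k) :
    t ≫ ((DerivedCategory.singleFunctor X.Modules 0).map (a • 𝟙 W))⟦n⟧' = a • t := by
  rw [Functor.map_smul, Functor.map_smul, CategoryTheory.Functor.map_id,
    CategoryTheory.Functor.map_id, Linear.comp_smul]
  congr 1
  exact Category.comp_id t

include hW hτ in
theorem eq_zero_of_tau (t : P X ⟶ (DCoh.inD X W)⟦n⟧) (ht : τ t = 0) : t = 0 := by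
  rw [← Module.forall_dual_apply_eq_zero_iff k t]
  intro lam
  have hq : DCoh.IsQCohD ((DCoh.inD X W)⟦n⟧) :=
    Groth.Agent.PerfA.QCohD.isQCohD_shift (Groth.Agent.PerfA.QCohD.isQCohD_inD _
      (Groth.Agent.PerfB.TensInv.isQCoh_of_isInvertible hW)) _
  obtain ⟨s, rfl⟩ := (hτ _ hq).2 lam
  obtain ⟨s', rfl⟩ := (shiftFunctor (DCoh.D X) n).map_surjective s
  obtain ⟨φ, rfl⟩ := (DerivedCategory.singleFunctor X.Modules 0).map_surjective s'
  obtain ⟨a, rfl⟩ := K792.EndLine.exists_scalar k hW φ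
  rw [pairing_apply, comp_scalar k n t a, map_smul, ht, smul_zero]

include hW hτ in
theorem eq_zero_of_comp (t : P X ⟶ (DCoh.inD X W)⟦n⟧) (φ : W ⟶ W) (hφ : φ ≠ 0)
    (ht : τ (t ≫ ((DerivedCategory.singleFunctor X.Modules 0).map φ)⟦n⟧') = 0) : t = 0 := by
  obtain ⟨a, rfl⟩ := K792.EndLine.exists_scalar k hW φ
  have ha : a ≠ 0 := by
    rintro rfl
    exact hφ (zero_smul _ _)
  rw [comp_scalar k n t a, map_smul, smul_eq_mul, mul_eq_zero] at ht
  exact eq_zero_of_tau k hW n τ hτ t (ht.resolve_left ha)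

end Scalar

section Main

variable (k : Type u) [Field k] [IsAlgClosed k] [CharZero k] (hNZ : NZ k)
  {X X₁ : Scheme.{u}} [X.Over (Spec (CommRingCat.of k))] [X₁.Over (Spec (CommRingCat.of k))]
  (π : X₁ ⟶ X) [π.IsOver (Spec (CommRingCat.of k))] [IsIntegral X] [IsIntegral X₁]
  [IsProper (X ↘ Spec (CommRingCat.of k))] [IsProper (X₁ ↘ Spec (CommRingCat.of k))]
  [IsProper π] [Surjective π] (n : ℕ) [SmoothOfRelativeDimension n (X ↘ Spec (CommRingCat.of k))]
  [SmoothOfRelativeDimension n (X₁ ↘ Spec (CommRingCat.of k))]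

include hNZ in
/-- The pull-back of forms `J : W ⟶ π_* W₁` and a trace `T` with `J ≫ T ≠ 0`, in terms of cohomology. -/
theorem exists_J {A : X.Modules} {A₁ : X₁.Modules} (hA : CohB1.IsAmple A) (hA₁ : CohB1.IsAmple A₁)
    {W : X.Modules} {W₁ : X₁.Modules}
    (hW : ExtPow.IsExtPow n (Omega.sheaf (X ↘ Spec (CommRingCat.of k))) W)
    (hW₁ : ExtPow.IsExtPow n (Omega.sheaf (X₁ ↘ Spec (CommRingCat.of k))) W₁)
    [DCoh.HasLpull π] (J : W ⟶ (Scheme.Modules.pushforward π).obj W₁)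
    (hJ1 : ∀ (U : X.Opens) (β : Γ(W, U)), β ≠ 0 → ∀ h : genericPoint X₁ ∈ π ⁻¹ᵁ U,
      W₁.presheaf.germ (π ⁻¹ᵁ U) (genericPoint X₁) h (show Γ(W₁, π ⁻¹ᵁ U) from J.app U β) ≠ 0)
    (hJ2 : ∀ (y : X₁), IsDiscreteValuationRing (X₁.presheaf.stalk y) →
      IsDiscreteValuationRing (X.presheaf.stalk (π y)) →
      ∀ t : X.presheaf.stalk (π y), Irreducible t →
      ∀ a ∈ IsLocalRing.maximalIdeal (X₁.presheaf.stalk y),
      ∀ (U : X.Opens) (β : Γ(W, U)) (h : π y ∈ U), ∃ ω : W₁.presheaf.stalk y,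
        a • W₁.presheaf.germ (π ⁻¹ᵁ U) y h (show Γ(W₁, π ⁻¹ᵁ U) from J.app U β) =
          (π.stalkMap y t) • ω) :
    letI : (DCoh.Lpull π).CommShift ℤ := Groth.Agent.Dcoh.DerPull.lpullCommShift π
    ∀ t : P X ⟶ (DCoh.inD X W)⟦(n : ℤ)⟧,
      (DCoh.Lpull π).map t ≫ pullN π W n ≫ ((DerivedCategory.singleFunctor X₁.Modules 0).map
        (((Scheme.Modules.pullbackPushforwardAdjunction π).homEquiv W W₁).symm J))⟦(n : ℤ)⟧' = 0 →
      t = 0 := by
  intro t ht
  letI : (DCoh.Lpull π).CommShift ℤ := Groth.Agent.Dcoh.DerPull.lpullCommShift π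
  haveI : (DCoh.Lpull π).IsTriangulated := Groth.Agent.Dcoh.DerPull.lpull_isTriangulated π
  haveI : DCoh.HasRpush π := Groth.Agent.Dcoh.DerSch.hasRpush π
  have hsm : Smooth (X ↘ Spec (CommRingCat.of k)) := SmoothOfRelativeDimension.smooth n _
  have hsm₁ : Smooth (X₁ ↘ Spec (CommRingCat.of k)) := SmoothOfRelativeDimension.smooth n _
  have hdim : topologicalKrullDim X₁ = topologicalKrullDim X := by
    rw [K504.Hodge.topologicalKrullDim_eq (X ↘ Spec (CommRingCat.of k)) n,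
      K504.Hodge.topologicalKrullDim_eq (X₁ ↘ Spec (CommRingCat.of k)) n]
  have hWi : PicF.IsInvertible W := K455.Canon.isInvertible (X ↘ Spec (CommRingCat.of k)) n hW
  have hWi₁ : PicF.IsInvertible W₁ := K455.Canon.isInvertible (X₁ ↘ Spec (CommRingCat.of k)) n hW₁
  obtain ⟨τ, hτ⟩ := K461.SerreDual.exists_form k X n W hW
  obtain ⟨τ₁, hτ₁⟩ := K461.SerreDual.exists_form k X₁ n W₁ hW₁
  have hR : DCoh.RpushPreservesQCoh π := fun K hK => S0998.result π K hK
  obtain ⟨T, hT1, hT2⟩ := exists_T' k π n τ hτ τ₁ hτ₁ hR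
    (Groth.Agent.PerfB.TensInv.isQCoh_of_isInvertible hWi₁)
  have hT : T ≠ 0 := by
    intro hT0
    obtain ⟨F, hF, hRZ, f, hf⟩ := hNZ X X₁ π hdim A A₁ hA hA₁ W₁ hWi₁
    obtain ⟨G, ⟨e⟩⟩ := K910.DescPush.exists_iso π hF hRZ (n : ℤ)
    exact hf (hT2 F G e f hF hT0)
  have hπ : π ≫ (X ↘ Spec (CommRingCat.of k)) = X₁ ↘ Spec (CommRingCat.of k) := comp_over π _
  have hJT : J ≫ T ≠ 0 := K910.DescTop.comp_ne_zero k π hπ hdim (fun x => S1535.result k X x)
    (fun y => S1535.result k X₁ y) hWi hWi₁ J hJ1 hJ2 T hT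
  exact eq_zero_of_comp k hWi n τ hτ t (J ≫ T) hJT (hT1 J t ht)

include hNZ in
/-- `Lπ^*` is injective on `Hom(O_X, W[n])`. -/
theorem inj_lpull {A : X.Modules} {A₁ : X₁.Modules} (hA : CohB1.IsAmple A) (hA₁ : CohB1.IsAmple A₁)
    {W : X.Modules} (hW : ExtPow.IsExtPow n (Omega.sheaf (X ↘ Spec (CommRingCat.of k))) W)
    [DCoh.HasLpull π] (t : P X ⟶ (DCoh.inD X W)⟦(n : ℤ)⟧) (ht : (DCoh.Lpull π).map t = 0) :
    t = 0 := by
  have hπ : π ≫ (X ↘ Spec (CommRingCat.of k)) = X₁ ↘ Spec (CommRingCat.of k) := comp_over π _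
  have h1 : SmoothOfRelativeDimension n (π ≫ (X ↘ Spec (CommRingCat.of k))) := by
    rw [hπ]; infer_instance
  have h2 : IsProper (π ≫ (X ↘ Spec (CommRingCat.of k))) := by
    rw [hπ]; infer_instance
  obtain ⟨W₁, hW₁, -⟩ := K455.Canon.exists_canonical (π ≫ (X ↘ Spec (CommRingCat.of k))) n
  obtain ⟨J, hJ1, hJ2⟩ := K680.FormMain.main n (X ↘ Spec (CommRingCat.of k)) π hW hW₁
  have hW₁' : ExtPow.IsExtPow n (Omega.sheaf (X₁ ↘ Spec (CommRingCat.of k))) W₁ := by
    rw [← hπ]; exact hW₁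
  refine exists_J k hNZ π n hA hA₁ hW hW₁' J hJ1 hJ2 t ?_
  rw [ht, zero_comp]

end Main

/-- **Descent of surjectivity and vanishing.** -/
theorem desc_of (k : Type u) [Field k] [IsAlgClosed k] [CharZero k] (hNZ : NZ k) :
    K909.AltInterface.Desc k := by
  intro X X₁ f π _ _ _ _ _ _ _ hdim ⟨A, hA⟩ ⟨A₁, hA₁⟩
  letI : X.Over (Spec (CommRingCat.of k)) := ⟨f⟩
  letI : X₁.Over (Spec (CommRingCat.of k)) := ⟨π ≫ f⟩
  haveI : π.IsOver (Spec (CommRingCat.of k)) := ⟨rfl⟩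
  haveI : IsProper (X ↘ Spec (CommRingCat.of k)) := inferInstanceAs (IsProper f)
  haveI : IsProper (X₁ ↘ Spec (CommRingCat.of k)) := inferInstanceAs (IsProper (π ≫ f))
  obtain ⟨n, hn⟩ := K504.Hodge.exists_relDim k X f
  obtain ⟨n₁, hn₁⟩ := K504.Hodge.exists_relDim k X₁ (π ≫ f)
  obtain rfl : n₁ = n := by
    have h1 := K504.Hodge.topologicalKrullDim_eq f n
    have h2 := K504.Hodge.topologicalKrullDim_eq (π ≫ f) n₁
    rw [h1, h2] at hdim
    exact_mod_cast hdim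
  haveI : SmoothOfRelativeDimension n₁ (X ↘ Spec (CommRingCat.of k)) := hn
  haveI : SmoothOfRelativeDimension n₁ (X₁ ↘ Spec (CommRingCat.of k)) := hn₁
  haveI : DCoh.HasLpull π := S0959.result π
  obtain ⟨W, hW, hWi⟩ := K455.Canon.exists_canonical (X ↘ Spec (CommRingCat.of k)) n₁
  obtain ⟨τ, hτ⟩ := K461.SerreDual.exists_form k X n₁ W hW
  exact K910.DescFormal.main k π τ hτ (fun t ht => inj_lpull k hNZ π n₁ hA hA₁ hW t ht)

end K910.Desc
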