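import Groth.Agent.Vanish.K562.TraceAlg

/-!
# Denominators and the trace form in a finite extension of normal domains
-/

set_option autoImplicit false

namespace K910.DescAlg

open nonZeroDivisors Algebra

variable {A B K L : Type*} [CommRing A] [IsDomain A] [CommRing B] [IsDomain B]
  [IsIntegrallyClosed B] [Algebra A B] [Module.Finite A B]
  [Field K] [Algebra A K] [IsFractionRing A K] [Field L] [Algebra B L] [IsFractionRing B L]
  [Algebra K L] [Algebra A L] [IsScalarTower A K L] [IsScalarTower A B L]

omit [IsDomain B] in
include K in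
theorem exists_denom (hinj : Function.Injective (algebraMap A B)) (z : L) :
    ∃ s : A, s ≠ 0 ∧ ∃ b : B, algebraMap B L (algebraMap A B s) * z = algebraMap B L b := by
  have : FaithfulSMul A B := (faithfulSMul_iff_algebraMap_injective A B).mpr hinj
  have : IsIntegralClosure B A L := IsIntegralClosure.of_isIntegrallyClosed _ _ _
  have : Algebra.IsAlgebraic K L := isAlgebraic_of_isFractionRing A B ..
  have hloc : IsLocalization (algebraMapSubmonoid B A⁰) L :=
    IsIntegralClosure.isLocalization A K L B
  obtain ⟨⟨b, ⟨_, s, hs, rfl⟩⟩, hb⟩ := IsLocalization.surj (algebraMapSubmonoid B A⁰) z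
  exact ⟨s, nonZeroDivisors.ne_zero hs, b, by rw [mul_comm]; exact hb⟩

omit [IsDomain B] in
theorem eq_of_trace (hA : ∀ n : ℕ, n ≠ 0 → IsUnit (n : A))
    (hinj : Function.Injective (algebraMap A B)) (g g' : L)
    (h : ∀ b : B, Algebra.trace K L (g * algebraMap B L b) =
      Algebra.trace K L (g' * algebraMap B L b)) : g = g' := by
  have hcA : CharZero A := charZero_of_inj_zero fun n hn => by
    by_contra hn0
    have h1 := hA n hn0
    rw [hn] at h1
    exact not_isUnit_zero h1
  have hcK : CharZero K := charZero_of_injective_algebraMap (IsFractionRing.injective A K)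
  have : FiniteDimensional K L := K562.TraceAlg.finiteDimensional (A := A) (B := B) hinj
  have hnd := (traceForm_nondegenerate K L)
  have h1 : ∀ z : L, Algebra.traceForm K L (g - g') z = 0 := by
    intro z
    obtain ⟨s, hs, b, hb⟩ := exists_denom (K := K) hinj z
    have h2 := h b
    rw [← hb, ← IsScalarTower.algebraMap_apply A B L, IsScalarTower.algebraMap_apply A K L,
      ← Algebra.smul_def, mul_smul_comm, mul_smul_comm, map_smul, map_smul, smul_eq_mul,
      smul_eq_mul] at h2
    have h3 : algebraMap A K s ≠ 0 := by
      rw [Ne, IsFractionRing.to_map_eq_zero_iff]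
      exact hs
    have h4 := mul_left_cancel₀ h3 h2
    rw [Algebra.traceForm_apply, sub_mul, map_sub, h4, sub_self]
  have h5 : g - g' = 0 := hnd.1 _ h1
  exact sub_eq_zero.mp h5

end K910.DescAlg
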