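import Groth.Agent.Surf.K461.SerreDual
import Groth.Agent.Sga67.SelfIntT
import Groth.Agent.Dcoh.DerPull
import Groth.Agent.PerfB.TensInv
import Groth.Agent.PerfA.QCohD
import Groth.Agent.PicF.K246.Basic

/-!
# Descent of surjectivity and vanishing in cohomology along `π : X₁ ⟶ X`: formal part

`X` over a field `k` with a dualizing object `W` of `D(X)` and linear form `τ`.  If `Lπ^*` is injective on
`Hom(O_X, W)`, then vanishing of `Hom(L P, L K)` implies vanishing of `Hom(P, K)`, and surjectivity of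
`Hom(L P, L K) → Hom(L P, L K')` implies surjectivity of `Hom(P, K) → Hom(P, K')`.
-/

set_option autoImplicit false

universe u

open CategoryTheory CategoryTheory.Limits AlgebraicGeometry

attribute [local instance] HasDerivedCategory.standard

namespace K910.DescFormal

open Groth.Agent Groth.Agent.CurvesC Groth.Agent.CurvesC.RepX Groth.Agent.CurvesC.DualLin
  Groth.Agent.Sga67.SelfIntT

attribute [local instance] LinMod.linearModules

section Abstract

variable (k : Type u) [Field k] {X : Scheme.{u}} [X.Over (Spec (CommRingCat.of k))]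
  {W : DCoh.D X} (τ : (P X ⟶ W) →ₗ[k] k)
  (hτ : ∀ K : DCoh.D X, DCoh.IsQCohD K → Function.Bijective (pairing k X τ K))
  {D : Type*} [Category D] [Preadditive D] (L : DCoh.D X ⥤ D) [L.PreservesZeroMorphisms]
  (hL : ∀ t : P X ⟶ W, L.map t = 0 → t = 0)

include hτ hL

theorem eq_zero_of_forall {K : DCoh.D X} (hK : DCoh.IsQCohD K)
    (hs : ∀ t : L.obj (P X) ⟶ L.obj K, t = 0) (t : P X ⟶ K) : t = 0 := by
  by_contra hne
  obtain ⟨lam, hlam⟩ : ∃ lam : Module.Dual k (P X ⟶ K), lam t ≠ 0 := by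
    by_contra hc
    push Not at hc
    exact hne ((Module.forall_dual_apply_eq_zero_iff k t).mp hc)
  obtain ⟨s, hs'⟩ := (hτ K hK).2 lam
  have h1 : lam t = τ (t ≫ s) := by rw [← hs']; rfl
  have h2 : t ≫ s = 0 := hL _ (by rw [L.map_comp, hs (L.map t), zero_comp])
  rw [h1, h2, map_zero] at hlam
  exact hlam rfl

theorem exists_of_forall {K K' : DCoh.D X} (hK : DCoh.IsQCohD K) (hK' : DCoh.IsQCohD K') (φ : K ⟶ K')
    (hs : ∀ t : L.obj (P X) ⟶ L.obj K', ∃ t' : L.obj (P X) ⟶ L.obj K, t' ≫ L.map φ = t)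
    (t : P X ⟶ K') : ∃ t' : P X ⟶ K, t' ≫ φ = t := by
  by_contra hne
  let R : Submodule k (P X ⟶ K') := LinearMap.range (Linear.rightComp k (P X) φ)
  have ht : t ∉ R := fun ⟨t', ht'⟩ => hne ⟨t', ht'⟩
  obtain ⟨lam, h1, h2⟩ := Submodule.exists_dual_map_eq_bot_of_notMem ht inferInstance
  have h2' : ∀ t' : P X ⟶ K, lam (t' ≫ φ) = 0 := fun t' => by
    have : lam (t' ≫ φ) ∈ R.map lam := ⟨_, ⟨t', rfl⟩, rfl⟩
    rw [h2] at this
    exact this
  obtain ⟨s, hs'⟩ := (hτ K' hK').2 lam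
  have h3 : ∀ t : P X ⟶ K', lam t = τ (t ≫ s) := fun t => by rw [← hs']; rfl
  have h4 : φ ≫ s = 0 := by
    apply (hτ K hK).1
    ext t'
    rw [map_zero]
    change τ (t' ≫ φ ≫ s) = 0
    rw [← Category.assoc, ← h3, h2']
  obtain ⟨t', ht'⟩ := hs (L.map t)
  have h5 : t ≫ s = 0 := hL _ (by
    rw [L.map_comp, ← ht', Category.assoc, ← L.map_comp, h4, L.map_zero, comp_zero])
  rw [h3, h5, map_zero] at h1
  exact h1 rfl

end Abstract

section Pull

variable {X X₁ : Scheme.{u}} (π : X₁ ⟶ X) [DCoh.HasLpull π] [(DCoh.Lpull π).CommShift ℤ]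

/-- `Lπ^* (N[b]) ≅ (π^* N)[b]` for `N` flat. -/
noncomputable def pullIso {N : X.Modules} (hN : FlatMod.IsFlat N) (b : ℤ) :
    (DCoh.Lpull π).obj ((DCoh.inD X N)⟦b⟧) ≅ (DCoh.inD X₁ ((Scheme.Modules.pullback π).obj N))⟦b⟧ :=
  ((DCoh.Lpull π).commShiftIso b).app (DCoh.inD X N) ≪≫
    (shiftFunctor (DCoh.D X₁) b).mapIso (haveI := isIso_aug_app π N hN; asIso ((aug π).app N))

theorem pullIso_naturality {M N : X.Modules} (hM : FlatMod.IsFlat M) (hN : FlatMod.IsFlat N) (φ : M ⟶ N)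
    (b : ℤ) : (DCoh.Lpull π).map (((DerivedCategory.singleFunctor X.Modules 0).map φ)⟦b⟧') ≫
      (pullIso π hN b).hom = (pullIso π hM b).hom ≫
      ((DerivedCategory.singleFunctor X₁.Modules 0).map ((Scheme.Modules.pullback π).map φ))⟦b⟧' := by
  have h1 := ((DCoh.Lpull π).commShiftIso b).hom.naturality
    ((DerivedCategory.singleFunctor X.Modules 0).map φ)
  have h2 := (aug π).naturality φ
  dsimp only [pullIso, Iso.trans_hom, Iso.app_hom, Functor.mapIso_hom, asIso_hom]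
  have h3 : ((DCoh.Lpull π).map ((DerivedCategory.singleFunctor X.Modules 0).map φ))⟦b⟧' ≫
      ((aug π).app N)⟦b⟧' = ((aug π).app M)⟦b⟧' ≫
      ((DerivedCategory.singleFunctor X₁.Modules 0).map ((Scheme.Modules.pullback π).map φ))⟦b⟧' := by
    rw [← Functor.map_comp, ← Functor.map_comp]
    exact congrArg _ h2
  have h1' : (DCoh.Lpull π).map (((DerivedCategory.singleFunctor X.Modules 0).map φ)⟦b⟧') ≫
      ((DCoh.Lpull π).commShiftIso b).hom.app (DCoh.inD X N) =
      ((DCoh.Lpull π).commShiftIso b).hom.app (DCoh.inD X M) ≫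
      ((DCoh.Lpull π).map ((DerivedCategory.singleFunctor X.Modules 0).map φ))⟦b⟧' := h1
  rw [Category.assoc, reassoc_of% h1', h3]

/-- `Lπ^* O_X ≅ O_{X₁}`. -/
noncomputable def pullP : P X₁ ≅ (DCoh.Lpull π).obj (P X) := by
  haveI := isIso_aug_app π (Coh.structureModule X)
      (Groth.Agent.PerfB.TensInv.isFlat_of_isInvertible (K246.Basic.isInvertible_structureModule X))
  exact (asIso ((aug π).app (Coh.structureModule X)) ≪≫
      (DerivedCategory.singleFunctor X₁.Modules 0).mapIso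
        (Groth.Agent.PerfB.FlatPull.pullbackUnit π)).symm

end Pull

section Main

variable (k : Type u) [Field k] {X X₁ : Scheme.{u}} [X.Over (Spec (CommRingCat.of k))] (π : X₁ ⟶ X)
  [DCoh.HasLpull π]

/-- **Descent**, from duality on `X` and injectivity of `Hom(O_X, W) → Hom(Lπ^* O_X, Lπ^* W)`. -/
theorem main {W : DCoh.D X} (τ : (P X ⟶ W) →ₗ[k] k)
    (hτ : ∀ K : DCoh.D X, DCoh.IsQCohD K → Function.Bijective (pairing k X τ K))
    (hinj : ∀ t : P X ⟶ W, (DCoh.Lpull π).map t = 0 → t = 0) :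
    (∀ (M N : X.Modules) (φ : M ⟶ N) (b : ℕ), PicF.IsInvertible M → PicF.IsInvertible N →
      Function.Surjective (Sheaf.H.map ((SheafOfModules.toSheaf X₁.ringCatSheaf).map
        ((Scheme.Modules.pullback π).map φ)) b) →
      Function.Surjective (Sheaf.H.map ((SheafOfModules.toSheaf X.ringCatSheaf).map φ) b)) ∧
    (∀ (M : X.Modules) (b : ℕ), PicF.IsInvertible M →
      Subsingleton (Coh.HH X₁ ((Scheme.Modules.pullback π).obj M) b) → Subsingleton (Coh.HH X M b)) := by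
  letI : (DCoh.Lpull π).CommShift ℤ := Groth.Agent.Dcoh.DerPull.lpullCommShift π
  haveI : (DCoh.Lpull π).IsTriangulated := Groth.Agent.Dcoh.DerPull.lpull_isTriangulated π
  letI : X₁.Over (Spec (CommRingCat.of k)) := ⟨π ≫ (X ↘ Spec (CommRingCat.of k))⟩
  have hz : (DCoh.Lpull π).PreservesZeroMorphisms := inferInstance
  have hq : ∀ {M : X.Modules}, PicF.IsInvertible M → ∀ b : ℕ, DCoh.IsQCohD ((DCoh.inD X M)⟦(b : ℤ)⟧) :=
    fun hM b => Groth.Agent.PerfA.QCohD.isQCohD_shift (Groth.Agent.PerfA.QCohD.isQCohD_inD _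
      (Groth.Agent.PerfB.TensInv.isQCoh_of_isInvertible hM)) _
  have hf : ∀ {M : X.Modules}, PicF.IsInvertible M → FlatMod.IsFlat M := fun hM =>
    Groth.Agent.PerfB.TensInv.isFlat_of_isInvertible hM
  refine ⟨fun M N φ b hM hN hs y => ?_, fun M b hM hs => ⟨fun y y' => ?_⟩⟩
  · have h1 : ∀ t : (DCoh.Lpull π).obj (P X) ⟶ (DCoh.Lpull π).obj ((DCoh.inD X N)⟦(b : ℤ)⟧),
        ∃ t' : (DCoh.Lpull π).obj (P X) ⟶ (DCoh.Lpull π).obj ((DCoh.inD X M)⟦(b : ℤ)⟧),
          t' ≫ (DCoh.Lpull π).map (((DerivedCategory.singleFunctor X.Modules 0).map φ)⟦(b : ℤ)⟧') = t := by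
      intro t
      obtain ⟨x, hx⟩ := hs (HomHV.homHV _ b ((pullP π).hom ≫ t ≫ (pullIso π (hf hN) b).hom))
      obtain ⟨u, rfl⟩ := (HomHV.homHV ((Scheme.Modules.pullback π).obj M) b).surjective x
      have h2 := HomHV.homHV_map k ((Scheme.Modules.pullback π).map φ) b u
      have h3 := (HomHV.homHV ((Scheme.Modules.pullback π).obj N) b).injective (h2.trans hx)
      refine ⟨(pullP π).inv ≫ u ≫ (pullIso π (hf hM) b).inv, ?_⟩
      rw [← cancel_mono (pullIso π (hf hN) b).hom, Category.assoc, pullIso_naturality π (hf hM) (hf hN)]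
      simp only [Category.assoc, Iso.inv_hom_id_assoc]
      rw [h3, Iso.inv_hom_id_assoc]
    obtain ⟨v, rfl⟩ := (HomHV.homHV N b).surjective y
    obtain ⟨t', ht'⟩ := exists_of_forall k τ hτ (DCoh.Lpull π) hinj (hq hM b) (hq hN b) _ h1 v
    refine ⟨HomHV.homHV M b t', ?_⟩
    have h2 := HomHV.homHV_map k φ b t'
    rw [ht'] at h2
    exact h2.symm
  · have h0 : ∀ t : P X ⟶ (DCoh.inD X M)⟦(b : ℤ)⟧, t = 0 := by
      refine eq_zero_of_forall k τ hτ (DCoh.Lpull π) hinj (hq hM b) (fun t => ?_)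
      have h1 : HomHV.homHV ((Scheme.Modules.pullback π).obj M) b
          ((pullP π).hom ≫ t ≫ (pullIso π (hf hM) b).hom) =
          HomHV.homHV ((Scheme.Modules.pullback π).obj M) b 0 := hs.elim _ _
      have h2 := (HomHV.homHV ((Scheme.Modules.pullback π).obj M) b).injective h1
      rw [← cancel_epi (pullP π).hom, ← cancel_mono (pullIso π (hf hM) b).hom, Category.assoc, h2]
      simp
    obtain ⟨v, rfl⟩ := (HomHV.homHV M b).surjective y
    obtain ⟨v', rfl⟩ := (HomHV.homHV M b).surjective y'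
    rw [h0 v, h0 v']

end Main

end K910.DescFormal
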