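import Groth.Agent.Vanish.K910.DescStar
import Groth.Agent.Vanish.K910.DescAlg
import Groth.Agent.ASBun.K792.EndLine

/-!
# A non-zero `T : π_* W₁ ⟶ W` is a multiple of the trace

`exists_local`: over an affine open where `W` is generated by `β`, `T (b • J β) = Tr (g b) β` with `g` in
`Γ(X₁, π⁻¹ V)`.
-/

set_option autoImplicit false
set_option backward.isDefEq.respectTransparency false

universe u

noncomputable section

open CategoryTheory CategoryTheory.Limits AlgebraicGeometry Opposite TopologicalSpace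
open Groth.Agent.Sga67.Sec K680.FormHom K475.GenStalk Groth.Agent.CycB.ModStalk
open K476.ExtStalk (germ_res germ_resO)
open K910.DescStar

namespace K910.DescGlue

variable {X X₁ : Scheme.{u}} (π : X₁ ⟶ X) {W : X.Modules} {W₁ : X₁.Modules}
  [IsIntegral X] [IsIntegral X₁]

/-- The trace of function fields. -/
def tr (hη : π (genericPoint X₁) = genericPoint X) (z : X₁.functionField) : X.functionField :=
  letI := (K660.FF.ff π hη).toAlgebra
  Algebra.trace X.functionField X₁.functionField z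

/-- `T (b • J β) = Tr (g b) β`. -/
def P (hη : π (genericPoint X₁) = genericPoint X) (J : W ⟶ (Scheme.Modules.pushforward π).obj W₁)
    (T : (Scheme.Modules.pushforward π).obj W₁ ⟶ W) {V : X.Opens} (β : Sec W V)
    (g : X₁.functionField) : Prop :=
  ∀ (h : η X ∈ V) (h₁ : η X₁ ∈ π ⁻¹ᵁ V) (b : Γ(X₁, π ⁻¹ᵁ V)) (a : Γ(X, V)),
    co π T (b • im π J β) = a • β →
      X.presheaf.germ V (η X) h a = tr π hη (g * X₁.presheaf.germ (π ⁻¹ᵁ V) (η X₁) h₁ b)

theorem mem_iff_of_eq {V : X.Opens} {p : Ideal Γ(X, V)} {x x' : X} (h : x' = x) (hx : x ∈ V)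
    (hx' : x' ∈ V) (hp : ∀ a, X.presheaf.germ V x hx a ∈ IsLocalRing.maximalIdeal (X.presheaf.stalk x) ↔
      a ∈ p) (a : Γ(X, V)) :
    X.presheaf.germ V x' hx' a ∈ IsLocalRing.maximalIdeal (X.presheaf.stalk x') ↔ a ∈ p := by
  subst h
  exact hp a

set_option maxHeartbeats 1000000 in
theorem exists_local (hη : π (genericPoint X₁) = genericPoint X) (hcl : IsClosedMap π)
    (hI₁ : Inj W₁) (J : W ⟶ (Scheme.Modules.pushforward π).obj W₁)
    (T : (Scheme.Modules.pushforward π).obj W₁ ⟶ W) {V : X.Opens} (hV : IsAffineOpen V)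
    [hN : Nonempty V] [hN₁ : Nonempty (π ⁻¹ᵁ V)]
    (hA : ∀ n : ℕ, n ≠ 0 → IsUnit (n : Γ(X, V)))
    [IsNoetherianRing Γ(X, V)] [IsIntegrallyClosed Γ(X, V)] [IsIntegrallyClosed Γ(X₁, π ⁻¹ᵁ V)]
    [IsFractionRing Γ(X₁, π ⁻¹ᵁ V) X₁.functionField]
    (hfin : (π.app V).hom.Finite) {β : Sec W V} (hβ : IsGenOn W V β)
    (hD : ∀ x ∈ V, ringKrullDim (X.presheaf.stalk x) = 1 →
      IsDiscreteValuationRing (X.presheaf.stalk x))
    (hJ : ∀ y : X₁, ringKrullDim (X.presheaf.stalk (π y)) = 1 →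
      ∀ t : X.presheaf.stalk (π y), Irreducible t →
      ∀ c ∈ IsLocalRing.maximalIdeal (X₁.presheaf.stalk y), ∀ h : π y ∈ V,
        ∃ ω : W₁.presheaf.stalk y,
          c • W₁.presheaf.germ (π ⁻¹ᵁ V) y h (im π J β) = (π.stalkMap y t) • ω)
    (h₁ : η X₁ ∈ π ⁻¹ᵁ V) :
    (∃ g : Γ(X₁, π ⁻¹ᵁ V), P π hη J T β (X₁.presheaf.germ (π ⁻¹ᵁ V) (η X₁) h₁ g)) ∧
    (∀ z z' : X₁.functionField, (∀ b : Γ(X₁, π ⁻¹ᵁ V),
      tr π hη (z * X₁.presheaf.germ (π ⁻¹ᵁ V) (η X₁) h₁ b) =
        tr π hη (z' * X₁.presheaf.germ (π ⁻¹ᵁ V) (η X₁) h₁ b)) → z = z') ∧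
    (∀ z : X₁.functionField, ∃ s : Γ(X, V), s ≠ 0 ∧ ∃ b : Γ(X₁, π ⁻¹ᵁ V),
      X₁.presheaf.germ (π ⁻¹ᵁ V) (η X₁) h₁ (π.app V s) * z =
        X₁.presheaf.germ (π ⁻¹ᵁ V) (η X₁) h₁ b) ∧
    (∃ d : ℕ, d ≠ 0 ∧ ∀ c : X.functionField, tr π hη (K660.FF.ff π hη c) = d • c) := by
  have hηV : η X ∈ V := by
    obtain ⟨x, hx⟩ := hN
    exact mem_of_nonempty hx
  letI algAB : Algebra Γ(X, V) Γ(X₁, π ⁻¹ᵁ V) := (π.app V).hom.toAlgebra
  haveI : Module.Finite Γ(X, V) Γ(X₁, π ⁻¹ᵁ V) := hfin
  letI algKL : Algebra X.functionField X₁.functionField := (K660.FF.ff π hη).toAlgebra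
  letI algAL : Algebra Γ(X, V) X₁.functionField :=
    ((algebraMap X.functionField X₁.functionField).comp
      (algebraMap Γ(X, V) X.functionField)).toAlgebra
  haveI : IsScalarTower Γ(X, V) X.functionField X₁.functionField :=
    IsScalarTower.of_algebraMap_eq (fun _ => rfl)
  haveI : IsScalarTower Γ(X, V) Γ(X₁, π ⁻¹ᵁ V) X₁.functionField :=
    IsScalarTower.of_algebraMap_eq (fun a => K660.FF.ff_germ π hη V hηV h₁ a)
  haveI : IsFractionRing Γ(X, V) X.functionField :=
    functionField_isFractionRing_of_isAffineOpen X V hV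
  have hinj : Function.Injective (algebraMap Γ(X, V) Γ(X₁, π ⁻¹ᵁ V)) := by
    rw [injective_iff_map_eq_zero]
    intro a ha
    have h2 : algebraMap Γ(X, V) X₁.functionField a = 0 := by
      rw [IsScalarTower.algebraMap_apply Γ(X, V) Γ(X₁, π ⁻¹ᵁ V) X₁.functionField, ha, map_zero]
    rw [IsScalarTower.algebraMap_apply Γ(X, V) X.functionField X₁.functionField,
      map_eq_zero_iff _ (RingHom.injective _), IsFractionRing.to_map_eq_zero_iff] at h2
    exact h2
  have hb1 : Function.Bijective (fun a : Γ(X, V) => a • β) := by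
    have h2 := hβ V le_rfl
    have h3 : (W.presheaf.map (homOfLE (le_refl V)).op β) = β := res_self W le_rfl β
    rw [h3] at h2
    exact h2
  let e : Γ(X, V) ≃ₗ[Γ(X, V)] Sec W V :=
    LinearEquiv.ofBijective (LinearMap.toSpanSingleton Γ(X, V) (Sec W V) β) hb1
  have he : ∀ s : Sec W V, e.symm s • β = s := fun s => e.apply_symm_apply s
  let θ : Γ(X₁, π ⁻¹ᵁ V) →ₗ[Γ(X, V)] Γ(X, V) :=
    { toFun := fun b => e.symm (co π T (b • im π J β))
      map_add' := fun b b' => by rw [add_smul, map_add, map_add]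
      map_smul' := fun c b => by
        have h1 : co π T ((c • b) • im π J β) = c • co π T (b • im π J β) := by
          rw [Algebra.smul_def, mul_smul]
          exact co_smul π T c (b • im π J β)
        rw [RingHom.id_apply, h1]
        exact LinearEquiv.map_smul e.symm c _ }
  have hθ : ∀ b, co π T (b • im π J β) = θ b • β := fun b => (he _).symm
  refine ⟨?_, ?_, ?_, ?_⟩
  · obtain ⟨g, hg⟩ := K562.TraceAlg.main (K := X.functionField) (L := X₁.functionField) hA hinj θ (by
      intro p hp hp1 b hb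
      set x : X := hV.fromSpec ⟨p, hp⟩ with hxdef
      have hx : x ∈ V := by
        have h2 : x ∈ hV.fromSpec.opensRange := ⟨_, rfl⟩
        rwa [hV.opensRange_fromSpec] at h2
      letI : Algebra Γ(X, V) (X.presheaf.stalk x) :=
        TopCat.Presheaf.algebra_section_stalk X.presheaf ⟨x, hx⟩
      haveI hloc : IsLocalization.AtPrime (X.presheaf.stalk x) p :=
        hV.isLocalization_stalk' ⟨p, hp⟩ hx
      have hdim : ringKrullDim (X.presheaf.stalk x) = 1 := by
        rw [IsLocalization.AtPrime.ringKrullDim_eq_height p (X.presheaf.stalk x), hp1]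
        rfl
      haveI := hD x hx hdim
      have hpm : ∀ a : Γ(X, V), X.presheaf.germ V x hx a ∈
          IsLocalRing.maximalIdeal (X.presheaf.stalk x) ↔ a ∈ p := fun a =>
        IsLocalization.AtPrime.to_map_mem_maximal_iff (X.presheaf.stalk x) p a
      rw [← hpm]
      refine mem_of_forall π hη hcl hI₁ J T hβ hx ?_ b ?_ (θ b) (hθ b)
      · intro y hy t ht c hc h
        refine hJ y ?_ t ht c hc h
        rw [hy]
        exact hdim
      · intro y hy h
        let q : Ideal Γ(X₁, π ⁻¹ᵁ V) := (IsLocalRing.maximalIdeal (X₁.presheaf.stalk y)).comap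
          (X₁.presheaf.germ (π ⁻¹ᵁ V) y h).hom
        have hq : q.IsPrime := Ideal.comap_isPrime _ _
        refine hb q hq ?_
        ext a
        rw [← mem_iff_of_eq hy hx h hpm a]
        change X₁.presheaf.germ (π ⁻¹ᵁ V) y h (π.app V a) ∈
          IsLocalRing.maximalIdeal (X₁.presheaf.stalk y) ↔ _
        have h2 : π.stalkMap y (X.presheaf.germ V (π y) h a) =
            X₁.presheaf.germ (π ⁻¹ᵁ V) y h (π.app V a) :=
          Scheme.Hom.germ_stalkMap_apply π V y h a
        rw [← h2, IsLocalRing.mem_maximalIdeal, IsLocalRing.mem_maximalIdeal, mem_nonunits_iff,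
          mem_nonunits_iff]
        exact not_congr (isUnit_map_iff (π.stalkMap y).hom _))
    refine ⟨g, fun h h₁' b a hab => ?_⟩
    have h2 : θ b = a := by
      apply hb1.1
      change θ b • β = a • β
      rw [← hθ, hab]
    have h3 := hg b
    rw [h2, map_mul] at h3
    exact h3
  · intro z z' h
    exact K910.DescAlg.eq_of_trace (A := Γ(X, V)) (B := Γ(X₁, π ⁻¹ᵁ V)) (K := X.functionField)
      (L := X₁.functionField) hA hinj z z' h
  · intro z
    exact K910.DescAlg.exists_denom (A := Γ(X, V)) (B := Γ(X₁, π ⁻¹ᵁ V)) (K := X.functionField)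
      (L := X₁.functionField) hinj z
  · haveI : FiniteDimensional X.functionField X₁.functionField :=
      K562.TraceAlg.finiteDimensional (A := Γ(X, V)) (B := Γ(X₁, π ⁻¹ᵁ V)) hinj
    refine ⟨Module.finrank X.functionField X₁.functionField, Module.finrank_pos.ne', fun c => ?_⟩
    exact Algebra.trace_algebraMap c

end K910.DescGlue
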