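import Groth.Agent.Vanish.K680.FormHom
import Groth.Agent.Vanish.K660.FF
import Groth.Agent.SDiv.K475.GenStalk
import Groth.Agent.SDiv.K476.ExtStalk
import Groth.Agent.CycB.ModStalk
import Groth.Prelude.Def_Pic

/-!
# A morphism `T : π_* W₁ ⟶ W` against the pull-back of top forms `J : W ⟶ π_* W₁`, in codimension one

`mem_of_forall`: let `T (b • J β) = a • β`, `β` a generator of `W` over `V`, `x ∈ V` a point with discrete
valuation ring `O_x`.  If `b` vanishes at all points over `x` and `J` has logarithmic poles, then `a` vanishes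
at `x`.
-/

set_option autoImplicit false
set_option backward.isDefEq.respectTransparency false

universe u

noncomputable section

open CategoryTheory CategoryTheory.Limits AlgebraicGeometry Opposite TopologicalSpace
open Groth.Agent.Sga67.Sec K680.FormHom K475.GenStalk Groth.Agent.CycB.ModStalk
open K476.ExtStalk (germ_res germ_resO)

namespace K910.DescStar

variable {X X₁ : Scheme.{u}} (π : X₁ ⟶ X) {W : X.Modules} {W₁ : X₁.Modules}

/-- The action of `T : π_* W₁ ⟶ W` on sections. -/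
def co (T : (Scheme.Modules.pushforward π).obj W₁ ⟶ W) {V : X.Opens} :
    Sec W₁ (π ⁻¹ᵁ V) →+ Sec W V :=
  (appS T V).toAddMonoidHom

theorem co_def (T : (Scheme.Modules.pushforward π).obj W₁ ⟶ W) {V : X.Opens}
    (s : Sec W₁ (π ⁻¹ᵁ V)) : co π T s = appS T V s := rfl

theorem co_smul (T : (Scheme.Modules.pushforward π).obj W₁ ⟶ W) {V : X.Opens}
    (c : Γ(X, V)) (s : Sec W₁ (π ⁻¹ᵁ V)) :
    co π T ((π.app V c : Γ(X₁, π ⁻¹ᵁ V)) • s) = c • co π T s :=
  LinearMap.map_smul (appS T V) c (show Sec ((Scheme.Modules.pushforward π).obj W₁) V from s)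

theorem res_co (T : (Scheme.Modules.pushforward π).obj W₁ ⟶ W) {U V : X.Opens} (h : V ≤ U)
    (s : Sec W₁ (π ⁻¹ᵁ U)) :
    res W h (co π T s) = co π T (res W₁ (Scheme.Hom.preimage_mono π h) s) :=
  (appS_res T h s).symm

theorem co_im (J : W ⟶ (Scheme.Modules.pushforward π).obj W₁)
    (T : (Scheme.Modules.pushforward π).obj W₁ ⟶ W) {V : X.Opens} (β : Sec W V) :
    co π T (im π J β) = appS (J ≫ T) V β := rfl

theorem app_resO {U V : X.Opens} (h : V ≤ U) (c : Γ(X, U)) :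
    (π.app V (resO X h c) : Γ(X₁, π ⁻¹ᵁ V)) =
      resO X₁ (Scheme.Hom.preimage_mono π h) (π.app U c) := by
  exact congrArg (fun φ => φ.hom c) (Scheme.Hom.naturality π (homOfLE h).op)

theorem irr_of_eq {x x' : X} (h : x' = x) {V : X.Opens} (hx : x ∈ V) (hx' : x' ∈ V) (t : Γ(X, V))
    (ht : Irreducible (X.presheaf.germ V x hx t)) : Irreducible (X.presheaf.germ V x' hx' t) := by
  subst h
  exact ht

theorem isOpen_range [IsIntegral X₁] (v : W₁.presheaf.stalk (η X₁)) :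
    IsOpen {y : X₁ | v ∈ Set.range (W₁.presheaf.stalkSpecializes (spec y))} := by
  rw [isOpen_iff_forall_mem_open]
  rintro y ⟨m, hm⟩
  obtain ⟨O, hyO, s, rfl⟩ := TopCat.Presheaf.exists_germ_eq W₁.presheaf m
  refine ⟨O, fun y' hy' => ⟨W₁.presheaf.germ O y' hy' s, ?_⟩, O.2, hyO⟩
  rw [germ_spec, ← hm, germ_spec]

variable [IsIntegral X] [IsIntegral X₁]

set_option maxHeartbeats 1000000 in
theorem mem_of_forall (hη : π (genericPoint X₁) = genericPoint X) (hcl : IsClosedMap π)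
    (hI₁ : Inj W₁) (J : W ⟶ (Scheme.Modules.pushforward π).obj W₁)
    (T : (Scheme.Modules.pushforward π).obj W₁ ⟶ W) {V : X.Opens} {β : Sec W V}
    (hβ : IsGenOn W V β) {x : X} (hx : x ∈ V) [IsDiscreteValuationRing (X.presheaf.stalk x)]
    (hJ : ∀ y : X₁, π y = x → ∀ t : X.presheaf.stalk (π y), Irreducible t →
      ∀ c ∈ IsLocalRing.maximalIdeal (X₁.presheaf.stalk y), ∀ h : π y ∈ V,
        ∃ ω : W₁.presheaf.stalk y,
          c • W₁.presheaf.germ (π ⁻¹ᵁ V) y h (im π J β) = (π.stalkMap y t) • ω)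
    (b : Γ(X₁, π ⁻¹ᵁ V))
    (hb : ∀ (y : X₁) (_ : π y = x) (h : π y ∈ V),
      X₁.presheaf.germ (π ⁻¹ᵁ V) y h b ∈ IsLocalRing.maximalIdeal (X₁.presheaf.stalk y))
    (a : Γ(X, V)) (ha : co π T (b • im π J β) = a • β) :
    X.presheaf.germ V x hx a ∈ IsLocalRing.maximalIdeal (X.presheaf.stalk x) := by
  obtain ⟨ϖ, hϖ⟩ := IsDiscreteValuationRing.exists_irreducible (X.presheaf.stalk x)
  obtain ⟨V₁, hxV₁, t, rfl⟩ := TopCat.Presheaf.exists_germ_eq X.presheaf ϖ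
  have hηV : η X ∈ V := mem_of_nonempty hx
  have hηV₁ : η X ∈ V₁ := mem_of_nonempty hxV₁
  have hη₁V : η X₁ ∈ π ⁻¹ᵁ V := by change π (η X₁) ∈ V; rw [hη]; exact hηV
  have hη₁V₁ : η X₁ ∈ π ⁻¹ᵁ V₁ := by change π (η X₁) ∈ V₁; rw [hη]; exact hηV₁
  -- the section `t` at the generic point of `X₁`
  set τ : X₁.functionField := X₁.presheaf.germ (π ⁻¹ᵁ V₁) (η X₁) hη₁V₁ (π.app V₁ t) with hτ
  have hτ0 : τ ≠ 0 := by
    intro h0
    have h1 := K660.FF.ff_germ π hη V₁ hηV₁ hη₁V₁ t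
    have h2 : (X.presheaf.germ V₁ (η X) hηV₁).hom t = 0 :=
      (map_eq_zero_iff _ (RingHom.injective (K660.FF.ff π hη))).mp (h1.trans h0)
    have h3 : algebraMap (X.presheaf.stalk x) X.functionField (X.presheaf.germ V₁ x hxV₁ t) = 0 :=
      (TopCat.Presheaf.germ_stalkSpecializes_apply X.presheaf hxV₁ (spec x) t).trans h2
    exact hϖ.ne_zero ((map_eq_zero_iff _ (IsFractionRing.injective _ _)).mp h3)
  set m : W₁.presheaf.stalk (η X₁) := W₁.presheaf.germ (π ⁻¹ᵁ V) (η X₁) hη₁V (b • im π J β) with hm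
  set v : W₁.presheaf.stalk (η X₁) := (τ⁻¹ : X₁.functionField) • m with hv
  have hτv : τ • v = m := by
    rw [hv, smul_smul, mul_inv_cancel₀ hτ0, one_smul]
  have hrange : ∀ y : X₁, π y = x → v ∈ Set.range (W₁.presheaf.stalkSpecializes (spec y)) := by
    intro y hy
    have hyV : π y ∈ V := by rw [hy]; exact hx
    have hyV₁ : π y ∈ V₁ := by rw [hy]; exact hxV₁
    obtain ⟨ω, hω⟩ := hJ y hy (X.presheaf.germ V₁ (π y) hyV₁ t) (irr_of_eq hy hxV₁ hyV₁ t hϖ)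
      (X₁.presheaf.germ (π ⁻¹ᵁ V) y hyV b) (hb y hy hyV) hyV
    refine ⟨ω, ?_⟩
    have h1 : π.stalkMap y (X.presheaf.germ V₁ (π y) hyV₁ t) =
        X₁.presheaf.germ (π ⁻¹ᵁ V₁) y hyV₁ (π.app V₁ t) :=
      Scheme.Hom.germ_stalkMap_apply π V₁ y hyV₁ t
    have h2 := congrArg (W₁.presheaf.stalkSpecializes (spec y)) hω
    rw [← germ_smul, germ_spec, h1, stalkSpecializes_smul] at h2
    have h3 : X₁.presheaf.stalkSpecializes (spec y)
        (X₁.presheaf.germ (π ⁻¹ᵁ V₁) y hyV₁ (π.app V₁ t)) = τ :=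
      TopCat.Presheaf.germ_stalkSpecializes_apply X₁.presheaf (U := π ⁻¹ᵁ V₁) hyV₁ (spec y) _
    rw [h3] at h2
    rw [hv, hm, h2, smul_smul, inv_mul_cancel₀ hτ0, one_smul]
  -- the neighbourhood
  set O : X₁.Opens := ⟨_, isOpen_range (W₁ := W₁) v⟩ with hO
  let V₂ : X.Opens := ⟨(π '' (O : Set X₁)ᶜ)ᶜ, (hcl _ O.2.isClosed_compl).isOpen_compl⟩
  have hxV₂ : x ∈ V₂ := by
    rintro ⟨y, hy, hyx⟩
    exact hy (hrange y hyx)
  have hV₂ : π ⁻¹ᵁ V₂ ≤ O := by
    intro y hy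
    by_contra hc
    exact hy ⟨y, hc, rfl⟩
  set V' : X.Opens := V₂ ⊓ V ⊓ V₁ with hV'
  have hxV' : x ∈ V' := ⟨⟨hxV₂, hx⟩, hxV₁⟩
  have hle : V' ≤ V := inf_le_left.trans inf_le_right
  have hle₁ : V' ≤ V₁ := inf_le_right
  have hle₂ : V' ≤ V₂ := inf_le_left.trans inf_le_left
  obtain ⟨w, hw⟩ := exists_section hI₁ (π ⁻¹ᵁ V') v (fun y hy => hV₂ (hle₂ hy))
  have key : res W₁ (Scheme.Hom.preimage_mono π hle) (b • im π J β) =
      (π.app V' (resO X hle₁ t) : Γ(X₁, π ⁻¹ᵁ V')) • (show Sec W₁ (π ⁻¹ᵁ V') from w) := by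
    apply section_ext hI₁
    intro hη'
    rw [germ_res W₁ (Scheme.Hom.preimage_mono π hle) hη', app_resO]
    refine Eq.trans ?_ (germ_smul W₁ (π ⁻¹ᵁ V') (η X₁) hη' _ w).symm
    rw [hw hη', germ_resO]
    exact hτv.symm
  have h1 : res W hle (a • β) = resO X hle₁ t • co π T (show Sec W₁ (π ⁻¹ᵁ V') from w) := by
    rw [← ha, res_co, key, co_smul]
  have h2 : X.presheaf.germ V x hx a • W.presheaf.germ V x hx β =
      X.presheaf.germ V₁ x hxV₁ t • W.presheaf.germ V' x hxV' (co π T (show Sec W₁ (π ⁻¹ᵁ V') from w)) := by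
    rw [← germ_smul W V x hx a β, ← germ_res W hle hxV', h1, germ_smul, germ_resO]
  obtain ⟨c, hc⟩ := (hβ.isGen x hx).2 (W.presheaf.germ V' x hxV' (co π T (show Sec W₁ (π ⁻¹ᵁ V') from w)))
  have h3 : X.presheaf.germ V x hx a = X.presheaf.germ V₁ x hxV₁ t * c := by
    apply (hβ.isGen x hx).1
    change X.presheaf.germ V x hx a • W.presheaf.germ V x hx β = _
    rw [h2, ← hc]
    exact (mul_smul _ _ _).symm
  rw [h3]
  exact Ideal.mul_mem_right _ _ ((IsLocalRing.mem_maximalIdeal _).mpr hϖ.not_isUnit)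

end K910.DescStar
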