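import Groth.Agent.Vanish.K910.DescFormal
import Groth.Agent.LoccohB.DCalc

/-!
# The trace `T : π_* W₁ ⟶ W` from duality on `X` and `X₁`
-/

set_option autoImplicit false

universe u

open CategoryTheory CategoryTheory.Limits AlgebraicGeometry

attribute [local instance] HasDerivedCategory.standard

namespace K910.DescTrace

open Groth.Agent Groth.Agent.CurvesC Groth.Agent.CurvesC.RepX Groth.Agent.CurvesC.DualLin
  Groth.Agent.Sga67.SelfIntT K910.DescFormal

attribute [local instance] LinMod.linearModules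

section Fac

variable {X X₁ : Scheme.{u}} (π : X₁ ⟶ X) [DCoh.HasLpull π] [(DCoh.Lpull π).CommShift ℤ]

/-- `Lπ^* (G[n]) ⟶ (π^* G)[n]`. -/
noncomputable def pullN (G : X.Modules) (n : ℤ) : (DCoh.Lpull π).obj ((DCoh.inD X G)⟦n⟧) ⟶
    (DCoh.inD X₁ ((Scheme.Modules.pullback π).obj G))⟦n⟧ :=
  ((DCoh.Lpull π).commShiftIso n).hom.app (DCoh.inD X G) ≫ ((aug π).app G)⟦n⟧'

theorem pullN_naturality {M N : X.Modules} (φ : M ⟶ N) (n : ℤ) :
    (DCoh.Lpull π).map (((DerivedCategory.singleFunctor X.Modules 0).map φ)⟦n⟧') ≫ pullN π N n =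
      pullN π M n ≫
        ((DerivedCategory.singleFunctor X₁.Modules 0).map ((Scheme.Modules.pullback π).map φ))⟦n⟧' := by
  have h1 := ((DCoh.Lpull π).commShiftIso n).hom.naturality
    ((DerivedCategory.singleFunctor X.Modules 0).map φ)
  have h2 := (aug π).naturality φ
  have h3 : ((DCoh.Lpull π).map ((DerivedCategory.singleFunctor X.Modules 0).map φ))⟦n⟧' ≫
      ((aug π).app N)⟦n⟧' = ((aug π).app M)⟦n⟧' ≫
      ((DerivedCategory.singleFunctor X₁.Modules 0).map ((Scheme.Modules.pullback π).map φ))⟦n⟧' := by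
    rw [← Functor.map_comp, ← Functor.map_comp]
    exact congrArg _ h2
  have h1' : (DCoh.Lpull π).map (((DerivedCategory.singleFunctor X.Modules 0).map φ)⟦n⟧') ≫
      ((DCoh.Lpull π).commShiftIso n).hom.app (DCoh.inD X N) =
      ((DCoh.Lpull π).commShiftIso n).hom.app (DCoh.inD X M) ≫
      ((DCoh.Lpull π).map ((DerivedCategory.singleFunctor X.Modules 0).map φ))⟦n⟧' := h1
  rw [pullN, pullN, Category.assoc, reassoc_of% h1', h3]

variable [(DCoh.Lpull π).IsTriangulated]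

/-- Maps `Lπ^* G ⟶ M` factor through `Lπ^* G ⟶ π^* G`. -/
theorem exists_fac₀ (G : X.Modules) (M : X₁.Modules) (f : (DCoh.Lpull π).obj (DCoh.inD X G) ⟶ DCoh.inD X₁ M) :
    ∃ h : (Scheme.Modules.pullback π).obj G ⟶ M,
      f = (aug π).app G ≫ (DerivedCategory.singleFunctor X₁.Modules 0).map h := by
  have h1 := isIso_aug0_app π G
  have h2 : IsIso ((DerivedCategory.homologyFunctor X₁.Modules 0).map ((aug π).app G)) := by
    have e : (aug0 π).app G = (DerivedCategory.homologyFunctor X₁.Modules 0).map ((aug π).app G) ≫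
      (DerivedCategory.singleFunctorCompHomologyFunctorIso X₁.Modules 0).hom.app
        ((Scheme.Modules.pullback π).obj G) ≫ (Scheme.Modules.pullback π).rightUnitor.hom.app G := rfl
    rw [e] at h1
    have h3 : IsIso ((DerivedCategory.singleFunctorCompHomologyFunctorIso
      X₁.Modules 0).hom.app ((Scheme.Modules.pullback π).obj G) ≫
        (Scheme.Modules.pullback π).rightUnitor.hom.app G) := by
      have h4 : IsIso ((DerivedCategory.singleFunctorCompHomologyFunctorIso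
        X₁.Modules 0).hom.app ((Scheme.Modules.pullback π).obj G)) := inferInstance
      have h5 : IsIso ((Scheme.Modules.pullback π).rightUnitor.hom.app G) := inferInstance
      exact IsIso.comp_isIso' h4 h5
    exact @IsIso.of_isIso_comp_right _ _ _ _ _ _ _ h3 h1
  have i1 : ((DCoh.Lpull π).obj (DCoh.inD X G)).IsLE 0 :=
    Groth.Agent.PerfC.RelFlatLpull.isLE_lpull (Groth.Agent.PerfB.PullData.pullData π) (DCoh.inD X G) 0
  have i2 : (DCoh.inD X₁ ((Scheme.Modules.pullback π).obj G)).IsLE 0 :=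
    inferInstanceAs (((DerivedCategory.singleFunctor X₁.Modules 0).obj _).IsLE 0)
  have i3 : (DCoh.inD X₁ M).IsGE 0 :=
    inferInstanceAs (((DerivedCategory.singleFunctor X₁.Modules 0).obj _).IsGE 0)
  obtain ⟨h', hh'⟩ := (LoccohB.DCalc.homEquiv 0 (DCoh.inD X₁ ((Scheme.Modules.pullback π).obj G))
    (DCoh.inD X₁ M)).surjective (inv ((DerivedCategory.homologyFunctor X₁.Modules 0).map ((aug π).app G)) ≫
      (DerivedCategory.homologyFunctor X₁.Modules 0).map f)
  obtain ⟨h, rfl⟩ := (DerivedCategory.singleFunctor X₁.Modules 0).map_surjective h'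
  refine ⟨h, (LoccohB.DCalc.homEquiv 0 _ (DCoh.inD X₁ M)).injective ?_⟩
  rw [LoccohB.DCalc.homEquiv_apply] at hh' ⊢
  rw [LoccohB.DCalc.homEquiv_apply, Functor.map_comp, hh', IsIso.hom_inv_id_assoc]

theorem exists_fac (n : ℤ) (G : X.Modules) (M : X₁.Modules)
    (f : (DCoh.Lpull π).obj ((DCoh.inD X G)⟦n⟧) ⟶ (DCoh.inD X₁ M)⟦n⟧) :
    ∃ h : (Scheme.Modules.pullback π).obj G ⟶ M,
      f = pullN π G n ≫ ((DerivedCategory.singleFunctor X₁.Modules 0).map h)⟦n⟧' := by
  obtain ⟨f', hf'⟩ := (shiftFunctor (DCoh.D X₁) n).map_surjective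
    (((DCoh.Lpull π).commShiftIso n).inv.app (DCoh.inD X G) ≫ f)
  obtain ⟨h, rfl⟩ := exists_fac₀ π G M f'
  refine ⟨h, ?_⟩
  rw [pullN, Category.assoc]
  have h3 : ((aug π).app G)⟦n⟧' ≫ ((DerivedCategory.singleFunctor X₁.Modules 0).map h)⟦n⟧' =
      ((DCoh.Lpull π).commShiftIso n).inv.app (DCoh.inD X G) ≫ f := by
    rw [← hf', ← Functor.map_comp]
  rw [h3, Iso.hom_inv_id_app_assoc]

end Fac

section Trace

variable (k : Type u) [Field k] {X X₁ : Scheme.{u}} [X.Over (Spec (CommRingCat.of k))]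
  [X₁.Over (Spec (CommRingCat.of k))] (π : X₁ ⟶ X) [π.IsOver (Spec (CommRingCat.of k))]
  [DCoh.HasLpull π]

theorem rho_pullP (a : k) : rho k X₁ a ≫ (pullP π).hom = (pullP π).hom ≫ (DCoh.Lpull π).map (rho k X a) := by
  haveI := isIso_aug_app π (Coh.structureModule X)
      (Groth.Agent.PerfB.TensInv.isFlat_of_isInvertible (K246.Basic.isInvertible_structureModule X))
  have h2 : (Scheme.Modules.pullback π).map
      (Formal.smulMod k (Coh.structureModule X) a) ≫ (PerfB.FlatPull.pullbackUnit π).hom =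
      (PerfB.FlatPull.pullbackUnit π).hom ≫ Formal.smulMod k (Coh.structureModule X₁) a := by
    rw [Ega1.PullFormal.pullback_smulMod, FormalB.ModPow.smulMod_naturality]
  have h3 := congrArg (fun z => (DerivedCategory.singleFunctor X₁.Modules 0).map z) h2
  simp only [Functor.map_comp] at h3
  have h4 := (aug π).naturality (Formal.smulMod k (Coh.structureModule X) a)
  have h5 : (DCoh.Lpull π).map (rho k X a) ≫ (pullP π).inv = (pullP π).inv ≫ rho k X₁ a := by
    change (DCoh.Lpull π).map (rho k X a) ≫ (aug π).app (Coh.structureModule X) ≫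
      (DerivedCategory.singleFunctor X₁.Modules 0).map (PerfB.FlatPull.pullbackUnit π).hom =
      ((aug π).app (Coh.structureModule X) ≫
      (DerivedCategory.singleFunctor X₁.Modules 0).map (PerfB.FlatPull.pullbackUnit π).hom) ≫ rho k X₁ a
    rw [Category.assoc, ← h3, ← Category.assoc, ← Category.assoc]
    exact congrArg (· ≫ _) h4
  rw [← cancel_mono (pullP π).inv, Category.assoc, Category.assoc, h5]
  simp

variable [(DCoh.Lpull π).CommShift ℤ] [(DCoh.Lpull π).IsTriangulated] [DCoh.HasRpush π]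

omit [(DCoh.Lpull π).CommShift ℤ] [(DCoh.Lpull π).IsTriangulated] in
theorem adj_symm_rho {E : DCoh.D X₁} (a : k) (t : P X ⟶ (DCoh.Rpush π).obj E) :
    (pullP π).hom ≫ ((Dcoh.DerPull.lpullAdj π).homEquiv _ _).symm (a • t) =
      a • ((pullP π).hom ≫ ((Dcoh.DerPull.lpullAdj π).homEquiv _ _).symm t) := by
  rw [← rho_comp, Adjunction.homEquiv_naturality_left_symm, ← Category.assoc, ← rho_pullP k π,
    Category.assoc, rho_comp]

/-- The linear form on `Hom(O_X, Rπ_* E)` attached to a linear form on `Hom(O_{X₁}, E)`. -/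
noncomputable def lam {E : DCoh.D X₁} (τ₁ : (P X₁ ⟶ E) →ₗ[k] k) :
    (P X ⟶ (DCoh.Rpush π).obj E) →ₗ[k] k where
  toFun t := τ₁ ((pullP π).hom ≫ ((Dcoh.DerPull.lpullAdj π).homEquiv _ _).symm t)
  map_add' s t := by
    rw [← map_add]
    congr 1
    rw [Adjunction.homEquiv_counit, Adjunction.homEquiv_counit, Adjunction.homEquiv_counit,
      Functor.map_add, Preadditive.add_comp, Preadditive.comp_add]
  map_smul' a t := by
    rw [adj_symm_rho, map_smul]
    rfl

theorem lam_apply {E : DCoh.D X₁} (τ₁ : (P X₁ ⟶ E) →ₗ[k] k) (t : P X ⟶ (DCoh.Rpush π).obj E) :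
    lam k π τ₁ t = τ₁ ((pullP π).hom ≫ ((Dcoh.DerPull.lpullAdj π).homEquiv _ _).symm t) := rfl

/-- **The trace.**  `J♭ : π^* W ⟶ W₁` denotes the adjoint of `J : W ⟶ π_* W₁`. -/
theorem exists_T' {W : X.Modules} {W₁ : X₁.Modules} (n : ℤ) (τ : (P X ⟶ (DCoh.inD X W)⟦n⟧) →ₗ[k] k)
    (hτ : ∀ K : DCoh.D X, DCoh.IsQCohD K → Function.Bijective (pairing k X τ K))
    (τ₁ : (P X₁ ⟶ (DCoh.inD X₁ W₁)⟦n⟧) →ₗ[k] k)
    (hτ₁ : ∀ K : DCoh.D X₁, DCoh.IsQCohD K → Function.Bijective (pairing k X₁ τ₁ K))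
    (hR : DCoh.RpushPreservesQCoh π) (hW₁ : Coh.IsQCoh W₁) :
    ∃ T : (Scheme.Modules.pushforward π).obj W₁ ⟶ W,
      (∀ (J : W ⟶ (Scheme.Modules.pushforward π).obj W₁) (t : P X ⟶ (DCoh.inD X W)⟦n⟧),
        (DCoh.Lpull π).map t ≫ pullN π W n ≫ ((DerivedCategory.singleFunctor X₁.Modules 0).map
          (((Scheme.Modules.pullbackPushforwardAdjunction π).homEquiv W W₁).symm J))⟦n⟧' = 0 →
          τ (t ≫ ((DerivedCategory.singleFunctor X.Modules 0).map (J ≫ T))⟦n⟧') = 0) ∧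
      (∀ (F : X₁.Modules) (G : X.Modules)
        (_ : (DCoh.inD X G)⟦n⟧ ≅ (DCoh.Rpush π).obj ((DCoh.inD X₁ F)⟦n⟧)) (f : F ⟶ W₁),
        Coh.IsQCoh F → T = 0 → f = 0) := by
  let adj := Dcoh.DerPull.lpullAdj π
  have hq : DCoh.IsQCohD ((DCoh.Rpush π).obj ((DCoh.inD X₁ W₁)⟦n⟧)) :=
    hR _ (Groth.Agent.PerfA.QCohD.isQCohD_shift (Groth.Agent.PerfA.QCohD.isQCohD_inD _ hW₁) _)
  obtain ⟨Tr, hTr⟩ := (hτ _ hq).2 (lam k π τ₁)
  have hTr' : ∀ t, τ (t ≫ Tr) = τ₁ ((pullP π).hom ≫ (adj.homEquiv _ _).symm t) := fun t => by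
    have := LinearMap.congr_fun hTr t
    exact this
  let io : (DCoh.inD X ((Scheme.Modules.pushforward π).obj W₁))⟦n⟧ ⟶
      (DCoh.Rpush π).obj ((DCoh.inD X₁ W₁)⟦n⟧) :=
    adj.homEquiv _ _ (pullN π _ n ≫ ((DerivedCategory.singleFunctor X₁.Modules 0).map
      ((Scheme.Modules.pullbackPushforwardAdjunction π).counit.app W₁))⟦n⟧')
  obtain ⟨T₀, hT₀⟩ := (shiftFunctor (DCoh.D X) n).map_surjective (io ≫ Tr)
  obtain ⟨T, rfl⟩ := (DerivedCategory.singleFunctor X.Modules 0).map_surjective T₀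
  -- maps `G[n] ⟶ Rπ_* W₁[n]` factor through `io`
  have hfac : ∀ (G : X.Modules) (z : (DCoh.inD X G)⟦n⟧ ⟶ (DCoh.Rpush π).obj ((DCoh.inD X₁ W₁)⟦n⟧)),
      ∃ h : G ⟶ (Scheme.Modules.pushforward π).obj W₁,
        z = ((DerivedCategory.singleFunctor X.Modules 0).map h)⟦n⟧' ≫ io := by
    intro G z
    obtain ⟨h, hh⟩ := exists_fac π n G W₁ ((adj.homEquiv _ _).symm z)
    let h' : G ⟶ (Scheme.Modules.pushforward π).obj W₁ :=
      (Scheme.Modules.pullbackPushforwardAdjunction π).homEquiv _ _ h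
    have hh' : h = (Scheme.Modules.pullback π).map h' ≫
        (Scheme.Modules.pullbackPushforwardAdjunction π).counit.app W₁ := by
      have := (Scheme.Modules.pullbackPushforwardAdjunction π).homEquiv_counit (X := G) (Y := W₁) (g := h')
      rw [← this]
      exact (((Scheme.Modules.pullbackPushforwardAdjunction π).homEquiv G W₁).symm_apply_apply h).symm
    refine ⟨h', (adj.homEquiv _ _).symm.injective ?_⟩
    rw [Adjunction.homEquiv_naturality_left_symm, Equiv.symm_apply_apply, hh, hh', Functor.map_comp,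
      Functor.map_comp, ← Category.assoc, ← Category.assoc, pullN_naturality]
  refine ⟨T, fun J t ht => ?_, fun F G e f hF hT => ?_⟩
  · have h1 : ((DerivedCategory.singleFunctor X.Modules 0).map (J ≫ T))⟦n⟧' =
        ((DerivedCategory.singleFunctor X.Modules 0).map J)⟦n⟧' ≫ io ≫ Tr := by
      rw [← hT₀, Functor.map_comp, Functor.map_comp]
    rw [h1, ← Category.assoc, ← Category.assoc, hTr']
    have h2 : (adj.homEquiv _ _).symm
        ((t ≫ ((DerivedCategory.singleFunctor X.Modules 0).map J)⟦n⟧') ≫ io) = 0 := by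
      rw [Adjunction.homEquiv_naturality_left_symm, Equiv.symm_apply_apply, Functor.map_comp,
        Category.assoc, ← Category.assoc ((DCoh.Lpull π).map _) (pullN π _ n),
        pullN_naturality, Category.assoc, ← Functor.map_comp, ← Functor.map_comp]
      rw [Adjunction.homEquiv_counit] at ht
      exact ht
    rw [h2, comp_zero, map_zero]
  · subst hT
    have h0 : io ≫ Tr = 0 := by
      rw [← hT₀, Functor.map_zero, Functor.map_zero]
    obtain ⟨h, hh⟩ := hfac G (e.hom ≫ (DCoh.Rpush π).map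
      (((DerivedCategory.singleFunctor X₁.Modules 0).map f)⟦n⟧'))
    have h1 : ((DerivedCategory.singleFunctor X₁.Modules 0).map f)⟦n⟧' = 0 := by
      apply (hτ₁ _ (Groth.Agent.PerfA.QCohD.isQCohD_shift
        (Groth.Agent.PerfA.QCohD.isQCohD_inD _ hF) n)).1
      rw [map_zero]
      ext t₁
      change τ₁ (t₁ ≫ _) = 0
      have h2 := hTr' ((adj.homEquiv _ _ ((pullP π).inv ≫ t₁)) ≫ (DCoh.Rpush π).map
        (((DerivedCategory.singleFunctor X₁.Modules 0).map f)⟦n⟧'))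
      rw [Adjunction.homEquiv_naturality_right_symm, Equiv.symm_apply_apply, ← Category.assoc,
        Iso.hom_inv_id_assoc] at h2
      rw [← h2]
      have h3 : (DCoh.Rpush π).map (((DerivedCategory.singleFunctor X₁.Modules 0).map f)⟦n⟧') =
          e.inv ≫ ((DerivedCategory.singleFunctor X.Modules 0).map h)⟦n⟧' ≫ io := by
        rw [← hh, Iso.inv_hom_id_assoc]
      rw [h3]
      simp only [Category.assoc]
      rw [h0]
      simp
    have h2 : (DerivedCategory.singleFunctor X₁.Modules 0).map f = 0 :=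
      (shiftFunctor (DCoh.D X₁) n).map_injective (by rw [h1, Functor.map_zero])
    exact (DerivedCategory.singleFunctor X₁.Modules 0).map_injective (by rw [h2, Functor.map_zero])

/-- **The trace.** -/
theorem exists_T {W : X.Modules} {W₁ : X₁.Modules} (n : ℤ) (τ : (P X ⟶ (DCoh.inD X W)⟦n⟧) →ₗ[k] k)
    (hτ : ∀ K : DCoh.D X, DCoh.IsQCohD K → Function.Bijective (pairing k X τ K))
    (τ₁ : (P X₁ ⟶ (DCoh.inD X₁ W₁)⟦n⟧) →ₗ[k] k)
    (hτ₁ : ∀ K : DCoh.D X₁, DCoh.IsQCohD K → Function.Bijective (pairing k X₁ τ₁ K))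
    (hR : DCoh.RpushPreservesQCoh π) (hW₁ : Coh.IsQCoh W₁) :
    ∃ T : (Scheme.Modules.pushforward π).obj W₁ ⟶ W,
      (∀ (J : W ⟶ (Scheme.Modules.pushforward π).obj W₁) (t : P X ⟶ (DCoh.inD X W)⟦n⟧),
        (DCoh.Lpull π).map t = 0 →
          τ (t ≫ ((DerivedCategory.singleFunctor X.Modules 0).map (J ≫ T))⟦n⟧') = 0) ∧
      (∀ (F : X₁.Modules) (G : X.Modules)
        (_ : (DCoh.inD X G)⟦n⟧ ≅ (DCoh.Rpush π).obj ((DCoh.inD X₁ F)⟦n⟧)) (f : F ⟶ W₁),
        Coh.IsQCoh F → T = 0 → f = 0) := by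
  obtain ⟨T, h1, h2⟩ := exists_T' k π n τ hτ τ₁ hτ₁ hR hW₁
  exact ⟨T, fun J t ht => h1 J t (by rw [ht, zero_comp]), h2⟩

end Trace

end K910.DescTrace
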