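import Groth.Agent.Vanish.K910.Nef
import Groth.Agent.S0027
import Groth.Agent.CohqA.ChevMain
import Groth.Agent.VarietyB.ProjForm
import Groth.Agent.CohqB.FinAmple

/-!
# Dévissage for growth and intersection numbers; direct images along closed immersions
-/

set_option autoImplicit false
universe u
open CategoryTheory CategoryTheory.Limits AlgebraicGeometry TopologicalSpace

namespace K910.Dev

open Groth.Agent Groth.Agent.Fga Groth.Agent.Fga.PicMon Groth.Agent.Fga.RegSec K910.HZ K910.IL K910.Nef

section Push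

variable {k : Type u} [Field k] {X Z : Scheme.{u}} (i : Z ⟶ X) [IsClosedImmersion i]

theorem mc_mul_push {M : X.Modules} (hM : PicF.IsInvertible M) (G : Z.Modules) :
    mc M * mc ((Coh.push i).obj G) =
      mc ((Coh.push i).obj (CohB1.tensorMod ((Scheme.Modules.pullback i).obj M) G)) :=
  mc_eq (VarietyB.ProjForm.projIso i (MultInt.hasBases hM) G)

variable [X.Over (Spec (CommRingCat.of k))] [Z.Over (Spec (CommRingCat.of k))]
  (hi : i ≫ (X ↘ Spec (CommRingCat.of k)) = Z ↘ Spec (CommRingCat.of k))

include hi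

theorem EC_push (d : ℕ) (G : Z.Modules) : EC k X d (mc ((Coh.push i).obj G)) = EC k Z d (mc G) :=
  MultInt.euler_push k i hi G d

theorem HZ_push (G : Z.Modules) : HZ k X (mc ((Coh.push i).obj G)) = HZ k Z (mc G) :=
  (CurvesC.CurveNum.hhPushₗ k i hi G 0).finrank_eq.symm

theorem HZ_mul_push {M : X.Modules} (hM : PicF.IsInvertible M) (G : Z.Modules) :
    HZ k X (mc M * mc ((Coh.push i).obj G)) = HZ k Z (mc ((Scheme.Modules.pullback i).obj M) * mc G) := by
  rw [mc_mul_push i hM, HZ_push i hi, mc_tensor]

theorem IL_push (d : ℕ) {l : List X.Modules} (hl : ∀ M ∈ l, PicF.IsInvertible M) (G : Z.Modules) :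
    IL k X d (l.map mc) (mc ((Coh.push i).obj G)) =
      IL k Z d ((l.map (Scheme.Modules.pullback i).obj).map mc) (mc G) := by
  induction l generalizing G with
  | nil => exact EC_push i hi d G
  | cons M l ih =>
    have hM := hl M List.mem_cons_self
    have hl' : ∀ M ∈ l, PicF.IsInvertible M := fun N hN => hl N (List.mem_cons_of_mem _ hN)
    simp only [List.map_cons, IL_cons]
    rw [mc_mul_push i hM, ih hl', ih hl', mc_tensor]

end Push

/-- The dimension of a subset. -/
theorem dim_mono {T : Type*} [TopologicalSpace T] {A B : Set T} (h : A ⊆ B) :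
    topologicalKrullDim A ≤ topologicalKrullDim B :=
  (Topology.IsEmbedding.inclusion h).isInducing.topologicalKrullDim_le

theorem dim_range {X Z : Scheme.{u}} (i : Z ⟶ X) [IsClosedImmersion i] :
    topologicalKrullDim (Set.range i) = topologicalKrullDim Z :=
  (i.isClosedEmbedding.isEmbedding.toHomeomorph).isHomeomorph.topologicalKrullDim_eq.symm

variable {X : Scheme.{u}}

/-- Dévissage for coherent modules with support in `T` and of dimension `≤ r`. -/
theorem dev [IsNoetherian X] [Nonempty X] (T : Set X) (r : ℕ) (P : X.Modules → Prop)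
    (hiso : ∀ M N : X.Modules, Nonempty (M ≅ N) → P M → P N)
    (hzero : ∀ M : X.Modules, IsZero M → P M)
    (hext : ∀ S : ShortComplex X.Modules, S.ShortExact → Coh.IsCoh S.X₁ → Coh.IsCoh S.X₂ → Coh.IsCoh S.X₃ →
      CohB1.support S.X₂ ⊆ T → topologicalKrullDim (CohB1.support S.X₂) ≤ r → P S.X₁ → P S.X₃ → P S.X₂)
    (hint : ∀ (Z : Scheme.{u}) (i : Z ⟶ X) [IsClosedImmersion i] [IsIntegral Z], Set.range i ⊆ T →
      topologicalKrullDim Z ≤ r → ∀ (I : Z.Modules) (ι : I ⟶ Coh.structureModule Z), Mono ι → Coh.IsCoh I →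
        P ((Coh.push i).obj I))
    (M : X.Modules) (hM : Coh.IsCoh M) (hMT : CohB1.support M ⊆ T)
    (hMr : topologicalKrullDim (CohB1.support M) ≤ r) : P M := by
  refine S0027.result X (fun M => CohB1.support M ⊆ T → topologicalKrullDim (CohB1.support M) ≤ r → P M)
    ?_ ?_ ?_ M hM hMT hMr
  · rintro A B ⟨e⟩ h h1 h2
    rw [← CohqB.DevSupport.support_congr e] at h1 h2
    exact hiso A B ⟨e⟩ (h h1 h2)
  · intro S hS c1 c2 c3 h1 h3 hT hr
    have e := CohqB.DevSupport.support_shortExact hS
    have s1 : CohB1.support S.X₁ ⊆ CohB1.support S.X₂ := by rw [e]; exact Set.subset_union_left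
    have s3 : CohB1.support S.X₃ ⊆ CohB1.support S.X₂ := by rw [e]; exact Set.subset_union_right
    exact hext S hS c1 c2 c3 hT hr (h1 (s1.trans hT) ((dim_mono s1).trans hr))
      (h3 (s3.trans hT) ((dim_mono s3).trans hr))
  · intro Z i hi hZ I ι hι hI hT hr
    by_cases h0 : IsZero I
    · exact hzero _ ((Coh.push i).map_isZero h0)
    · have hη := CohqA.ChevMain.gen_mem_support ι h0
      have : IsLocallyNoetherian Z := LocallyOfFiniteType.isLocallyNoetherian i
      have hO : Coh.IsCoh (Coh.structureModule Z) :=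
        HodgeSec.isCoh_of_isInvertible Fdesc.LocGen.isInvertible_structureModule
      have hIc : Coh.IsCoh I := PerfA.CohSerre.isCoh_of_mono ι hI hO
      have hcl : IsClosed (CohB1.support I) := S0020.result Z I hIc.2
      have huniv : CohB1.support I = Set.univ := by
        have h1 := (genericPoint_spec Z).mem_closed_set_iff hcl
        exact Set.univ_subset_iff.1 (h1.1 hη)
      have hrange : CohB1.support ((Coh.push i).obj I) = Set.range i := by
        rw [CohqB.DevSimple.support_push, huniv, Set.image_univ]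
      rw [hrange] at hT hr
      rw [dim_range] at hr
      exact hint Z i hT hr I ι hι hIc

section IL0

variable (k : Type u) [Field k] [X.Over (Spec (CommRingCat.of k))] [IsProper (X ↘ Spec (CommRingCat.of k))]
  {d : ℕ} (hd : topologicalKrullDim X ≤ d)

include hd

/-- If the intersection numbers vanish on all integral closed subschemes of dimension `r` contained in `T`, they
vanish on all coherent modules supported in `T`, of dimension `≤ r`. -/
theorem IL_eq_zero_of_integral [Nonempty X] (T : Set X) {l : List X.Modules} (hl : ∀ M ∈ l, PicF.IsInvertible M)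
    (h : ∀ (Z : Scheme.{u}) (i : Z ⟶ X) [IsClosedImmersion i], IsIntegral Z → Set.range i ⊆ T →
      topologicalKrullDim Z = (l.length : ℕ) →
      IL k X d (l.map mc) (mc ((Coh.push i).obj (Coh.structureModule Z))) = 0)
    (F : X.Modules) (hF : Coh.IsCoh F) (hT : CohB1.support F ⊆ T)
    (hr : topologicalKrullDim (CohB1.support F) ≤ (l.length : ℕ)) :
    IL k X d (l.map mc) (mc F) = 0 := by
  have := IntAdd.isNoetherian k X
  have hI : InvL (l.map mc) := by
    intro p hp
    obtain ⟨M, hM, rfl⟩ := List.mem_map.1 hp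
    exact inv_mc (hl M hM)
  have hlen : (l.map mc).length = l.length := List.length_map _
  refine dev T l.length (fun F => IL k X d (l.map mc) (mc F) = 0) ?_ ?_ ?_ ?_ F hF hT hr
  · rintro M N ⟨e⟩ h1
    rwa [← mc_eq e]
  · intro M hM
    refine IL_vanish k hd hI ⟨M, Groth.Agent.PerfA.CohSerre.isCoh_of_isZero hM, ?_, rfl⟩
    rw [CohqB.DevSupport.support_eq_empty_of_isZero hM]
    refine lt_of_lt_of_le (b := (0 : WithBot ℕ∞)) ?_ (by positivity)
    have : IsEmpty (IrreducibleCloseds (∅ : Set X)) := ⟨fun Z => by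
      obtain ⟨x, hx⟩ := Z.2.nonempty
      exact x.2⟩
    have h0 : topologicalKrullDim (∅ : Set X) = ⊥ := Order.krullDim_eq_bot
    rw [h0]
    exact WithBot.bot_lt_coe _
  · intro S hS c1 c2 c3 _ _ h1 h3
    have h2 := IL_add k hd hI S hS c1 c2 c3 (Inv.one (X := X))
    simp only [one_mul] at h2
    rw [h2, h1, h3, add_zero]
  · intro Z i _ _ hZT hZr I ι hι hIc
    letI : Z.Over (Spec (CommRingCat.of k)) := ⟨i ≫ (X ↘ Spec (CommRingCat.of k))⟩
    have hi : i ≫ (X ↘ Spec (CommRingCat.of k)) = Z ↘ Spec (CommRingCat.of k) := rfl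
    obtain ⟨M, hM, hMl⟩ := hI.exists_ofFn
    have hpc : Coh.IsCoh ((Coh.push i).obj I) := CohqB.FinAmple.isCoh_push i hIc
    have hps : CohB1.support ((Coh.push i).obj I) ⊆ Set.range i := by
      rw [CohqB.DevSimple.support_push]
      exact Set.image_subset_range _ _
    rcases lt_or_eq_of_le hZr with hlt | heq
    · refine IL_vanish k hd hI ⟨_, hpc, ?_, rfl⟩
      rw [hlen]
      refine lt_of_le_of_lt (dim_mono hps) ?_
      rw [dim_range]
      exact hlt
    · have h1 := (MultFinal.intNum_eq k X d hd i hi M hM (by rw [hlen]; exact hZr) _ hpc hps).2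
      have h2 := h Z i inferInstance hZT heq
      rw [hMl, IL_ofFn, MultInt.intNum_push k i hi d M hM] at h2
      rw [hMl, IL_ofFn, h1, h2, mul_zero]

end IL0

end K910.Dev
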