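import Groth.Agent.Vanish.K910.HZ
import Groth.Agent.Fga.MultFinal
import Groth.Agent.Grpsch.PicGrp

/-!
# Intersection numbers with lists of isomorphism classes

`X` proper over a field `k`, `d ≥ dim X`. For a list `l` of classes of invertible modules and the class `x` of a
coherent module, `IL k X d l x` is the iterated difference of the Euler characteristic. With `l` the list of classes
of the *inverses* of `L_1, …, L_r` and `x = mc F` this is `(L_1 ⋯ L_r · F)`; see `IL_ofFn`.
-/

set_option autoImplicit false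
universe u
open CategoryTheory CategoryTheory.Limits AlgebraicGeometry TopologicalSpace

namespace K910.IL

open Groth.Agent Groth.Agent.Fga Groth.Agent.Fga.PicMon Groth.Agent.Fga.RegSec K910.HZ

variable (k : Type u) [Field k] (X : Scheme.{u}) [X.Over (Spec (CommRingCat.of k))] (d : ℕ)

/-- Euler characteristic on isomorphism classes. -/
noncomputable def EC (c : MC X) : ℤ :=
  Quot.lift (fun F : X.Modules => FGA.eulerCharLE k X F d) (fun F G ⟨e⟩ => euler_iso k X e d) c

theorem EC_mc (F : X.Modules) : EC k X d (mc F) = FGA.eulerCharLE k X F d := rfl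

/-- Iterated differences of the Euler characteristic. -/
noncomputable def IL : List (MC X) → MC X → ℤ
  | [], x => EC k X d x
  | p :: l, x => IL l x - IL l (p * x)

variable {X}

@[simp] theorem IL_nil (x : MC X) : IL k X d [] x = EC k X d x := rfl

theorem IL_cons (p : MC X) (l : List (MC X)) (x : MC X) :
    IL k X d (p :: l) x = IL k X d l x - IL k X d l (p * x) := rfl

theorem IL_perm {l l' : List (MC X)} (h : l.Perm l') (x : MC X) : IL k X d l x = IL k X d l' x := by
  induction h generalizing x with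
  | nil => rfl
  | cons p _ ih => rw [IL_cons, IL_cons, ih, ih]
  | swap p q l =>
    simp only [IL_cons]
    have : q * (p * x) = p * (q * x) := mul_left_comm _ _ _
    rw [this]
    ring
  | trans _ _ ih1 ih2 => rw [ih1, ih2]

theorem IL_one_cons (l : List (MC X)) (x : MC X) : IL k X d (1 :: l) x = 0 := by
  rw [IL_cons, one_mul, sub_self]

theorem IL_mul_cons (p q : MC X) (l : List (MC X)) (x : MC X) :
    IL k X d ((p * q) :: l) x = IL k X d (p :: l) x + IL k X d (q :: l) x - IL k X d (p :: q :: l) x := by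
  simp only [IL_cons]
  have : q * (p * x) = p * q * x := by rw [mul_assoc, mul_left_comm]
  rw [this]
  ring

theorem IL_ofFn {r : ℕ} (M : Fin r → X.Modules) (F : X.Modules) :
    IL k X d (List.ofFn fun i => mc (M i)) (mc F) = FGA.intNum k X d M F := by
  induction r generalizing F with
  | zero => rw [List.ofFn_zero, IL_nil, PicMon.intNum_zero, EC_mc]
  | succ r ih =>
    rw [List.ofFn_succ, IL_cons, ih, ← mc_tensor, ih]
    have h1 : M = (Fin.cons (M 0) (fun j => M j.succ) : Fin (r + 1) → X.Modules) := (Fin.cons_self_tail M).symm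
    conv_rhs => rw [h1, intNum_cons]

theorem IL_replicate (r : ℕ) (M F : X.Modules) :
    IL k X d (List.replicate r (mc M)) (mc F) = FGA.intNum k X d (fun _ : Fin r => M) F := by
  rw [← IL_ofFn, List.ofFn_const]

/-- A list of invertible classes. -/
def InvL (l : List (MC X)) : Prop := ∀ p ∈ l, Inv p

theorem InvL.tail {p : MC X} {l : List (MC X)} (h : InvL (p :: l)) : InvL l :=
  fun q hq => h q (List.mem_cons_of_mem _ hq)

theorem InvL.head {p : MC X} {l : List (MC X)} (h : InvL (p :: l)) : Inv p := h p List.mem_cons_self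

theorem InvL.cons {p : MC X} {l : List (MC X)} (hp : Inv p) (h : InvL l) : InvL (p :: l) := by
  intro q hq
  rcases List.mem_cons.1 hq with rfl | hq
  · exact hp
  · exact h q hq

theorem InvL.exists_ofFn {l : List (MC X)} (h : InvL l) :
    ∃ M : Fin l.length → X.Modules, (∀ i, PicF.IsInvertible (M i)) ∧ l = List.ofFn fun i => mc (M i) := by
  have h1 : ∀ i : Fin l.length, ∃ L : X.Modules, PicF.IsInvertible L ∧ mc L = l.get i :=
    fun i => h _ (List.get_mem l i)
  choose M hM hM' using h1
  refine ⟨M, hM, ?_⟩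
  simp only [hM']
  exact (List.ofFn_get l).symm

variable [IsProper (X ↘ Spec (CommRingCat.of k))]

variable {d} in
theorem EC_eq_of_vanish (F : X.Modules) (h : ∀ p : ℕ, 0 < p → Subsingleton (Coh.HH X F p)) :
    EC k X d (mc F) = HZ k X (mc F) := by
  rw [EC_mc]
  unfold FGA.eulerCharLE
  rw [Finset.sum_range_succ', Finset.sum_eq_zero, HZ_mc]
  · simp
  · intro i _
    have := h (i + 1) (Nat.succ_pos i)
    rw [Module.finrank_zero_of_subsingleton]
    simp

omit [X.Over (Spec (CommRingCat.of k))] [IsProper (X ↘ Spec (CommRingCat.of k))] in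
/-- Twisting by an invertible module does not change the support. -/
theorem support_tensor' {L : X.Modules} (hL : PicF.IsInvertible L) (F : X.Modules) :
    CohB1.support (CohB1.tensorMod L F) = CohB1.support F := by
  obtain ⟨M, hM, ⟨e⟩⟩ := Grpsch.PicGrp.exists_inverse hL
  exact PosMain.support_tensor X hL hM (by rw [← mc_tensor, mc_eq e, mc_one]) F

/-- Classes of coherent modules whose support has dimension `< n`. -/
def DLt (n : ℕ) (x : MC X) : Prop :=
  ∃ F : X.Modules, Coh.IsCoh F ∧ topologicalKrullDim (CohB1.support F) < n ∧ mc F = x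

omit [X.Over (Spec (CommRingCat.of k))] [IsProper (X ↘ Spec (CommRingCat.of k))] in
theorem DLt.mul {n : ℕ} {x c : MC X} (hx : DLt n x) (hc : Inv c) : DLt n (c * x) := by
  obtain ⟨F, hF, h, rfl⟩ := hx
  obtain ⟨L, hL, rfl⟩ := hc
  exact ⟨CohB1.tensorMod L F, isCoh_tensor hL hF, by rwa [support_tensor' hL], rfl⟩

omit [X.Over (Spec (CommRingCat.of k))] [IsProper (X ↘ Spec (CommRingCat.of k))] in
theorem DLt.mono {n m : ℕ} {x : MC X} (hx : DLt n x) (h : n ≤ m) : DLt m x := by
  obtain ⟨F, hF, h', rfl⟩ := hx
  exact ⟨F, hF, lt_of_lt_of_le h' (by exact_mod_cast h), rfl⟩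

omit [X.Over (Spec (CommRingCat.of k))] [IsProper (X ↘ Spec (CommRingCat.of k))] in
theorem dLt_of_le {n : ℕ} {F : X.Modules} (hF : Coh.IsCoh F)
    (h : topologicalKrullDim (CohB1.support F) ≤ n) : DLt (n + 1) (mc F) :=
  ⟨F, hF, lt_of_le_of_lt h (by exact_mod_cast Nat.lt_succ_self n), rfl⟩

variable {d} (hd : topologicalKrullDim X ≤ d)

include hd

/-- Vanishing for dimension reasons. -/
theorem IL_vanish {l : List (MC X)} (hl : InvL l) {x : MC X} (hx : DLt l.length x) : IL k X d l x = 0 := by
  obtain ⟨F, hF, hr, rfl⟩ := hx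
  obtain ⟨M, hM, h⟩ := hl.exists_ofFn
  rw [h, IL_ofFn]
  exact S3231.result k X d hd M hM F hF hr

theorem IL_twist {l : List (MC X)} (hl : InvL l) {c x : MC X} (hc : Inv c) (hx : DLt (l.length + 1) x) :
    IL k X d l (c * x) = IL k X d l x := by
  have h := IL_vanish k hd (hl.cons hc) (x := x) hx
  rw [IL_cons] at h
  linarith

theorem IL_mul {l : List (MC X)} (hl : InvL l) {p q x : MC X} (hp : Inv p) (hq : Inv q)
    (hx : DLt (l.length + 2) x) :
    IL k X d ((p * q) :: l) x = IL k X d (p :: l) x + IL k X d (q :: l) x := by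
  rw [IL_mul_cons, IL_vanish k hd ((hl.cons hq).cons hp) (x := x) hx, sub_zero]

theorem IL_pow {l : List (MC X)} (hl : InvL l) {p x : MC X} (hp : Inv p)
    (hx : DLt (l.length + 2) x) (n : ℕ) :
    IL k X d ((p ^ n) :: l) x = n * IL k X d (p :: l) x := by
  induction n with
  | zero => rw [pow_zero, IL_one_cons]; simp
  | succ n ih =>
    rw [pow_succ, IL_mul k hd hl (hp.pow n) hp hx, ih]
    push_cast
    ring

/-- An inverse class has the opposite intersection numbers. -/
theorem IL_inv {l : List (MC X)} (hl : InvL l) {p q x : MC X} (hp : Inv p) (hq : Inv q) (hpq : p * q = 1)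
    (hx : DLt (l.length + 2) x) :
    IL k X d (q :: l) x = - IL k X d (p :: l) x := by
  have h := IL_mul k hd hl hp hq hx
  rw [hpq, IL_one_cons] at h
  linarith

/-- Additivity in short exact sequences of coherent modules. -/
theorem IL_add {l : List (MC X)} (hl : InvL l) (S : ShortComplex X.Modules) (hS : S.ShortExact)
    (h1 : Coh.IsCoh S.X₁) (h2 : Coh.IsCoh S.X₂) (h3 : Coh.IsCoh S.X₃) {c : MC X} (hc : Inv c) :
    IL k X d l (c * mc S.X₂) = IL k X d l (c * mc S.X₁) + IL k X d l (c * mc S.X₃) := by
  induction l generalizing c with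
  | nil =>
    obtain ⟨L, hL, rfl⟩ := hc
    simp only [IL_nil, ← mc_tensor, EC_mc]
    exact IntAdd.isAdd_tensor X (IntAdd.isAdd_euler k X d hd) hL S hS h1 h2 h3
  | cons p l ih =>
    simp only [IL_cons, ← mul_assoc]
    rw [ih hl.tail hc, ih hl.tail (hl.head.mul hc)]
    ring

/-- Restriction to the zero locus of an `F`-regular section of an invertible module `N`; `p` is the inverse class. -/
theorem IL_cut {l : List (MC X)} (hl : InvL l) {N F : X.Modules} (hN : PicF.IsInvertible N) (hF : Coh.IsCoh F)
    {p : MC X} (hp : Inv p) (hpN : p * mc N = 1) (φ : F ⟶ CohB1.tensorMod N F) [hφ : Mono φ]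
    (hQ : topologicalKrullDim (CohB1.support (cokernel φ)) ≤ l.length) :
    IL k X d (p :: l) (mc F) = IL k X d l (mc (cokernel φ)) := by
  have := IntAdd.isNoetherian k X
  have hNF : Coh.IsCoh (CohB1.tensorMod N F) := isCoh_tensor hN hF
  have hC : Coh.IsCoh (cokernel φ) := Sga67.CohBasic.isCoh_cokernel _ hF.1 hNF
  have hS : (ShortComplex.mk φ (cokernel.π φ) (cokernel.condition _)).ShortExact :=
    { exact := ShortComplex.exact_cokernel _
      mono_f := hφ
      epi_g := inferInstanceAs (Epi (cokernel.π φ)) }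
  have h1 := IL_add k hd hl _ hS hF hNF hC hp
  change IL k X d l (p * mc (CohB1.tensorMod N F)) = IL k X d l (p * mc F) + IL k X d l (p * mc (cokernel φ)) at h1
  rw [mc_tensor, ← mul_assoc, hpN, one_mul, IL_twist k hd hl hp (dLt_of_le hC hQ)] at h1
  rw [IL_cons, h1]
  ring

end K910.IL
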