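import Groth.Agent.Vanish.K910.KumReg
import Mathlib.Tactic.Module

/-!
# The model of the normalized cyclic cover

`A' = B[t]/(t^N - u f^α)`, `K = A'[1/f]`, `N = g e`, `α = g a`, `i₀ a - e c = 1`.
The ring `D = C[W]/(W^e - v^{i₀} f)`, `C = B[V]/(V^g - u)` embeds into `K` by
`v ↦ t^e f^{-a}`, `w ↦ t^{i₀} f^{-c}`.
-/

set_option autoImplicit false
universe u

open Polynomial

namespace K910.KumModel

open Groth.Agent.Pi1.H390.T1KumRing (pol root_pow monic_pol)

/-! ### Identities in abelian groups -/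

section grp

variable {G : Type*} [CommGroup G] (t f v w u : G) (N α g i₀ a e c : ℤ)

theorem grp_w (hc : i₀ * a - e * c = 1) :
    (t ^ i₀ * f ^ (-c)) ^ e = (t ^ e * f ^ (-a)) ^ i₀ * f := by
  apply Additive.ofMul.injective
  simp only [ofMul_mul, ofMul_zpow]
  match_scalars
  · ring
  · linear_combination hc

theorem grp_v (hN : N = g * e) (hα : α = g * a) (h : t ^ N = u * f ^ α) :
    (t ^ e * f ^ (-a)) ^ g = u := by
  apply Additive.ofMul.injective
  apply_fun Additive.ofMul at h
  simp only [ofMul_mul, ofMul_zpow] at h ⊢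
  have h' : Additive.ofMul u = N • Additive.ofMul t - α • Additive.ofMul f := by
    rw [h]; abel
  rw [h', hN, hα]
  match_scalars
  · ring
  · ring

theorem grp_t (hc : i₀ * a - e * c = 1) :
    (t ^ i₀ * f ^ (-c)) ^ a * (t ^ e * f ^ (-a)) ^ (-c) = t := by
  apply Additive.ofMul.injective
  simp only [ofMul_mul, ofMul_zpow]
  match_scalars
  · linear_combination hc
  · ring

theorem grp_inv_v (hc : i₀ * a - e * c = 1) (h : w ^ e = v ^ i₀ * f) :
    (w ^ a * v ^ (-c)) ^ e * f ^ (-a) = v := by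
  apply Additive.ofMul.injective
  apply_fun Additive.ofMul at h
  simp only [ofMul_mul, ofMul_zpow] at h ⊢
  have h' : Additive.ofMul f = e • Additive.ofMul w - i₀ • Additive.ofMul v := by
    rw [h]; abel
  rw [h']
  match_scalars
  · ring
  · linear_combination hc

theorem grp_inv_w (hc : i₀ * a - e * c = 1) (h : w ^ e = v ^ i₀ * f) :
    (w ^ a * v ^ (-c)) ^ i₀ * f ^ (-c) = w := by
  apply Additive.ofMul.injective
  apply_fun Additive.ofMul at h
  simp only [ofMul_mul, ofMul_zpow] at h ⊢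
  have h' : Additive.ofMul f = e • Additive.ofMul w - i₀ • Additive.ofMul v := by
    rw [h]; abel
  rw [h']
  match_scalars
  · linear_combination hc
  · ring

theorem grp_inv_t (hN : N = g * e) (hα : α = g * a) (hc : i₀ * a - e * c = 1) :
    (v ^ i₀) ^ α * (v ^ (-c)) ^ N = v ^ g := by
  apply Additive.ofMul.injective
  simp only [ofMul_mul, ofMul_zpow]
  rw [hN, hα]
  match_scalars
  linear_combination g * hc

/-- `t^i f^{-q}` in terms of `v, w`. -/
theorem grp_gen (h : w ^ e = v ^ i₀ * f) (ht : t = w ^ a * v ^ (-c))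
    (i q : ℤ) : t ^ i * f ^ (-q) = w ^ (i * a - q * e) * v ^ (q * i₀ - c * i) := by
  subst ht
  apply Additive.ofMul.injective
  apply_fun Additive.ofMul at h
  simp only [ofMul_mul, ofMul_zpow] at h ⊢
  have h' : Additive.ofMul f = e • Additive.ofMul w - i₀ • Additive.ofMul v := by
    rw [h]; abel
  rw [h']
  match_scalars
  · ring
  · ring

end grp

section

variable {B : Type u} [CommRing B] (u : Bˣ) (f : B) (N α : ℕ)

/-! ### The units of `K` -/

variable (K : Type u) [CommRing K] [Algebra (AdjoinRoot (pol N ((u : B) * f ^ α))) K]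
  [Algebra B K] [IsScalarTower B (AdjoinRoot (pol N ((u : B) * f ^ α))) K]

theorem t_pow : (algebraMap (AdjoinRoot (pol N ((u : B) * f ^ α))) K (AdjoinRoot.root _)) ^ N =
    algebraMap B K u * algebraMap B K f ^ α := by
  rw [← map_pow, root_pow, ← AdjoinRoot.algebraMap_eq, ← IsScalarTower.algebraMap_apply,
    map_mul, map_pow]

variable [IsLocalization.Away (algebraMap B (AdjoinRoot (pol N ((u : B) * f ^ α))) f) K]

include u N α in
theorem isUnit_f : IsUnit (algebraMap B K f) := by
  rw [IsScalarTower.algebraMap_apply B (AdjoinRoot (pol N ((u : B) * f ^ α))) K]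
  exact IsLocalization.Away.algebraMap_isUnit _

/-- `F`. -/
noncomputable def FF : Kˣ := (isUnit_f u f N α K).unit

theorem isUnit_t (hN : N ≠ 0) :
    IsUnit (algebraMap (AdjoinRoot (pol N ((u : B) * f ^ α))) K (AdjoinRoot.root _)) := by
  refine (isUnit_pow_iff hN).1 ?_
  rw [t_pow]
  exact (u.isUnit.map _).mul ((isUnit_f u f N α K).pow _)

/-- `T`. -/
noncomputable def TT (hN : N ≠ 0) : Kˣ := (isUnit_t u f N α K hN).unit

theorem coe_FF : (FF u f N α K : K) = algebraMap B K f := rfl

theorem coe_TT (hN : N ≠ 0) : (TT u f N α K hN : K) =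
    algebraMap (AdjoinRoot (pol N ((u : B) * f ^ α))) K (AdjoinRoot.root _) := rfl

theorem TT_pow (hN : N ≠ 0) : TT u f N α K hN ^ N =
    Units.map (algebraMap B K).toMonoidHom u * FF u f N α K ^ α := by
  apply Units.ext
  rw [Units.val_mul, Units.val_pow_eq_pow_val, Units.val_pow_eq_pow_val, coe_TT, coe_FF, t_pow]
  rfl

variable {g e a i₀ : ℕ} {c : ℤ} (hN : N ≠ 0) (hNg : N = g * e) (hα : α = g * a)
  (hc : (i₀ : ℤ) * a - e * c = 1) (hg : g ≠ 0) (he : e ≠ 0)

/-- The image of `v`. -/
noncomputable def VV (e a : ℕ) : Kˣ := TT u f N α K hN ^ (e : ℤ) * (FF u f N α K) ^ (-(a : ℤ))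

/-- The image of `w`. -/
noncomputable def WW (i₀ : ℕ) (c : ℤ) : Kˣ := TT u f N α K hN ^ (i₀ : ℤ) * (FF u f N α K) ^ (-c)

include hNg hα in
theorem VV_pow : VV u f N α K hN e a ^ g = Units.map (algebraMap B K).toMonoidHom u := by
  have h := grp_v (TT u f N α K hN) (FF u f N α K) (Units.map (algebraMap B K).toMonoidHom u)
    N α g a e (by rw [hNg]; push_cast; rfl) (by rw [hα]; push_cast; rfl)
    (by rw [zpow_natCast, zpow_natCast, TT_pow])
  rw [zpow_natCast] at h
  exact h

include hc in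
theorem WW_pow : WW u f N α K hN i₀ c ^ e = VV u f N α K hN e a ^ i₀ * FF u f N α K := by
  have h := grp_w (TT u f N α K hN) (FF u f N α K) i₀ a e c hc
  rw [zpow_natCast _ e, zpow_natCast _ i₀] at h
  exact h

include hc in
theorem TT_eq : TT u f N α K hN =
    WW u f N α K hN i₀ c ^ (a : ℤ) * VV u f N α K hN e a ^ (-c) :=
  (grp_t (TT u f N α K hN) (FF u f N α K) i₀ a e c hc).symm

/-! ### Abstract injectivity -/

variable {D : Type u} [CommRing D] [Algebra B D] (v : Dˣ) (w : D)
  (hv : v ^ g = Units.map (algebraMap B D).toMonoidHom u)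
  (hw : w ^ e = (v ^ i₀ : Dˣ) * algebraMap B D f)
  (hfD : algebraMap B D f ∈ nonZeroDivisors D)
  (hext : ∀ (R : Type u) [CommRing R] (φ ψ : D →+* R),
    (∀ b : B, φ (algebraMap B D b) = ψ (algebraMap B D b)) → φ v = ψ v → φ w = ψ w → φ = ψ)
  (φ : D →ₐ[B] K) (hφv : φ v = (VV u f N α K hN e a : K)) (hφw : φ w = (WW u f N α K hN i₀ c : K))

include hNg hα hc hv hw in
theorem tD_pow : (w ^ a * (v ^ (-c) : Dˣ)) ^ N = algebraMap B D ((u : B) * f ^ α) := by
  have h1 : w ^ (a * N) = ((v ^ i₀ : Dˣ) * algebraMap B D f) ^ α := by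
    rw [← hw, ← pow_mul]
    congr 1
    rw [hNg, hα]
    ring
  rw [mul_pow, ← pow_mul, h1, mul_pow, map_mul, map_pow, mul_right_comm]
  congr 1
  rw [← Units.val_pow_eq_pow_val, ← Units.val_pow_eq_pow_val, ← Units.val_mul]
  have h2 := grp_inv_t v N α g i₀ a e c (by rw [hNg]; push_cast; rfl) (by rw [hα]; push_cast; rfl) hc
  rw [zpow_natCast, zpow_natCast, zpow_natCast, zpow_natCast] at h2
  rw [h2, hv]
  rfl

include hNg hα hc hv hw hfD hext hφv hφw he in
theorem injective_of : Function.Injective φ := by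
  let D' := Localization.Away (algebraMap B D f)
  let ψ₀ : AdjoinRoot (pol N ((u : B) * f ^ α)) →+* D :=
    AdjoinRoot.lift (algebraMap B D) (w ^ a * (v ^ (-c) : Dˣ))
      (by rw [eval₂_sub, eval₂_X_pow, eval₂_C, tD_pow u f N α hNg hα hc v w hv hw, sub_self])
  have hψ₀ : ∀ b : B, ψ₀ (algebraMap B _ b) = algebraMap B D b := fun b => by
    rw [AdjoinRoot.algebraMap_eq]
    exact AdjoinRoot.lift_of _
  have hψt : ψ₀ (AdjoinRoot.root _) = w ^ a * (v ^ (-c) : Dˣ) := AdjoinRoot.lift_root _
  let ψ₁ : AdjoinRoot (pol N ((u : B) * f ^ α)) →+* D' := (algebraMap D D').comp ψ₀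
  have huF : IsUnit (algebraMap D D' (algebraMap B D f)) := IsLocalization.Away.algebraMap_isUnit _
  have hu : IsUnit (ψ₁ (algebraMap B (AdjoinRoot (pol N ((u : B) * f ^ α))) f)) := by
    change IsUnit (algebraMap D D' (ψ₀ _))
    rw [hψ₀]
    exact huF
  let ψ : K →+* D' := IsLocalization.Away.lift
    (algebraMap B (AdjoinRoot (pol N ((u : B) * f ^ α))) f) hu
  have hψ : ∀ x, ψ (algebraMap _ K x) = algebraMap D D' (ψ₀ x) := fun x =>
    IsLocalization.Away.lift_eq _ hu x
  have hψB : ∀ b, ψ (algebraMap B K b) = algebraMap D D' (algebraMap B D b) := fun b => by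
    rw [IsScalarTower.algebraMap_apply B (AdjoinRoot (pol N ((u : B) * f ^ α))) K, hψ, hψ₀]
  -- unit versions
  have hw' : IsUnit (algebraMap D D' w) := by
    refine (isUnit_pow_iff he).1 ?_
    rw [← map_pow, hw, map_mul]
    exact ((v ^ i₀).isUnit.map _).mul huF
  let F' : D'ˣ := huF.unit
  let w' : D'ˣ := hw'.unit
  let v' : D'ˣ := Units.map (algebraMap D D').toMonoidHom v
  have hwF : w' ^ (e : ℤ) = v' ^ (i₀ : ℤ) * F' := by
    rw [zpow_natCast, zpow_natCast, ← map_pow]
    apply Units.ext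
    change (algebraMap D D' w) ^ e =
      algebraMap D D' ((v ^ i₀ : Dˣ) : D) * algebraMap D D' (algebraMap B D f)
    rw [← map_pow, hw, map_mul]
  have hjF : Units.map ψ.toMonoidHom (FF u f N α K) = F' := Units.ext (hψB f)
  have hjT : Units.map ψ.toMonoidHom (TT u f N α K hN) = w' ^ (a : ℤ) * v' ^ (-c) := by
    rw [zpow_natCast, ← map_zpow]
    apply Units.ext
    change ψ (algebraMap _ K (AdjoinRoot.root _)) = (algebraMap D D' w) ^ a *
      algebraMap D D' ((v ^ (-c) : Dˣ) : D)
    rw [hψ, hψt, map_mul, map_pow]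
  have hjV : Units.map ψ.toMonoidHom (VV u f N α K hN e a) = v' := by
    rw [VV, map_mul, map_zpow, map_zpow, hjT, hjF]
    exact grp_inv_v F' v' w' i₀ a e c hc hwF
  have hjW : Units.map ψ.toMonoidHom (WW u f N α K hN i₀ c) = w' := by
    rw [WW, map_mul, map_zpow, map_zpow, hjT, hjF]
    exact grp_inv_w F' v' w' i₀ a e c hc hwF
  have hcomp : ψ.comp (φ : D →+* K) = algebraMap D D' := by
    apply hext
    · intro b
      rw [RingHom.comp_apply]
      change ψ (φ (algebraMap B D b)) = _
      rw [φ.commutes, hψB]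
    · change ψ (φ v) = _
      rw [hφv]
      exact congrArg Units.val hjV
    · change ψ (φ w) = _
      rw [hφw]
      exact congrArg Units.val hjW
  have hinj : Function.Injective (algebraMap D D') :=
    IsLocalization.injective D' (Submonoid.powers_le.2 hfD)
  intro x y hxy
  apply hinj
  rw [← hcomp]
  exact congrArg ψ hxy

/-! ### Existence of the model -/

/-- The étale part. -/
abbrev CC (u : Bˣ) (g : ℕ) : Type u := AdjoinRoot (pol g (u : B))

theorem isUnit_root (u : Bˣ) {g : ℕ} (hg : g ≠ 0) : IsUnit (AdjoinRoot.root (pol g (u : B))) := by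
  have h : IsUnit (AdjoinRoot.root (pol g (u : B)) ^ g) := by
    rw [root_pow]
    exact u.isUnit.map _
  exact (isUnit_pow_iff hg).1 h

omit [IsLocalization.Away (algebraMap B (AdjoinRoot (pol N ((u : B) * f ^ α))) f) K] in
theorem exists_model [IsDomain B] [IsRegularRing B] (hf : f ≠ 0)
    [IsRegularRing (B ⧸ Ideal.span {f})] (g e i₀ : ℕ) (hg : g ≠ 0) (he : e ≠ 0)
    (hgB : IsUnit (g : B)) (heB : IsUnit (e : B)) :
    ∃ (D : Type u) (_ : CommRing D) (_ : Algebra B D) (v : Dˣ) (w : D),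
      Module.Finite B D ∧ IsRegularRing D ∧ IsRegularRing (D ⧸ Ideal.span {w}) ∧
      w ∈ nonZeroDivisors D ∧ algebraMap B D f ∈ nonZeroDivisors D ∧
      v ^ g = Units.map (algebraMap B D).toMonoidHom u ∧
      w ^ e = (v ^ i₀ : Dˣ) * algebraMap B D f ∧
      (∀ (R : Type u) [CommRing R] (φ ψ : D →+* R),
        (∀ b : B, φ (algebraMap B D b) = ψ (algebraMap B D b)) → φ v = ψ v → φ w = ψ w → φ = ψ) ∧
      (∀ (R : Type u) [CommRing R] [Algebra B R] (V W : R), V ^ g = algebraMap B R u →
        W ^ e = V ^ i₀ * algebraMap B R f → ∃ φ : D →ₐ[B] R, φ v = V ∧ φ w = W) ∧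
      Algebra.adjoin B {(v : D), w} = ⊤ := by
  let C := CC u g
  let v₀ : Cˣ := (isUnit_root u hg).unit
  have hv₀ : (v₀ : C) = AdjoinRoot.root (pol g (u : B)) := rfl
  have hCet : Algebra.Etale B C := by
    rw [← RingHom.etale_algebraMap, AdjoinRoot.algebraMap_eq]
    exact Groth.Agent.Pi1.H390.T1KumRing.etale_of hg (u : B) u.isUnit hgB
  have hCfin : Module.Finite B C := (monic_pol hg (u : B)).finite_adjoinRoot
  have hEq : Groth.Agent.Sga4h.DivEq.IsEq B f :=
    ⟨inferInstance, mem_nonZeroDivisors_of_ne_zero hf, inferInstance⟩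
  have hEqC := hEq.map (A' := C)
  have hCreg : IsRegularRing C := hEqC.regA
  have hCf : IsRegularRing (C ⧸ Ideal.span {algebraMap B C f}) := hEqC.reg
  let s : Cˣ := v₀ ^ i₀
  let D := AdjoinRoot (pol e ((s : C) * algebraMap B C f))
  let v : Dˣ := Units.map (algebraMap C D).toMonoidHom v₀
  let w : D := AdjoinRoot.root _
  have heC : IsUnit (e : C) := by
    have := heB.map (algebraMap B C)
    rwa [map_natCast] at this
  have hDfin : Module.Finite C D := (monic_pol he ((s : C) * algebraMap B C f)).finite_adjoinRoot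
  have hDfree := (monic_pol he ((s : C) * algebraMap B C f)).free_adjoinRoot
  have hw0 : w ^ e = algebraMap C D ((s : C) * algebraMap B C f) := root_pow e _
  refine ⟨D, inferInstance, inferInstance, v, w, Module.Finite.trans C D,
    KumReg.isRegularRing_kummer s _ e heC he hEqC.nzd,
    KumReg.isRegularRing_quotient_root s _ e he,
    KumReg.root_mem_nonZeroDivisors s _ e he hEqC.nzd,
    Groth.Agent.Sga4h.DivEq.map_mem_nonZeroDivisors (A := C) (A' := D) hEqC.nzd, ?_, ?_, ?_, ?_, ?_⟩
  · apply Units.ext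
    change (algebraMap C D (v₀ : C)) ^ g = algebraMap C D (algebraMap B C u)
    rw [← map_pow, hv₀, root_pow]
    rfl
  · rw [hw0, map_mul, ← map_pow (Units.map _)]
    rfl
  · intro R _ φ ψ h1 h2 h3
    apply AdjoinRoot.ringHom_ext
    · apply AdjoinRoot.ringHom_ext
      · ext b
        exact h1 b
      · exact h2
    · exact h3
  · intro R _ _ V W hV hW
    let φ₀ : C →+* R := AdjoinRoot.lift (algebraMap B R) V
      (by rw [eval₂_sub, eval₂_X_pow, eval₂_C, hV, sub_self])
    have hφ₀ : ∀ b, φ₀ (algebraMap B C b) = algebraMap B R b := fun b => by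
      rw [AdjoinRoot.algebraMap_eq]
      exact AdjoinRoot.lift_of _
    have hφv : φ₀ (v₀ : C) = V := AdjoinRoot.lift_root _
    have h5 : eval₂ φ₀ W (pol e ((s : C) * algebraMap B C f)) = 0 := by
      have h4 : φ₀ (s : C) = V ^ i₀ := by
        rw [← hφv, ← map_pow, ← Units.val_pow_eq_pow_val]
      rw [eval₂_sub, eval₂_X_pow, eval₂_C, hW, map_mul, hφ₀, h4, sub_self]
    let φ₁ : D →+* R := AdjoinRoot.lift φ₀ W h5
    have hφ₁ : ∀ x, φ₁ (algebraMap C D x) = φ₀ x := fun x => AdjoinRoot.lift_of _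
    refine ⟨{ φ₁ with commutes' := fun b => ?_ }, ?_, ?_⟩
    · exact (hφ₁ (algebraMap B C b)).trans (hφ₀ b)
    · exact (hφ₁ _).trans hφv
    · exact AdjoinRoot.lift_root h5
  · rw [eq_top_iff]
    have hC : ∀ x : C, algebraMap C D x ∈ Algebra.adjoin B {(v : D), w} := by
      intro x
      have hx : x ∈ Algebra.adjoin B {AdjoinRoot.root (pol g (u : B))} := by
        rw [AdjoinRoot.adjoinRoot_eq_top]
        exact Algebra.mem_top
      have hle : Algebra.adjoin B {AdjoinRoot.root (pol g (u : B))} ≤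
          (Algebra.adjoin B {(v : D), w}).comap (IsScalarTower.toAlgHom B C D) := by
        rw [Algebra.adjoin_le_iff, Set.singleton_subset_iff]
        exact Algebra.subset_adjoin (Or.inl rfl)
      exact hle hx
    rintro y -
    have hy : y ∈ Algebra.adjoin C {w} := by
      rw [AdjoinRoot.adjoinRoot_eq_top]
      exact Algebra.mem_top
    induction hy using Algebra.adjoin_induction with
    | mem x hx => exact Algebra.subset_adjoin (Or.inr hx)
    | algebraMap x => exact hC x
    | add x y _ _ hx hy => exact add_mem hx hy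
    | mul x y _ _ hx hy => exact mul_mem hx hy

end

end K910.KumModel
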