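import Groth.Agent.Sga4h.DivEq
import Groth.Agent.Sga67.BlowReg
import Groth.Agent.Pi1.H390.T1KumRing

/-!
# Kummer algebras along a regular divisor are regular

* `regularAway`: regularity of `R[1/g]` gives regularity of the local rings off `V(g)`.
* `isRegularRing_kummer`: if `C` is regular, `f` is a nonzerodivisor with `C/f` regular, `s` a unit and
  `e` invertible, then `C[W]/(W^e - s f)` is regular.
* `mem_range_of_isIntegral`: if `w` is a nonzerodivisor of `D` with `D/w` reduced then `D` is
  integrally closed in `D[1/w]`.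
-/

set_option autoImplicit false
universe u

open Polynomial

namespace K910.KumReg

open Groth.Agent.Pi1.H390.T1KumRing (pol root_pow monic_pol)

theorem regularAway {R : Type u} [CommRing R] (g : R) [IsRegularRing (Localization.Away g)]
    (Q : Ideal R) [hQ : Q.IsPrime] (h : g ∉ Q) : IsRegularLocalRing (Localization.AtPrime Q) := by
  let S := Localization.Away g
  have disj : Disjoint (Submonoid.powers g : Set R) (Q : Set R) := by
    rw [Set.disjoint_left]
    rintro x ⟨n, rfl⟩ hx
    exact h (hQ.mem_of_pow_mem n hx)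
  let Q' : Ideal S := Q.map (algebraMap R S)
  have hQ' : Q'.IsPrime := IsLocalization.isPrime_of_isPrime_disjoint (Submonoid.powers g) _ _ hQ disj
  have : IsLocalization.AtPrime (Localization.AtPrime Q') Q := by
    convert IsLocalization.isLocalization_isLocalization_atPrime_isLocalization
      (Submonoid.powers g) (Localization.AtPrime Q') Q'
    exact (IsLocalization.under_map_of_isPrime_disjoint (Submonoid.powers g) _ hQ disj).symm
  exact IsRegularLocalRing.of_ringEquiv (IsLocalization.algEquiv Q.primeCompl
    (Localization.AtPrime Q') (Localization.AtPrime Q)).toRingEquiv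

theorem etale_away_derivative {R : Type u} [CommRing R] (f : R[X]) (hf : f.Monic) :
    Algebra.Etale R (Localization.Away (AdjoinRoot.mk f (derivative f))) := by
  let P : StandardEtalePair R :=
    { f := f
      monic_f := hf
      g := derivative f
      cond := ⟨1, 0, 1, by ring⟩ }
  exact Algebra.Etale.of_equiv P.equivAwayAdjoinRoot

section

variable {C : Type u} [CommRing C] (s : Cˣ) (f : C) (e : ℕ)

theorem root_mem_nonZeroDivisors (he : e ≠ 0) (hf : f ∈ nonZeroDivisors C) :
    AdjoinRoot.root (pol e ((s : C) * f)) ∈ nonZeroDivisors (AdjoinRoot (pol e ((s : C) * f))) := by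
  have hfree := (monic_pol he ((s : C) * f)).free_adjoinRoot
  have h1 : (s : C) * f ∈ nonZeroDivisors C := mul_mem s.isUnit.mem_nonZeroDivisors hf
  have h2 := Groth.Agent.Sga4h.DivEq.map_mem_nonZeroDivisors (A := C)
    (A' := AdjoinRoot (pol e ((s : C) * f))) h1
  rw [AdjoinRoot.algebraMap_eq, ← root_pow] at h2
  rcases Nat.exists_eq_succ_of_ne_zero he with ⟨n, rfl⟩
  rw [pow_succ] at h2
  exact (mul_mem_nonZeroDivisors.1 h2).2

theorem isRegularRing_quotient_root (he : e ≠ 0) [IsRegularRing (C ⧸ Ideal.span {f})] :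
    IsRegularRing (AdjoinRoot (pol e ((s : C) * f)) ⧸
      Ideal.span {AdjoinRoot.root (pol e ((s : C) * f))}) := by
  have h0 : (pol e ((s : C) * f)).eval₂ (Ideal.Quotient.mk (Ideal.span {f})) 0 = 0 := by
    have : Ideal.Quotient.mk (Ideal.span {f}) f = 0 :=
      Ideal.Quotient.eq_zero_iff_mem.2 (Ideal.mem_span_singleton_self f)
    rw [eval₂_sub, eval₂_X_pow, eval₂_C, map_mul, this, mul_zero, zero_pow he, sub_zero]
  let ρ : AdjoinRoot (pol e ((s : C) * f)) →+* C ⧸ Ideal.span {f} := AdjoinRoot.lift _ 0 h0
  have hρ : Function.Surjective ρ := by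
    intro x
    obtain ⟨c, rfl⟩ := Ideal.Quotient.mk_surjective x
    exact ⟨AdjoinRoot.of _ c, AdjoinRoot.lift_of h0⟩
  have hroot : ρ (AdjoinRoot.root _) = 0 := AdjoinRoot.lift_root h0
  have hker : RingHom.ker ρ = Ideal.span {AdjoinRoot.root (pol e ((s : C) * f))} := by
    apply le_antisymm
    · intro x hx
      obtain ⟨p, rfl⟩ := AdjoinRoot.mk_surjective x
      rw [← Polynomial.divX_mul_X_add p, map_add, map_mul, AdjoinRoot.mk_X, AdjoinRoot.mk_C] at hx ⊢
      rw [RingHom.mem_ker, map_add, map_mul, hroot, mul_zero, zero_add] at hx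
      have h1 : ρ (AdjoinRoot.of _ (p.coeff 0)) = Ideal.Quotient.mk _ (p.coeff 0) := AdjoinRoot.lift_of h0
      rw [h1, Ideal.Quotient.eq_zero_iff_mem, Ideal.mem_span_singleton] at hx
      obtain ⟨c, hc⟩ := hx
      apply Ideal.add_mem
      · exact Ideal.mul_mem_left _ _ (Ideal.mem_span_singleton_self _)
      · rw [hc]
        have h2 : AdjoinRoot.of (pol e ((s : C) * f)) (f * c) =
            AdjoinRoot.of (pol e ((s : C) * f)) (((s⁻¹ : Cˣ) : C) * c) *
              AdjoinRoot.root (pol e ((s : C) * f)) ^ e := by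
          rw [root_pow, ← map_mul]
          congr 1
          have := s.inv_mul
          linear_combination -(c * f) * this
        rw [h2]
        exact Ideal.mul_mem_left _ _ (Ideal.pow_mem_of_mem _ (Ideal.mem_span_singleton_self _) e
          (Nat.pos_of_ne_zero he))
    · rw [Ideal.span_singleton_le_iff_mem]
      exact hroot
  exact IsRegularRing.of_ringEquiv ((Ideal.quotEquivOfEq hker.symm).trans
    (RingHom.quotientKerEquivOfSurjective hρ)).symm

theorem isRegularRing_kummer (he : IsUnit (e : C)) (he0 : e ≠ 0) [IsRegularRing C]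
    (hf : f ∈ nonZeroDivisors C)
    [IsRegularRing (C ⧸ Ideal.span {f})] : IsRegularRing (AdjoinRoot (pol e ((s : C) * f))) := by
  have hfin : Module.Finite C (AdjoinRoot (pol e ((s : C) * f))) :=
    (monic_pol he0 ((s : C) * f)).finite_adjoinRoot
  have hN : IsNoetherianRing (AdjoinRoot (pol e ((s : C) * f))) := IsNoetherianRing.of_finite C _
  rw [isRegularRing_iff]
  intro Q hQ
  by_cases h : AdjoinRoot.root (pol e ((s : C) * f)) ∈ Q
  · have := isRegularRing_quotient_root s f e he0
    exact Groth.Agent.Sga67.BlowReg.isRegularLocalRing_of_quotient _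
      (root_mem_nonZeroDivisors s f e he0 hf) Q h
  · have h1 := etale_away_derivative (pol e ((s : C) * f)) (monic_pol he0 _)
    have h2 := Groth.Agent.Sga4h.DivEq.isRegularRing_of_etale C
      (Localization.Away (AdjoinRoot.mk (pol e ((s : C) * f)) (derivative (pol e ((s : C) * f)))))
    refine regularAway (AdjoinRoot.mk (pol e ((s : C) * f)) (derivative (pol e ((s : C) * f)))) Q ?_
    intro h3
    have h4 : derivative (pol e ((s : C) * f)) = Polynomial.C ((e : ℕ) : C) * X ^ (e - 1) := by
      rw [derivative_sub, derivative_C, sub_zero, derivative_X_pow]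
    rw [h4, map_mul, AdjoinRoot.mk_C, map_pow, AdjoinRoot.mk_X] at h3
    rcases hQ.mem_or_mem h3 with h5 | h5
    · exact hQ.ne_top (Ideal.eq_top_of_isUnit_mem _ h5 (he.map _))
    · exact h (hQ.mem_of_pow_mem _ h5)

end

/-- If `w` is a nonzerodivisor of `D` with `D/w` reduced then `D` is integrally closed in
`D[1/w]`. -/
theorem mem_range_of_isIntegral {D K : Type*} [CommRing D] [CommRing K] [Algebra D K] (w : D)
    [IsReduced (D ⧸ Ideal.span {w})] (x : K)
    (hw : Function.Injective (algebraMap D K)) (hwu : IsUnit (algebraMap D K w))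
    (hsurj : ∃ (n : ℕ) (d : D), x * algebraMap D K w ^ n = algebraMap D K d)
    (hx : IsIntegral D x) : x ∈ (algebraMap D K).range := by
  obtain ⟨n, d, hd⟩ := hsurj
  induction n generalizing d with
  | zero => exact ⟨d, by simpa using hd.symm⟩
  | succ n ih =>
    obtain ⟨p, hp, hp0⟩ := hx
    set m := p.natDegree with hm
    -- multiply the equation by `w^((n+1) m)`
    have key : (∑ i ∈ Finset.range (m + 1), p.coeff i * d ^ i * (w ^ (n + 1)) ^ (m - i)) = 0 := by
      apply hw
      rw [map_zero, map_sum]
      rw [Polynomial.eval₂_eq_sum_range] at hp0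
      have h1 : (algebraMap D K w ^ (n + 1)) ^ m *
          (∑ i ∈ Finset.range (m + 1), algebraMap D K (p.coeff i) * x ^ i) = 0 := by
        rw [← hm] at hp0
        rw [hp0, mul_zero]
      rw [Finset.mul_sum] at h1
      rw [← h1]
      apply Finset.sum_congr rfl
      intro i hi
      have hi' : i ≤ m := Nat.lt_succ_iff.1 (Finset.mem_range.1 hi)
      rw [map_mul, map_mul, map_pow, map_pow, map_pow, ← hd, mul_pow]
      have h2 : (algebraMap D K w ^ (n + 1)) ^ m =
          (algebraMap D K w ^ (n + 1)) ^ i * (algebraMap D K w ^ (n + 1)) ^ (m - i) := by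
        rw [← pow_add, Nat.add_sub_cancel' hi']
      rw [h2]
      ring
    have hdm : d ^ m ∈ Ideal.span {w} := by
      rw [Finset.sum_range_succ, Nat.sub_self, pow_zero, mul_one, hm, hp.coeff_natDegree, one_mul,
        ← hm] at key
      rw [eq_neg_of_add_eq_zero_right key]
      apply neg_mem
      apply Ideal.sum_mem
      intro i hi
      have hi' : i < m := Finset.mem_range.1 hi
      apply Ideal.mul_mem_left
      rw [← pow_mul]
      apply Ideal.pow_mem_of_mem _ (Ideal.mem_span_singleton_self _)
      exact Nat.mul_pos (Nat.succ_pos n) (Nat.sub_pos_of_lt hi')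
    have hdw : d ∈ Ideal.span {w} := by
      rw [← Ideal.Quotient.eq_zero_iff_mem] at hdm ⊢
      rw [map_pow] at hdm
      exact eq_zero_of_pow_eq_zero hdm
    obtain ⟨d', rfl⟩ := Ideal.mem_span_singleton.1 hdw
    apply ih d'
    apply hwu.mul_left_cancel
    rw [map_mul] at hd
    rw [← hd]
    ring

theorem isReduced_of_isRegularRing (R : Type u) [CommRing R] [IsRegularRing R] : IsReduced R := by
  apply isReduced_ofLocalizationMaximal
  intro J hJ
  have := Groth.Agent.S0558.result (Localization.AtPrime J)
  infer_instance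

end K910.KumReg
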