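import Groth.Agent.Vanish.K910.IL
import Groth.Agent.Pic13.H956.Numbers

/-!
# Nonnegativity of intersection numbers of nef classes

`AmpInv a`: `a` is the inverse of the class of an ample module. `NefA a p`: `p ^ ν * a` is the inverse of an ample
class for all `ν > 0` (so `p` is the inverse of a nef class).
-/

set_option autoImplicit false
universe u
open CategoryTheory CategoryTheory.Limits AlgebraicGeometry TopologicalSpace

namespace K910.Nef

open Groth.Agent Groth.Agent.Fga Groth.Agent.Fga.PicMon Groth.Agent.Fga.RegSec K910.HZ K910.IL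

variable {k : Type u} [Field k] {X : Scheme.{u}}

/-- `a` is the inverse of the class of an ample module. -/
def AmpInv (a : MC X) : Prop := ∃ M : X.Modules, CohB1.IsAmple M ∧ mc M * a = 1

theorem AmpInv.inv {a : MC X} (h : AmpInv a) : Inv a := by
  obtain ⟨M, hM, h⟩ := h
  induction a using MC.ind with
  | _ A =>
    obtain ⟨e⟩ : Nonempty (CohB1.tensorMod M A ≅ Coh.structureModule X) :=
      (mc_eq_iff _ _).1 (by rw [mc_tensor, h, mc_one])
    exact ⟨A, IntAdd.isInvertible_of_tensor e, rfl⟩

/-- `p` is the inverse of a nef class (with respect to the ample class `a⁻¹`). -/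
def NefA (a p : MC X) : Prop := Inv p ∧ ∀ ν : ℕ, 0 < ν → AmpInv (p ^ ν * a)

variable [X.Over (Spec (CommRingCat.of k))] [IsProper (X ↘ Spec (CommRingCat.of k))]

variable {d : ℕ} (hd : topologicalKrullDim X ≤ d)

include hd

variable (k) in
theorem IL_pos {l : List (MC X)} (hl : ∀ p ∈ l, AmpInv p) {F : X.Modules} (hF : Coh.IsCoh F)
    (hr : topologicalKrullDim (CohB1.support F) = l.length) : 0 < IL k X d l (mc F) := by
  have h1 : ∀ i : Fin l.length, ∃ M L : X.Modules, CohB1.IsAmple L ∧
      Nonempty (CohB1.tensorMod L M ≅ Coh.structureModule X) ∧ mc M = l.get i := by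
    intro i
    obtain ⟨L, hL, h⟩ := hl _ (List.get_mem l i)
    generalize l.get i = a at h
    induction a using MC.ind with
    | _ A => exact ⟨A, L, hL, (mc_eq_iff _ _).1 (by rw [mc_tensor, h, mc_one]), rfl⟩
  choose M L hL hLM hM using h1
  have h2 : l = List.ofFn fun i => mc (M i) := by
    simp only [hM]
    exact (List.ofFn_get l).symm
  rw [h2, IL_ofFn]
  exact PosMain.intNum_pos k X d hd L M hL hLM F hF hr

variable (k) in
/-- **Kleiman**: intersection numbers of nef classes with coherent modules are nonnegative. -/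
theorem IL_nonneg {a : MC X} (ha : Inv a) {l : List (MC X)} (hl : ∀ p ∈ l, NefA a p) {F : X.Modules}
    (hF : Coh.IsCoh F) (hr : topologicalKrullDim (CohB1.support F) ≤ l.length) : 0 ≤ IL k X d l (mc F) := by
  induction l generalizing F with
  | nil =>
    rw [IL_nil, EC_eq_of_vanish k F (fun p hp => HodgeSec.subsingleton_HH_of_support k hF 0 (by simpa using hr) p hp)]
    positivity
  | cons p l ih =>
    have hlp : NefA a p := hl p List.mem_cons_self
    have hl' : ∀ p ∈ l, NefA a p := fun q hq => hl q (List.mem_cons_of_mem _ hq)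
    have hI : InvL l := fun q hq => (hl' q hq).1
    by_cases h : topologicalKrullDim (CohB1.support F) = ((l.length + 1 : ℕ) : WithBot ℕ∞)
    · have hD : DLt (l.length + 2) (mc F) := dLt_of_le hF h.le
      have key : ∀ ν : ℕ, 0 < ν → 0 ≤ (ν : ℤ) * IL k X d (p :: l) (mc F) + IL k X d (a :: l) (mc F) := by
        intro ν hν
        have hpa : Inv (p ^ ν * a) := (hlp.1.pow ν).mul ha
        obtain ⟨M, hM, hMp⟩ := hlp.2 ν hν
        obtain ⟨n, s, hmono, hdim⟩ := HypSec.exists_cut k X M hM F hF l.length h
        have h1 := IL_cut k hd hI (Fdesc.LocGen.isInvertible_tensorPow hM.1 (n + 1)) hF (hpa.pow (n + 1))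
          (by rw [mc_tensorPow, ← mul_pow, mul_comm, hMp, one_pow]) (mulS s F) hdim.le
        have h2 : 0 ≤ IL k X d ((p ^ ν * a) ^ (n + 1) :: l) (mc F) := by
          rw [h1]
          have := IntAdd.isNoetherian k X
          exact ih hl' (Sga67.CohBasic.isCoh_cokernel _ hF.1
            (isCoh_tensor (Fdesc.LocGen.isInvertible_tensorPow hM.1 (n + 1)) hF)) hdim.le
        rw [IL_pow k hd hI hpa hD, IL_mul k hd hI (hlp.1.pow ν) ha hD, IL_pow k hd hI hlp.1 hD] at h2
        exact nonneg_of_mul_nonneg_right h2 (by positivity)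
      by_contra hneg
      push Not at hneg
      have h3 := key ((IL k X d (a :: l) (mc F)).natAbs + 1) (Nat.succ_pos _)
      push_cast at h3
      have h4 : IL k X d (a :: l) (mc F) ≤ |IL k X d (a :: l) (mc F)| := le_abs_self _
      have h5 : 0 ≤ |IL k X d (a :: l) (mc F)| := abs_nonneg _
      nlinarith
    · refine (IL_vanish k hd (hI.cons hlp.1) ⟨F, hF, lt_of_le_of_ne hr h, rfl⟩).ge

variable (k) in
/-- An invertible module with a nonzero section on an integral scheme is nonnegative against nef classes. -/
theorem IL_section_nonneg [IsIntegral X] {a : MC X} (ha : Inv a) {l : List (MC X)} (hl : ∀ p ∈ l, NefA a p)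
    (hX : topologicalKrullDim X ≤ (l.length + 1 : ℕ)) {n p : MC X} (hn : Inv n) (hp : Inv p) (hpn : p * n = 1)
    (hsec : 0 < HZ k X n) : 0 ≤ IL k X d (p :: l) 1 := by
  have := IntAdd.isNoetherian k X
  obtain ⟨N, hN, rfl⟩ := hn
  have hI : InvL l := fun q hq => (hl q hq).1
  obtain ⟨s, hs⟩ := HodgeSec.exists_section (k := k) (L := N) (by rw [← HZ_mc]; exact hsec)
  have hO : Coh.IsCoh (Coh.structureModule X) := HodgeSec.isCoh_of_isInvertible Fdesc.LocGen.isInvertible_structureModule
  have hmono : Mono (mulS s (Coh.structureModule X)) :=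
    HodgeSec.mono_mulS hN Fdesc.LocGen.isInvertible_structureModule s hs
  have hQc : Coh.IsCoh (cokernel (mulS s (Coh.structureModule X))) :=
    Sga67.CohBasic.isCoh_cokernel _ hO.1 (isCoh_tensor hN hO)
  have hη := HodgeSec.genericPoint_notMem_support (F := Coh.structureModule X) hN hO s hs
  have hne : CohB1.support (cokernel (mulS s (Coh.structureModule X))) ≠ Set.univ := by
    intro h
    rw [h] at hη
    exact hη (Set.mem_univ _)
  have hdim : topologicalKrullDim (CohB1.support (cokernel (mulS s (Coh.structureModule X)))) <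
      ((l.length + 1 : ℕ) : WithBot ℕ∞) := by
    refine DimLt.topologicalKrullDim_lt (A := Set.univ) (irreducibleSpace_def X |>.mp inferInstance)
      (S0020.result X _ hQc.2) (Set.subset_univ _) hne ?_
    have h1 : topologicalKrullDim (Set.univ : Set X) ≤ topologicalKrullDim X :=
      Topology.IsInducing.subtypeVal.topologicalKrullDim_le
    exact lt_of_le_of_lt (h1.trans hX) (by exact_mod_cast Nat.lt_succ_self _)
  have hdim' := IntNum0.withBot_le_of_lt_succ hdim
  have h1 := IL_cut k hd hI hN hO hp hpn (mulS s (Coh.structureModule X)) hdim'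
  rw [← mc_one, h1]
  exact IL_nonneg k hd ha hl hQc hdim'

variable (k) in
/-- The comparison step: `L^q ⊗ M⁻¹` has a section, so `(M · rest) ≤ q (L · rest)`. Here `ell = mc L⁻¹`,
`m' = mc M⁻¹`. -/
theorem IL_step [IsIntegral X] {a : MC X} (ha : Inv a) {ell m' L M : MC X} (hell : Inv ell) (hm' : Inv m')
    (hL : Inv L) (hM : Inv M) (hellL : ell * L = 1) (hm'M : m' * M = 1) {q : ℕ} (hsec : 0 < HZ k X (L ^ q * m'))
    {l : List (MC X)} (hl : ∀ p ∈ l, NefA a p) (hX : topologicalKrullDim X ≤ (l.length + 1 : ℕ)) :
    IL k X d (m' :: l) 1 ≤ q * IL k X d (ell :: l) 1 := by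
  have hI : InvL l := fun q hq => (hl q hq).1
  have hO : Coh.IsCoh (Coh.structureModule X) := HodgeSec.isCoh_of_isInvertible Fdesc.LocGen.isInvertible_structureModule
  have hD : DLt (l.length + 2) (1 : MC X) := by
    rw [← mc_one]
    refine dLt_of_le hO ?_
    rw [Pic13.H956.Numbers.support_unit]
    exact (Topology.IsInducing.subtypeVal.topologicalKrullDim_le (Y := (Set.univ : Set X))).trans hX
  have h1 := IL_section_nonneg k hd ha hl hX (n := L ^ q * m') (p := ell ^ q * M) ((hL.pow q).mul hm')
    ((hell.pow q).mul hM) (by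
      calc ell ^ q * M * (L ^ q * m') = (ell * L) ^ q * (m' * M) := by
            rw [mul_pow]; simp only [mul_assoc, mul_comm, mul_left_comm]
        _ = 1 := by rw [hellL, hm'M, one_pow, one_mul]) hsec
  rw [IL_mul k hd hI (hell.pow q) hM hD, IL_pow k hd hI hell hD, IL_inv k hd hI hm' hM hm'M hD] at h1
  linarith

variable (k) in
theorem IL_iter [IsIntegral X] {a : MC X} (ha : Inv a) {ell m' L M : MC X} (hell : NefA a ell) (hm' : NefA a m')
    (hL : Inv L) (hM : Inv M) (hellL : ell * L = 1) (hm'M : m' * M = 1) {q : ℕ} (hsec : 0 < HZ k X (L ^ q * m'))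
    (m : ℕ) {l : List (MC X)} (hl : ∀ p ∈ l, NefA a p) (hX : topologicalKrullDim X ≤ (m + l.length : ℕ)) :
    IL k X d (List.replicate m m' ++ l) 1 ≤ q ^ m * IL k X d (List.replicate m ell ++ l) 1 := by
  induction m generalizing l with
  | zero => simp
  | succ m ih =>
    have h1 := ih (l := m' :: l) (by
      intro p hp
      rcases List.mem_cons.1 hp with rfl | hp
      · exact hm'
      · exact hl p hp) (by
        rw [List.length_cons]
        exact hX.trans (le_of_eq (congrArg (fun n : ℕ => (n : WithBot ℕ∞)) (by omega))))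
    rw [IL_perm k d (List.perm_middle (a := m') (l₁ := List.replicate m m') (l₂ := l)),
      IL_perm k d (List.perm_middle (a := m') (l₁ := List.replicate m ell) (l₂ := l))] at h1
    have h2 := IL_step k hd ha hell.1 hm'.1 hL hM hellL hm'M hsec (l := List.replicate m ell ++ l) (by
      intro p hp
      rcases List.mem_append.1 hp with hp | hp
      · rw [List.eq_of_mem_replicate hp]; exact hell
      · exact hl p hp) (by
        rw [List.length_append, List.length_replicate]
        exact hX.trans (le_of_eq (congrArg (fun n : ℕ => (n : WithBot ℕ∞)) (by omega))))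
    rw [List.replicate_succ, List.replicate_succ, List.cons_append, List.cons_append]
    calc IL k X d (m' :: (List.replicate m m' ++ l)) 1 ≤ q ^ m * IL k X d (m' :: (List.replicate m ell ++ l)) 1 := h1
      _ ≤ q ^ m * (q * IL k X d (ell :: (List.replicate m ell ++ l)) 1) :=
          mul_le_mul_of_nonneg_left h2 (by positivity)
      _ = q ^ (m + 1) * IL k X d (ell :: (List.replicate m ell ++ l)) 1 := by ring

variable (k) in
/-- If `(L^m · A^e) ≤ 0` on the integral scheme `X` of dimension `m + e`, `L` nef, then `L^q ⊗ M⁻¹` has no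
nonzero sections, `M` ample. -/
theorem HZ_eq_zero_of_IL [IsIntegral X] {a : MC X} (ha : AmpInv a) {ell m' L M : MC X} (hell : NefA a ell)
    (hm' : NefA a m') (hm'a : AmpInv m')
    (hL : Inv L) (hM : Inv M) (hellL : ell * L = 1) (hm'M : m' * M = 1) (m e : ℕ)
    (hX : topologicalKrullDim X = (m + e : ℕ)) (haa : NefA a a)
    (h0 : IL k X d (List.replicate m ell ++ List.replicate e a) 1 ≤ 0) (q : ℕ) :
    HZ k X (L ^ q * m') = 0 := by
  by_contra hne
  have hO : Coh.IsCoh (Coh.structureModule X) := HodgeSec.isCoh_of_isInvertible Fdesc.LocGen.isInvertible_structureModule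
  have h1 := IL_iter k hd ha.inv hell hm' hL hM hellL hm'M (q := q) (Nat.pos_of_ne_zero hne) m
    (l := List.replicate e a) (fun p hp => by rw [List.eq_of_mem_replicate hp]; exact haa)
    (by rw [List.length_replicate]; exact hX.le)
  have h2 : 0 < IL k X d (List.replicate m m' ++ List.replicate e a) (mc (Coh.structureModule X)) := by
    refine IL_pos k hd ?_ hO ?_
    · intro p hp
      rcases List.mem_append.1 hp with hp | hp
      · rw [List.eq_of_mem_replicate hp]; exact hm'a
      · rw [List.eq_of_mem_replicate hp]; exact ha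
    · rw [Pic13.H956.Numbers.support_unit, List.length_append, List.length_replicate, List.length_replicate, ← hX]
      exact (Homeomorph.Set.univ X).isHomeomorph.topologicalKrullDim_eq
  rw [mc_one] at h2
  have h3 : (q : ℤ) ^ m * IL k X d (List.replicate m ell ++ List.replicate e a) 1 ≤ 0 :=
    mul_nonpos_of_nonneg_of_nonpos (by positivity) h0
  linarith

end K910.Nef
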