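import Groth.Agent.Vanish.K910.NefGrowth
import Groth.Agent.Ega1.AmpFam
import Groth.Agent.Ega1.GlobGenPt
import Groth.Agent.S4367
import Groth.Agent.CohqB.HLes
import Groth.Prelude.Def_ClSub2

/-!
# Lower bound for sections of powers of a globally generated module

* `rk_ge`: if `N` is globally generated and `(N^m · Z) ≠ 0`, `Z` integral of dimension `m`, then the image of
  `H^0(X, N^q)` in `H^0(Z, N^q)` has dimension `≥ (q + m choose m)`.
-/

set_option autoImplicit false
universe u
open CategoryTheory CategoryTheory.Limits AlgebraicGeometry TopologicalSpace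

namespace K910.Semi

open Groth.Agent Groth.Agent.Fga Groth.Agent.Fga.PicMon Groth.Agent.Fga.RegSec K910.HZ K910.IL K910.Nef K910.Dev
  K910.Growth K910.NefGrowth
open Groth.Agent.VarietyA.EulerLES Groth.Agent.Ega2

section LinAlg

theorem finrank_add_le {k V1 V2 V3 : Type*} [Field k] [AddCommGroup V1] [AddCommGroup V2] [AddCommGroup V3]
    [Module k V1] [Module k V2] [Module k V3] [Module.Finite k V1] [Module.Finite k V2] [Module.Finite k V3]
    (u : V1 →ₗ[k] V2) (v : V2 →ₗ[k] V3) (A : Submodule k V1) (B : Submodule k V2) (C : Submodule k V3)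
    (hu : Function.Injective u) (hA : ∀ x ∈ A, u x ∈ B) (hC : ∀ y ∈ C, ∃ x ∈ B, v x = y)
    (h0 : ∀ x ∈ A, v (u x) = 0) :
    Module.finrank k A + Module.finrank k C ≤ Module.finrank k B := by
  have h1 := LinearMap.finrank_range_add_finrank_ker (v.domRestrict B)
  have h2 : C ≤ LinearMap.range (v.domRestrict B) := by
    intro y hy
    obtain ⟨x, hx, rfl⟩ := hC y hy
    exact ⟨⟨x, hx⟩, rfl⟩
  have h3 := Submodule.finrank_mono h2
  let w : A →ₗ[k] LinearMap.ker (v.domRestrict B) :=
    { toFun := fun x => ⟨⟨u x, hA x x.2⟩, h0 x x.2⟩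
      map_add' := fun x y => by ext; simp
      map_smul' := fun c x => by ext; simp }
  have hw : Function.Injective w := by
    intro x y hxy
    have : u x = u y := congrArg (fun t => ((t : LinearMap.ker (v.domRestrict B)) : B).1) hxy
    exact Subtype.ext (hu this)
  have h4 := LinearMap.finrank_le_finrank_of_injective hw
  omega

end LinAlg

variable (k : Type u) [Field k] {X : Scheme.{u}} [X.Over (Spec (CommRingCat.of k))]

/-- The rank of the map induced on `H^0`. -/
noncomputable def rk {F G : X.Modules} (f : F ⟶ G) : ℕ := Module.finrank k (LinearMap.range (mapA k f 0))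

theorem rk_congr {F G F' G' : X.Modules} (e : F ≅ F') (e' : G ≅ G') (f : F ⟶ G) (f' : F' ⟶ G')
    (h : f ≫ e'.hom = e.hom ≫ f') : rk k f = rk k f' := by
  unfold rk
  have h1 : (mapA k e'.hom 0).comp (mapA k f 0) = (mapA k f' 0).comp (mapA k e.hom 0) := by
    rw [← mapA_comp, ← mapA_comp, h]
  have h2 : LinearMap.range (mapA k f' 0) =
      (LinearMap.range (mapA k f 0)).map (equivA k e' 0).toLinearMap := by
    have h3 : (equivA k e' 0).toLinearMap = mapA k e'.hom 0 := rfl
    rw [h3, ← LinearMap.range_comp, h1, LinearMap.range_comp_of_range_eq_top]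
    exact LinearEquiv.range (equivA k e 0)
  rw [h2]
  exact (LinearEquiv.finrank_map_eq (equivA k e' 0) _).symm

theorem mapA_zero (F G : X.Modules) : mapA k (0 : F ⟶ G) 0 = 0 := by
  ext x
  have h1 : (toAbF X).map (0 : F ⟶ G) = 0 := Functor.map_zero _ _ _
  change Sheaf.H.map ((toAbF X).map (0 : F ⟶ G)) 0 x = 0
  rw [h1]
  exact CohqB.HLes.Hmap_zero _ _ _ _

theorem mapA_injective {F G : X.Modules} (f : F ⟶ G) (hf : Mono f) : Function.Injective (mapA k f 0) := by
  let S : ShortComplex X.Modules := ShortComplex.mk f (cokernel.π f) (cokernel.condition f)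
  have hS : S.ShortExact :=
    { exact := ShortComplex.exact_of_g_is_cokernel _ (cokernelIsCokernel f)
      mono_f := hf
      epi_g := inferInstanceAs (Epi (cokernel.π f)) }
  exact injectiveA₀ k S hS

omit [X.Over (Spec (CommRingCat.of k))] in
theorem lunit_naturality {F G : X.Modules} (f : F ⟶ G) :
    Tens.mapT (𝟙 (Coh.structureModule X)) f ≫ (Tens.lunit G).hom = (Tens.lunit F).hom ≫ f :=
  Tens.hom_ext _ _ fun U m n => by
    change (Tens.lunit G).hom.app U ((Tens.mapT (𝟙 _) f).app U (Tens.tmul (Tens.sm m) n)) =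
      f.app U ((Tens.lunit F).hom.app U (Tens.tmul (Tens.sm m) n))
    rw [Tens.mapT_tmul, Tens.lunit_hom_tmul, Scheme.Modules.Hom.app_smul]
    exact Tens.lunit_hom_tmul _ _

omit [X.Over (Spec (CommRingCat.of k))] in
theorem mulS_naturality {N F G : X.Modules} (s : Coh.structureModule X ⟶ N) (f : F ⟶ G) :
    f ≫ mulS s G = mulS s F ≫ Tens.mapT (𝟙 N) f := by
  have h1 : f ≫ (Tens.lunit G).inv = (Tens.lunit F).inv ≫ Tens.mapT (𝟙 _) f := by
    rw [Iso.comp_inv_eq, Category.assoc, lunit_naturality, Iso.inv_hom_id_assoc]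
  unfold mulS
  rw [← Category.assoc, h1, Category.assoc, Category.assoc, ← Tens.mapT_comp, ← Tens.mapT_comp]
  simp only [Category.id_comp, Category.comp_id]

omit [X.Over (Spec (CommRingCat.of k))] in
theorem assoc_naturality {N P F G : X.Modules} (f : F ⟶ G) :
    Tens.mapT (𝟙 (CohB1.tensorMod N P)) f ≫ (Tens.assoc N P G).hom =
      (Tens.assoc N P F).hom ≫ Tens.mapT (𝟙 N) (Tens.mapT (𝟙 P) f) :=
  Tens.hom_ext₃ _ _ fun U m n p => by
    simp [Tens.assoc]

variable [IsProper (X ↘ Spec (CommRingCat.of k))]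

theorem rk_rec {N P F F' : X.Modules} (hN : PicF.IsInvertible N) (hP : PicF.IsInvertible P)
    (hF : Coh.IsCoh F) (hF' : Coh.IsCoh F')
    (s : Coh.structureModule X ⟶ N) (ρ : Coh.structureModule X ⟶ F) (ρ' : Coh.structureModule X ⟶ F')
    (π : F ⟶ F') (hπ : ρ ≫ π = ρ') (hmono : Mono (mulS s (CohB1.tensorMod P F)))
    (hzero : mulS s (CohB1.tensorMod P F') = 0) :
    rk k (Tens.mapT (𝟙 P) ρ) + rk k (Tens.mapT (𝟙 (CohB1.tensorMod N P)) ρ') ≤
      rk k (Tens.mapT (𝟙 (CohB1.tensorMod N P)) ρ) := by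
  rw [rk_congr k (Tens.assoc N P _) (Tens.assoc N P _) _ _ (assoc_naturality ρ),
    rk_congr k (Tens.assoc N P _) (Tens.assoc N P _) _ _ (assoc_naturality ρ')]
  have f1 : Module.Finite k (Coh.HH X (CohB1.tensorMod P F) 0) := HodgeSec.finite_HH' k (isCoh_tensor hP hF) 0
  have f2 : Module.Finite k (Coh.HH X (CohB1.tensorMod N (CohB1.tensorMod P F)) 0) :=
    HodgeSec.finite_HH' k (isCoh_tensor hN (isCoh_tensor hP hF)) 0
  have f3 : Module.Finite k (Coh.HH X (CohB1.tensorMod N (CohB1.tensorMod P F')) 0) :=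
    HodgeSec.finite_HH' k (isCoh_tensor hN (isCoh_tensor hP hF')) 0
  refine finrank_add_le (mapA k (mulS s (CohB1.tensorMod P F)) 0)
    (mapA k (Tens.mapT (𝟙 N) (Tens.mapT (𝟙 P) π)) 0) _ _ _ (mapA_injective k _ hmono) ?_ ?_ ?_
  · rintro _ ⟨x, rfl⟩
    refine ⟨mapA k (mulS s _) 0 x, ?_⟩
    rw [← LinearMap.comp_apply, ← LinearMap.comp_apply, ← mapA_comp, ← mapA_comp, mulS_naturality]
  · rintro _ ⟨x, rfl⟩
    refine ⟨mapA k (Tens.mapT (𝟙 N) (Tens.mapT (𝟙 P) ρ)) 0 x, ⟨x, rfl⟩, ?_⟩
    rw [← LinearMap.comp_apply, ← mapA_comp, ← Tens.mapT_comp, ← Tens.mapT_comp, hπ, Category.comp_id,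
      Category.comp_id]
  · rintro _ ⟨x, rfl⟩
    rw [← LinearMap.comp_apply, ← mapA_comp, ← mulS_naturality, hzero, comp_zero]
    exact LinearMap.congr_fun (mapA_zero k _ _) _

/-- Only the regular part: ranks increase. -/
theorem rk_le {N P F : X.Modules} (hN : PicF.IsInvertible N) (hP : PicF.IsInvertible P)
    (hF : Coh.IsCoh F) (s : Coh.structureModule X ⟶ N) (ρ : Coh.structureModule X ⟶ F)
    (hmono : Mono (mulS s (CohB1.tensorMod P F))) :
    rk k (Tens.mapT (𝟙 P) ρ) ≤ rk k (Tens.mapT (𝟙 (CohB1.tensorMod N P)) ρ) := by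
  rw [rk_congr k (Tens.assoc N P _) (Tens.assoc N P _) _ _ (assoc_naturality ρ)]
  have f2 : Module.Finite k (Coh.HH X (CohB1.tensorMod N (CohB1.tensorMod P F)) 0) :=
    HodgeSec.finite_HH' k (isCoh_tensor hN (isCoh_tensor hP hF)) 0
  have h1 : (LinearMap.range (mapA k (Tens.mapT (𝟙 P) ρ) 0)).map (mapA k (mulS s (CohB1.tensorMod P F)) 0) ≤
      LinearMap.range (mapA k (Tens.mapT (𝟙 N) (Tens.mapT (𝟙 P) ρ)) 0) := by
    rintro _ ⟨_, ⟨x, rfl⟩, rfl⟩
    refine ⟨mapA k (mulS s _) 0 x, ?_⟩
    rw [← LinearMap.comp_apply, ← LinearMap.comp_apply, ← mapA_comp, ← mapA_comp, mulS_naturality]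
  have h2 := Submodule.finrank_mono h1
  rwa [← (Submodule.equivMapOfInjective _ (mapA_injective k _ hmono) _).finrank_eq] at h2

section Push

open Groth.Agent.Fdesc.LocGen

omit [IsProper (X ↘ Spec (CommRingCat.of k))] [X.Over (Spec (CommRingCat.of k))] in
/-- Multiplication by `s` on a direct image. -/
theorem mulS_push {Z : Scheme.{u}} (i : Z ⟶ X) {N : X.Modules} (s : Coh.structureModule X ⟶ N) (G : Z.Modules) :
    mulS s ((Scheme.Modules.pushforward i).obj G) ≫ VarietyB.ProjForm.projMor i N G =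
      (Scheme.Modules.pushforward i).map (mulS (pullHom i s) G) := by
  rw [← cancel_epi (Tens.lunit ((Scheme.Modules.pushforward i).obj G)).hom]
  unfold mulS
  rw [Category.assoc, Iso.hom_inv_id_assoc]
  refine Tens.hom_ext _ _ fun U m g => ?_
  have key : ∀ (r : Γ(X, U)) (g : Γ(G, i ⁻¹ᵁ U)),
      (VarietyB.ProjForm.projMor i N G).app U (tmul (s.app U (Tens.sm r))
        (show Γ((Scheme.Modules.pushforward i).obj G, U) from g)) =
      (mulS (pullHom i s) G).app (i ⁻¹ᵁ U) ((i.app U r : Γ(Z, i ⁻¹ᵁ U)) • g) := by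
    intro r g
    have h1 : s.app U (Tens.sm r) = r • sec s U := by
      rw [Tens.sm_eq_smul, Scheme.Modules.Hom.app_smul]
      rfl
    rw [mulS_app, sec_pullHom, h1]
    refine (VarietyB.ProjForm.projMor_tmul i N G (r • sec s U) g).trans ?_
    have h2 : pullSec i (r • sec s U) = (i.app U r : Γ(Z, i ⁻¹ᵁ U)) • pullSec i (sec s U) := pullSec_smul i r _
    rw [h2]
    exact (smul_tmul _ _ _).trans (tmul_smul _ _ _).symm
  have h3 : (Tens.lunit ((Scheme.Modules.pushforward i).obj G)).hom.app U (Tens.tmul (Tens.sm m) g) =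
      (show Γ(X, U) from m) • g := Tens.lunit_hom_tmul _ _
  change (VarietyB.ProjForm.projMor i N G).app U ((Tens.mapT s (𝟙 _)).app U (Tens.tmul (Tens.sm m) g)) =
    (mulS (pullHom i s) G).app (i ⁻¹ᵁ U)
      ((Tens.lunit ((Scheme.Modules.pushforward i).obj G)).hom.app U (Tens.tmul (Tens.sm m) g))
  rw [h3, Tens.mapT_tmul]
  exact key m g

omit [IsProper (X ↘ Spec (CommRingCat.of k))] [X.Over (Spec (CommRingCat.of k))] in
theorem mulS_iso {N F G : X.Modules} (s : Coh.structureModule X ⟶ N) (e : F ≅ G) :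
    mulS s F = e.hom ≫ mulS s G ≫ Tens.mapT (𝟙 N) e.inv := by
  rw [← Category.assoc, mulS_naturality, Category.assoc, ← Tens.mapT_comp, e.hom_inv_id, Category.comp_id,
    Tens.mapT_id, Category.comp_id]

omit [IsProper (X ↘ Spec (CommRingCat.of k))] [X.Over (Spec (CommRingCat.of k))] in
theorem mono_mulS_push {Z : Scheme.{u}} [IsIntegral Z] (i : Z ⟶ X) [IsClosedImmersion i] {N P : X.Modules}
    (hN : PicF.IsInvertible N) (hP : PicF.IsInvertible P) (s : Coh.structureModule X ⟶ N)
    (hs : i (genericPoint Z) ∈ CohB1.genLocus N s) :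
    Mono (mulS s (CohB1.tensorMod P ((Scheme.Modules.pushforward i).obj (Coh.structureModule Z)))) := by
  have h1 : pullHom i s ≠ 0 := by
    intro h
    have h2 : genericPoint Z ∈ CohB1.genLocus _ (pullHom i s) := by
      rw [Ega1.AmpFam.genLocus_pullHom i hN s]
      exact hs
    rw [h, Ega2.FiniteSet.genLocus_zero] at h2
    exact h2
  set G := CohB1.tensorMod ((Scheme.Modules.pullback i).obj P) (Coh.structureModule Z) with hG
  have hGi : PicF.IsInvertible G :=
    isInvertible_tensorMod (isInv_pull i hP) isInvertible_structureModule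
  have h2 : Mono (mulS (pullHom i s) G) := HodgeSec.mono_mulS (isInv_pull i hN) hGi _ h1
  have h3 : Mono ((Scheme.Modules.pushforward i).map (mulS (pullHom i s) G)) := inferInstance
  rw [← mulS_push] at h3
  have h4 : Mono (mulS s ((Scheme.Modules.pushforward i).obj G)) := mono_of_mono _ (VarietyB.ProjForm.projMor i N G)
  rw [mulS_iso s (VarietyB.ProjForm.projIso i (MultInt.hasBases hP) (Coh.structureModule Z))]
  have h5 : Mono (Tens.mapT (𝟙 N) (VarietyB.ProjForm.projIso i (MultInt.hasBases hP) (Coh.structureModule Z)).inv) :=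
    inferInstanceAs (Mono (Tens.mapTIso (Iso.refl N)
      (VarietyB.ProjForm.projIso i (MultInt.hasBases hP) (Coh.structureModule Z)).symm).hom)
  infer_instance

omit [IsProper (X ↘ Spec (CommRingCat.of k))] [X.Over (Spec (CommRingCat.of k))] in
theorem mulS_push_eq_zero {Z : Scheme.{u}} [IsIntegral Z] (i : Z ⟶ X) [IsClosedImmersion i] {N P : X.Modules}
    (hN : PicF.IsInvertible N) (hP : PicF.IsInvertible P) (s : Coh.structureModule X ⟶ N)
    (hs : i (genericPoint Z) ∉ CohB1.genLocus N s) :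
    mulS s (CohB1.tensorMod P ((Scheme.Modules.pushforward i).obj (Coh.structureModule Z))) = 0 := by
  have h1 : pullHom i s = 0 := by
    by_contra h
    obtain ⟨z, hz⟩ := VarietyA.TwistExist.genLocus_nonempty (isInv_pull i hN) _ h
    have h2 : genericPoint Z ∈ CohB1.genLocus _ (pullHom i s) :=
      (genericPoint_spec Z).mem_open_set_iff (CohB1.genLocus _ (pullHom i s)).isOpen |>.mpr ⟨z, Set.mem_univ _, hz⟩
    rw [Ega1.AmpFam.genLocus_pullHom i hN s] at h2
    exact hs h2
  have h3 := mulS_push i s (CohB1.tensorMod ((Scheme.Modules.pullback i).obj P) (Coh.structureModule Z))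
  have h4 : mulS (pullHom i s) (CohB1.tensorMod ((Scheme.Modules.pullback i).obj P) (Coh.structureModule Z)) = 0 := by
    rw [h1]
    unfold mulS
    have h5 : Tens.mapT (0 : Coh.structureModule Z ⟶ (Scheme.Modules.pullback i).obj N)
        (𝟙 (CohB1.tensorMod ((Scheme.Modules.pullback i).obj P) (Coh.structureModule Z))) = 0 :=
      Tens.hom_ext _ _ fun U m n => by
        rw [Tens.mapT_tmul]
        exact Tens.zero_tmul _
    rw [h5, comp_zero]
  rw [h4, Functor.map_zero] at h3
  have h5 : IsIso (VarietyB.ProjForm.projMor i N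
      (CohB1.tensorMod ((Scheme.Modules.pullback i).obj P) (Coh.structureModule Z))) :=
    VarietyB.ProjForm.isIso_projMor i (MultInt.hasBases hN) _
  have h6 : mulS s ((Scheme.Modules.pushforward i).obj
      (CohB1.tensorMod ((Scheme.Modules.pullback i).obj P) (Coh.structureModule Z))) = 0 := by
    rw [← cancel_mono (VarietyB.ProjForm.projMor i N _), h3, zero_comp]
  rw [mulS_iso s (VarietyB.ProjForm.projIso i (MultInt.hasBases hP) (Coh.structureModule Z)), h6, zero_comp, comp_zero]

end Push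

end K910.Semi
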