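import Groth.Agent.Vanish.K910.Semi
import Groth.Agent.Sga67.CohBasic

/-!
# Lower bound for sections of powers of a globally generated module: the induction
-/

set_option autoImplicit false
universe u
open CategoryTheory CategoryTheory.Limits AlgebraicGeometry TopologicalSpace Opposite

namespace K910.Semi

open Groth.Agent Groth.Agent.Fga Groth.Agent.Fga.PicMon Groth.Agent.Fga.RegSec K910.HZ K910.IL K910.Nef K910.Dev
  K910.Growth K910.NefGrowth
open Groth.Agent.VarietyA.EulerLES Groth.Agent.Ega2

section Pw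

variable {X : Scheme.{u}}

/-- Powers of `N`, with the new factor on the left. -/
noncomputable def pw (N : X.Modules) : ℕ → X.Modules
  | 0 => Coh.structureModule X
  | q + 1 => CohB1.tensorMod N (pw N q)

theorem isInv_pw {N : X.Modules} (hN : PicF.IsInvertible N) (q : ℕ) : PicF.IsInvertible (pw N q) := by
  induction q with
  | zero => exact Fdesc.LocGen.isInvertible_structureModule
  | succ q ih => exact Fdesc.LocGen.isInvertible_tensorMod hN ih

theorem mc_pw (N : X.Modules) (q : ℕ) : mc (pw N q) = mc N ^ q := by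
  induction q with
  | zero => rfl
  | succ q ih => rw [pow_succ', ← ih]; rfl

variable {Y Z : Scheme.{u}} (τ : Z ⟶ Y) (g : Y ⟶ X) (h : Z ⟶ X) (w : τ ≫ g = h)

/-- the map `g_* O_Y ⟶ h_* O_Z` -/
noncomputable def qm : (Scheme.Modules.pushforward g).obj (Coh.structureModule Y) ⟶
    (Scheme.Modules.pushforward h).obj (Coh.structureModule Z) :=
  (Scheme.Modules.pushforward g).map (ClSub.unitToPush τ) ≫ (Scheme.Modules.pushforwardComp τ g).hom.app _ ≫
    (Scheme.Modules.pushforwardCongr w).hom.app _

theorem unitToPush_qm : ClSub.unitToPush g ≫ qm τ g h w = ClSub.unitToPush h := by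
  subst w
  ext V s
  change Z.presheaf.map (𝟙 _) (τ.app (g ⁻¹ᵁ V) (g.app V s)) = (τ ≫ g).app V s
  rw [Z.presheaf.map_id]
  rfl

end Pw

variable (k : Type u) [Field k] {X : Scheme.{u}} [X.Over (Spec (CommRingCat.of k))]

theorem mapA_ne_zero {Z : Scheme.{u}} [IsIntegral Z] (i : Z ⟶ X) :
    mapA k (ClSub.unitToPush i) 0 ≠ 0 := by
  intro h
  set x : Coh.HH X (Coh.structureModule X) 0 :=
    (VarietyA.H0Equiv.hZeroEquiv (Coh.structureModule X)).symm (Fdesc.LocGen.one ⊤) with hx
  have h1 : mapA k (ClSub.unitToPush i) 0 x = 0 := by rw [h]; rfl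
  have h2 : ((toAbF X).map (ClSub.unitToPush i)).hom.app (op ⊤)
      (VarietyA.H0Equiv.hZeroEquiv (Coh.structureModule X) x) =
      VarietyA.H0Equiv.hZeroEquiv _ (mapA k (ClSub.unitToPush i) 0 x) :=
    Sheaf.H.equiv₀_naturality (VarietyA.H0Equiv.isTerminalTop X) ((toAbF X).map (ClSub.unitToPush i)) x
  rw [h1, map_zero, hx, AddEquiv.apply_symm_apply] at h2
  have h3 : (i.app ⊤) (1 : Γ(X, ⊤)) = 0 := h2
  rw [map_one] at h3
  have : Nonempty (i ⁻¹ᵁ (⊤ : X.Opens) : Z.Opens) := ⟨⟨genericPoint Z, trivial⟩⟩
  exact one_ne_zero h3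

variable [IsProper (X ↘ Spec (CommRingCat.of k))]

theorem rk_zero_pos {Z : Scheme.{u}} [IsIntegral Z] (i : Z ⟶ X) [IsClosedImmersion i] :
    1 ≤ rk k (Tens.mapT (𝟙 (Coh.structureModule X)) (ClSub.unitToPush i)) := by
  have := IntAdd.isNoetherian k X
  rw [rk_congr k (Tens.lunit _) (Tens.lunit _) _ _ (lunit_naturality (ClSub.unitToPush i))]
  have hO : Coh.IsCoh (Coh.structureModule Z) :=
    HodgeSec.isCoh_of_isInvertible Fdesc.LocGen.isInvertible_structureModule
  have hp : Coh.IsCoh ((Coh.push i).obj (Coh.structureModule Z)) := CohqB.FinAmple.isCoh_push i hO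
  have f : Module.Finite k (Coh.HH X ((Scheme.Modules.pushforward i).obj (Coh.structureModule Z)) 0) :=
    HodgeSec.finite_HH' k hp 0
  have h1 : LinearMap.range (mapA k (ClSub.unitToPush i) 0) ≠ ⊥ := by
    intro h
    exact mapA_ne_zero k i (LinearMap.range_eq_bot.1 h)
  exact Nat.one_le_iff_ne_zero.2 fun h0 => h1 (Submodule.finrank_eq_zero.1 h0)

variable {d : ℕ} (hd : topologicalKrullDim X ≤ d)

include hd

/-- **Lower bound for the Hilbert function of the image.** -/
theorem rk_ge [Nonempty X] {N N' : X.Modules} (hN : PicF.IsInvertible N) (hN' : PicF.IsInvertible N')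
    (hNN' : mc N' * mc N = 1) (hgg : ∀ x : X, ∃ s : Coh.structureModule X ⟶ N, x ∈ CohB1.genLocus N s)
    (m : ℕ) (Z : Scheme.{u}) (i : Z ⟶ X) [IsClosedImmersion i] [IsIntegral Z]
    (hZ : topologicalKrullDim Z = (m : ℕ))
    (hne : IL k X d (List.replicate m (mc N')) (mc ((Coh.push i).obj (Coh.structureModule Z))) ≠ 0) (q : ℕ) :
    (q + m).choose m ≤ rk k (Tens.mapT (𝟙 (pw N q)) (ClSub.unitToPush i)) := by
  have hNoeth := IntAdd.isNoetherian k X
  induction m generalizing Z q with
  | zero =>
    have hO : Coh.IsCoh (Coh.structureModule Z) :=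
      HodgeSec.isCoh_of_isInvertible Fdesc.LocGen.isInvertible_structureModule
    have hp : Coh.IsCoh ((Coh.push i).obj (Coh.structureModule Z)) := CohqB.FinAmple.isCoh_push i hO
    obtain ⟨s, hs⟩ := hgg (i (genericPoint Z))
    rw [Nat.choose_zero_right]
    induction q with
    | zero => exact rk_zero_pos k i
    | succ q ih => exact ih.trans (rk_le k hN (isInv_pw hN q) hp s _ (mono_mulS_push i hN (isInv_pw hN q) s hs))
  | succ m ih =>
    have hO : Coh.IsCoh (Coh.structureModule Z) :=
      HodgeSec.isCoh_of_isInvertible Fdesc.LocGen.isInvertible_structureModule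
    set F := (Coh.push i).obj (Coh.structureModule Z) with hF
    have hp : Coh.IsCoh F := CohqB.FinAmple.isCoh_push i hO
    obtain ⟨s, hs⟩ := hgg (i (genericPoint Z))
    have hFs : CohB1.support F = Set.range i := by
      rw [hF, CohqB.DevSimple.support_push, Pic13.H956.Numbers.support_unit, Set.image_univ]
    -- multiplication by `s` on `F`
    have hmono : Mono (mulS s F) := by
      have h1 := mono_mulS_push i hN (Fdesc.LocGen.isInvertible_structureModule (X := X)) s hs
      rw [mulS_iso s (Tens.lunit F).symm]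
      have h2 : Mono (Tens.mapT (𝟙 N) (Tens.lunit F).symm.inv) :=
        inferInstanceAs (Mono (Tens.mapTIso (Iso.refl N) (Tens.lunit F)).hom)
      have h3 : Mono (mulS s (CohB1.tensorMod (Coh.structureModule X) F)) := h1
      infer_instance
    have hQ : Coh.IsCoh (cokernel (mulS s F)) := Sga67.CohBasic.isCoh_cokernel _ hp.1 (isCoh_tensor hN hp)
    have hQs : CohB1.support (cokernel (mulS s F)) = Set.range i \ CohB1.genLocus N s := by
      rw [support_cokernel_mulS s F hN hp.2, hFs]
    have hQd : topologicalKrullDim (CohB1.support (cokernel (mulS s F))) ≤ (m : ℕ) := by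
      refine IntNum0.withBot_le_of_lt_succ (DimLt.topologicalKrullDim_lt (A := Set.range i) ?_
        (S0020.result X _ hQ.2) (by rw [hQs]; exact Set.diff_subset) ?_ ?_)
      · rw [← Set.image_univ]
        exact (irreducibleSpace_def Z |>.mp inferInstance).image i i.continuous.continuousOn
      · intro h
        have h1 : i (genericPoint Z) ∈ CohB1.support (cokernel (mulS s F)) := by rw [h]; exact ⟨_, rfl⟩
        rw [hQs] at h1
        exact h1.2 hs
      · rw [dim_range, hZ]
        exact_mod_cast Nat.lt_succ_self _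
    have hI : InvL (List.replicate m (mc N')) := fun p hp => by
      rw [List.eq_of_mem_replicate hp]; exact inv_mc hN'
    have hcut := IL_cut k hd hI hN hp (inv_mc hN') hNN' (mulS s F) (by rw [List.length_replicate]; exact hQd)
    rw [List.replicate_succ, hcut] at hne
    -- a component of the zero locus
    obtain ⟨Z', i', hi', hZ'i, hZ'T, hZ'd, hZ'ne⟩ : ∃ (Z' : Scheme.{u}) (i' : Z' ⟶ X) (_ : IsClosedImmersion i')
        (_ : IsIntegral Z') (_ : Set.range i' ⊆ CohB1.support (cokernel (mulS s F)))
        (_ : topologicalKrullDim Z' = (m : ℕ)),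
        IL k X d (List.replicate m (mc N')) (mc ((Coh.push i').obj (Coh.structureModule Z'))) ≠ 0 := by
      by_contra hcon
      push Not at hcon
      apply hne
      have h1 := IL_eq_zero_of_integral k hd (l := List.replicate m N') (fun M hM => by
        rw [List.eq_of_mem_replicate hM]; exact hN') (T := CohB1.support (cokernel (mulS s F))) (by
          intro Z' i' _ hZ' hT hdim
          rw [List.map_replicate]
          rw [List.length_replicate] at hdim
          exact hcon Z' i' inferInstance hZ' hT hdim) _ hQ le_rfl (by rw [List.length_replicate]; exact hQd)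
      rwa [List.map_replicate] at h1
    have hO' : Coh.IsCoh (Coh.structureModule Z') := by
      have : IsLocallyNoetherian Z' := LocallyOfFiniteType.isLocallyNoetherian i'
      exact HodgeSec.isCoh_of_isInvertible Fdesc.LocGen.isInvertible_structureModule
    have hp' : Coh.IsCoh ((Coh.push i').obj (Coh.structureModule Z')) := CohqB.FinAmple.isCoh_push i' hO'
    obtain ⟨j, hj⟩ := S4367.result i' i (hZ'T.trans (by rw [hQs]; exact Set.diff_subset))
    have hs' : i' (genericPoint Z') ∉ CohB1.genLocus N s := by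
      have h1 := hZ'T ⟨genericPoint Z', rfl⟩
      rw [hQs] at h1
      exact h1.2
    have hstep : ∀ q, rk k (Tens.mapT (𝟙 (pw N q)) (ClSub.unitToPush i)) +
        rk k (Tens.mapT (𝟙 (pw N (q + 1))) (ClSub.unitToPush i')) ≤
        rk k (Tens.mapT (𝟙 (pw N (q + 1))) (ClSub.unitToPush i)) := fun q =>
      rk_rec k hN (isInv_pw hN q) hp hp' s (ClSub.unitToPush i) (ClSub.unitToPush i') (qm j i i' hj)
        (unitToPush_qm j i i' hj) (mono_mulS_push i hN (isInv_pw hN q) s hs)
        (mulS_push_eq_zero i' hN (isInv_pw hN q) s hs')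
    induction q with
    | zero =>
      rw [zero_add, Nat.choose_self]
      exact rk_zero_pos k i
    | succ q ihq =>
      have h1 := ih Z' i' hZ'd hZ'ne (q + 1)
      have h2 : (q + 1 + (m + 1)).choose (m + 1) = (q + (m + 1)).choose (m + 1) + (q + 1 + m).choose m := by
        have e1 : q + 1 + (m + 1) = (q + 1 + m) + 1 := by ring
        have e2 : q + (m + 1) = q + 1 + m := by ring
        rw [e1, e2, Nat.choose_succ_succ, add_comm]
      rw [h2]
      exact (add_le_add ihq h1).trans (hstep q)

/-- `h^0(N^q) ≥ (q + m choose m)`. -/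
theorem HZ_ge [Nonempty X] {N N' : X.Modules} (hN : PicF.IsInvertible N) (hN' : PicF.IsInvertible N')
    (hNN' : mc N' * mc N = 1) (hgg : ∀ x : X, ∃ s : Coh.structureModule X ⟶ N, x ∈ CohB1.genLocus N s)
    (m : ℕ) (Z : Scheme.{u}) (i : Z ⟶ X) [IsClosedImmersion i] [IsIntegral Z]
    (hZ : topologicalKrullDim Z = (m : ℕ))
    (hne : IL k X d (List.replicate m (mc N')) (mc ((Coh.push i).obj (Coh.structureModule Z))) ≠ 0) (q : ℕ) :
    (q + m).choose m ≤ HZ k X (mc N ^ q) := by
  have := IntAdd.isNoetherian k X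
  refine (rk_ge k hd hN hN' hNN' hgg m Z i hZ hne q).trans ?_
  have hO : Coh.IsCoh (Coh.structureModule X) :=
    HodgeSec.isCoh_of_isInvertible Fdesc.LocGen.isInvertible_structureModule
  have f : Module.Finite k (Coh.HH X (CohB1.tensorMod (pw N q) (Coh.structureModule X)) 0) :=
    HodgeSec.finite_HH' k (isCoh_tensor (isInv_pw hN q) hO) 0
  have h1 : mc N ^ q = mc (CohB1.tensorMod (pw N q) (Coh.structureModule X)) := by
    rw [mc_tensor, mc_pw, mc_one, mul_one]
  rw [h1, HZ_mc]
  exact LinearMap.finrank_range_le _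

end K910.Semi
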