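import Groth.Agent.Vanish.K680.FormLog

/-!
# The pull-back of top forms at codimension one points: the lower bound

`R → S` local homomorphism of discrete valuation rings over a field of characteristic zero with algebraic
residue extension, `t`, `s` uniformizers: if `J` denotes the pull-back of top forms and `β` generates
`Ω^n_R`, then `t • ω ∈ m_S • J β` for every `ω ∈ Ω^n_S` (tame ramification).
-/

set_option autoImplicit false
set_option backward.isDefEq.respectTransparency false

universe u

noncomputable section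

open K583.AlgUniv IsLocalRing Polynomial K680.FormAlg

namespace K910.SplitForm

section Alg

variable {k R S : Type u} [Field k] [CommRing R] [CommRing S]
  {M N : Type u} [AddCommGroup M] [Module R M] [AddCommGroup N] [Module S N]

/-- The differential of a polynomial expression. -/
theorem der_eval₂ {A : Type u} [CommRing A] {φ : A →+* S} {D : S →+ N} (hD : IsDer φ D)
    (ψ : R →+* S) (Q : Submodule S N) (hQ : ∀ r : R, D (ψ r) ∈ Q) (p : R[X]) (a : S) :
    D (p.eval₂ ψ a) - (derivative p).eval₂ ψ a • D a ∈ Q := by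
  induction p using Polynomial.induction_on' with
  | add p q hp hq =>
    rw [eval₂_add, derivative_add, eval₂_add, add_smul, map_add]
    convert Q.add_mem hp hq using 1
    abel
  | monomial n r =>
    rw [eval₂_monomial, derivative_monomial, eval₂_monomial, hD.leibniz]
    cases n with
    | zero =>
      have h1 : D (a ^ 0) = 0 := by
        rw [pow_zero, ← map_one φ, hD.zero]
      rw [h1]
      simpa using hQ r
    | succ e =>
      rw [isDer_pow hD]
      have h2 : ψ r • ((e + 1 : ℕ) : S) • a ^ e • D a + a ^ (e + 1) • D (ψ r) -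
          (ψ (r * ((e + 1 : ℕ) : R)) * a ^ (e + 1 - 1)) • D a = a ^ (e + 1) • D (ψ r) := by
        rw [Nat.add_sub_cancel, map_mul, map_natCast, smul_smul, smul_smul, mul_assoc]
        abel
      rw [h2]
      exact Q.smul_mem _ (hQ r)

variable [IsLocalRing R] [IsLocalRing S]

/-- The residue extension is algebraic. -/
def ResAlg (ψ : R →+* S) [IsLocalHom ψ] : Prop :=
  @Algebra.IsAlgebraic (ResidueField R) (ResidueField S) _ _ (ResidueField.map ψ).toAlgebra

theorem D_mem [CharZero k] {φ : k →+* S} {D : S →+ N} (hD : IsDer φ D) (φ₀ : k →+* R)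
    (ψ : R →+* S) [IsLocalHom ψ] (halg : ResAlg ψ) {s : S} (hs : maximalIdeal S = Ideal.span {s})
    (Q : Submodule S N) (hQ : ∀ r : R, D (ψ r) ∈ Q) (hQs : D s ∈ Q) (hsQ : ∀ x : N, s • x ∈ Q)
    (a : S) : D a ∈ Q := by
  letI : Algebra (ResidueField R) (ResidueField S) := (ResidueField.map ψ).toAlgebra
  haveI : Algebra.IsAlgebraic (ResidueField R) (ResidueField S) := halg
  haveI : CharZero (ResidueField R) :=
    charZero_of_injective_ringHom ((residue R).comp φ₀).injective
  have hint : IsIntegral (ResidueField R) (residue S a) :=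
    (Algebra.IsAlgebraic.isAlgebraic (R := ResidueField R) (residue S a)).isIntegral
  obtain ⟨p, hp⟩ := Polynomial.map_surjective (residue R) residue_surjective
    (minpoly (ResidueField R) (residue S a))
  have hcomp : (residue S).comp ψ = (ResidueField.map ψ).comp (residue R) := by
    ext r
    rfl
  have hev : ∀ q : R[X], residue S (q.eval₂ ψ a) =
      aeval (residue S a) (q.map (residue R)) := by
    intro q
    rw [hom_eval₂, hcomp, aeval_def, eval₂_map]
    rfl
  have h1 : p.eval₂ ψ a ∈ maximalIdeal S := by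
    rw [← residue_eq_zero_iff, hev, hp, minpoly.aeval]
  have h2 : IsUnit ((derivative p).eval₂ ψ a) := by
    rw [← residue_ne_zero_iff_isUnit, hev, ← derivative_map, hp]
    have hsep : (minpoly (ResidueField R) (residue S a)).Separable :=
      (minpoly.irreducible hint).separable
    exact hsep.aeval_derivative_ne_zero (minpoly.aeval _ _)
  rw [hs, Ideal.mem_span_singleton] at h1
  obtain ⟨a', ha'⟩ := h1
  have h3 := der_eval₂ hD ψ Q hQ p a
  have h4 : D (p.eval₂ ψ a) ∈ Q := by
    rw [ha', hD.leibniz]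
    exact Q.add_mem (hsQ _) (Q.smul_mem _ hQs)
  have h5 : (derivative p).eval₂ ψ a • D a ∈ Q := by
    have := Q.sub_mem h4 h3
    rwa [sub_sub_cancel] at this
  obtain ⟨u, hu⟩ := h2
  rw [← hu] at h5
  have h6 := Q.smul_mem (↑u⁻¹ : S) h5
  rwa [smul_smul, Units.inv_mul, one_smul] at h6

theorem span_eq_top [CharZero k] {φ : k →+* S} {D : S →+ N} (hD : IsAlgUniv φ D) (φ₀ : k →+* R)
    (ψ : R →+* S) [IsLocalHom ψ] (halg : ResAlg ψ) {s : S} (hs : maximalIdeal S = Ideal.span {s})
    [Module.Finite S N] (N' : Submodule S N)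
    (hN' : ∀ r : R, D (ψ r) ∈ N' ⊔ (maximalIdeal S • (⊤ : Submodule S N))) (hNs : D s ∈ N') :
    N' = ⊤ := by
  rw [← top_le_iff]
  refine Submodule.le_of_le_smul_of_le_jacobson_bot (Module.Finite.fg_top (R := S) (M := N))
    (maximalIdeal_le_jacobson ⊥) ?_
  rw [← hD.span_eq_top, Submodule.span_le]
  rintro _ ⟨a, rfl⟩
  rw [hD.span_eq_top]
  refine D_mem hD.toIsDer φ₀ ψ halg hs _ hN' (Submodule.mem_sup_left hNs) (fun x => ?_) a
  refine Submodule.mem_sup_right (Submodule.smul_mem_smul ?_ Submodule.mem_top)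
  rw [hs]
  exact Ideal.mem_span_singleton_self s

end Alg

section Alt

variable {S N W : Type u} [CommRing S] [AddCommGroup N] [Module S N] [AddCommGroup W] [Module S W]
  {n : ℕ}

theorem alt_update_sum (A : N [⋀^Fin n]→ₗ[S] W) (b : Fin n → N) (j : Fin n) (r : Fin n → S) :
    A (Function.update b j (∑ i, r i • b i)) = r j • A b := by
  have h1 : A (Function.update b j (∑ i, r i • b i)) =
      ∑ i, A (Function.update b j (r i • b i)) :=
    A.toMultilinearMap.map_update_sum Finset.univ j (fun i => r i • b i) b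
  rw [h1, Finset.sum_eq_single j]
  · rw [A.map_update_smul, Function.update_eq_self]
  · intro i _ hij
    rw [A.map_update_smul]
    have h2 : A (Function.update b j (b i)) = 0 :=
      A.map_eq_zero_of_eq _ (i := i) (j := j)
        (by rw [Function.update_of_ne hij, Function.update_self]) hij
    rw [h2, smul_zero]
  · intro h
    exact absurd (Finset.mem_univ j) h

end Alt

section Main

variable {k R S : Type u} [Field k] [CharZero k] [CommRing R] [CommRing S] [IsLocalRing R]
  [IsDomain S] [IsDiscreteValuationRing S]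
  {M N W : Type u} [AddCommGroup M] [Module R M] [AddCommGroup N] [Module S N]
  [AddCommGroup W] [Module S W] {n : ℕ}

theorem main (φ : k →+* R) (ψ : R →+* S) [IsLocalHom ψ] (halg : ResAlg ψ) {δ : R →+ M}
    {δ' : S →+ N} (hδ' : IsAlgUniv (ψ.comp φ) δ') (P : M →+ N)
    (hP : ∀ (c : R) m, P (c • m) = ψ c • P m) (hPδ : ∀ a, P (δ a) = δ' (ψ a))
    (b : Module.Basis (Fin n) R M) (b₁ : Module.Basis (Fin n) S N) (F : N [⋀^Fin n]→ₗ[S] W)
    (hF : ∀ ω : W, ∃ a : S, ω = a • F b₁) (t : R) (ht : t ∈ maximalIdeal R) (ht0 : ψ t ≠ 0)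
    (j : Fin n) (hj : IsUnit (b.repr (δ t) j)) (ω : W) :
    ∃ a ∈ maximalIdeal S, ψ t • ω = a • F (fun i => P (b i)) := by
  classical
  obtain ⟨s, hs⟩ := IsDiscreteValuationRing.exists_irreducible S
  obtain ⟨e, v, hv⟩ := IsDiscreteValuationRing.eq_unit_mul_pow_irreducible ht0 hs
  have hψt : ψ t ∈ maximalIdeal S := by
    rw [mem_maximalIdeal, mem_nonunits_iff] at ht ⊢
    exact fun h => ht (isUnit_of_map_unit ψ t h)
  obtain ⟨e, rfl⟩ : ∃ e', e = e' + 1 := by
    cases e with
    | zero =>
      exfalso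
      rw [hv, pow_zero, mul_one] at hψt
      exact ((mem_maximalIdeal _).mp hψt) v.isUnit
    | succ e => exact ⟨e, rfl⟩
  have hsm : maximalIdeal S = Ideal.span {s} := hs.maximalIdeal_eq
  have hfin : Module.Finite S N := Module.Finite.of_basis b₁
  set c : Fin n → R := fun i => b.repr (δ t) i with hc
  have hw : P (δ t) = ∑ i, ψ (c i) • P (b i) := by
    conv_lhs => rw [← b.sum_repr (δ t)]
    rw [map_sum]
    exact Finset.sum_congr rfl fun i _ => hP _ _
  have hdt : δ' (ψ t) = s ^ e • ((↑v * ((e + 1 : ℕ) : S)) • δ' s + s • δ' ↑v) := by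
    rw [hv, K680.FormLog.der_unit_mul_pow hδ'.toIsDer _ _ (Nat.succ_pos e), Nat.succ_sub_one]
  -- the new generators
  set v' : Fin n → N := Function.update (fun i => P (b i)) j (δ' s) with hv'
  have hv'j : v' j = δ' s := Function.update_self _ _ _
  have hv'i : ∀ i, i ≠ j → v' i = P (b i) := fun i hi => Function.update_of_ne hi _ _
  set N' : Submodule S N := Submodule.span S (Set.range v') with hN'
  have hsN' : δ' s ∈ N' := hv'j ▸ Submodule.subset_span ⟨j, rfl⟩
  have hiN' : ∀ i, i ≠ j → P (b i) ∈ N' := fun i hi => hv'i i hi ▸ Submodule.subset_span ⟨i, rfl⟩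
  have hsQ : ∀ x : N, s • x ∈ N' ⊔ (maximalIdeal S • (⊤ : Submodule S N)) := fun x =>
    Submodule.mem_sup_right (Submodule.smul_mem_smul
      (by rw [hsm]; exact Ideal.mem_span_singleton_self s) Submodule.mem_top)
  obtain ⟨cj, hcj⟩ := hj
  have hjQ : P (b j) ∈ N' ⊔ (maximalIdeal S • (⊤ : Submodule S N)) := by
    have h1 : ψ (c j) • P (b j) ∈ N' ⊔ (maximalIdeal S • (⊤ : Submodule S N)) := by
      have h2 : ψ (c j) • P (b j) = δ' (ψ t) - ∑ i ∈ Finset.univ.erase j, ψ (c i) • P (b i) := by
        rw [← hPδ, hw, ← Finset.add_sum_erase _ _ (Finset.mem_univ j)]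
        abel
      rw [h2]
      refine Submodule.sub_mem _ ?_ (Submodule.sum_mem _ fun i hi => ?_)
      · rw [hdt]
        refine Submodule.smul_mem _ _ (Submodule.add_mem _ ?_ (hsQ _))
        exact Submodule.smul_mem _ _ (Submodule.mem_sup_left hsN')
      · exact Submodule.smul_mem _ _ (Submodule.mem_sup_left (hiN' i (Finset.ne_of_mem_erase hi)))
    have h3 : P (b j) = ψ (↑cj⁻¹ : R) • (ψ (c j) • P (b j)) := by
      rw [smul_smul, ← map_mul]
      change _ = ψ (↑cj⁻¹ * (b.repr (δ t) j)) • _
      rw [← hcj, Units.inv_mul, map_one, one_smul]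
    rw [h3]
    exact Submodule.smul_mem _ _ h1
  have hPQ : ∀ m, P m ∈ N' ⊔ (maximalIdeal S • (⊤ : Submodule S N)) := by
    intro m
    rw [← b.sum_repr m, map_sum]
    refine Submodule.sum_mem _ fun i _ => ?_
    rw [hP]
    refine Submodule.smul_mem _ _ ?_
    by_cases hi : i = j
    · rw [hi]; exact hjQ
    · exact Submodule.mem_sup_left (hiN' i hi)
  have htop : N' = ⊤ := span_eq_top hδ' φ ψ halg hsm N' (fun r => by rw [← hPδ]; exact hPQ _) hsN'
  -- `F v'` is a generator
  have hgen : ∀ ω : W, ∃ z : S, ω = z • F v' := by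
    intro ω
    obtain ⟨a, rfl⟩ := hF ω
    have h1 : ∀ i, ∃ r : Fin n → S, ∑ l, r l • v' l = b₁ i := fun i => by
      have h2 : b₁ i ∈ Submodule.span S (Set.range v') := by
        rw [← hN', htop]
        trivial
      exact (Submodule.mem_span_range_iff_exists_fun S).mp h2
    choose r hr using h1
    have h3 : (b₁ : Fin n → N) = fun i => ∑ l, r i l • v' l := funext fun i => (hr i).symm
    refine ⟨a * (Pi.basisFun S (Fin n)).det r, ?_⟩
    rw [h3, K476.DetAlg.alt_comp F v' r, smul_smul]
  -- the computation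
  obtain ⟨z, hz⟩ := hgen (F (Function.update (fun i => P (b i)) j (δ' ↑v)))
  have hmain : ψ (c j) • F (fun i => P (b i)) =
      (s ^ e * (↑v * ((e + 1 : ℕ) : S) + s * z)) • F v' := by
    have h1 : F (Function.update (fun i => P (b i)) j (P (δ t))) =
        ψ (c j) • F (fun i => P (b i)) := by
      rw [hw]
      exact alt_update_sum F (fun i => P (b i)) j (fun i => ψ (c i))
    rw [← h1, hPδ, hdt, F.map_update_smul, F.map_update_add, F.map_update_smul,
      F.map_update_smul, hz, ← hv', mul_smul (s ^ e), add_smul, mul_smul s z]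
  have hq : IsUnit (↑v * ((e + 1 : ℕ) : S) + s * z) := by
    have h1 : IsUnit (((e + 1 : ℕ) : S)) := by
      have h2 : IsUnit (((e + 1 : ℕ) : k)) := IsUnit.mk0 _ (Nat.cast_ne_zero.mpr (Nat.succ_ne_zero e))
      have h3 := h2.map (ψ.comp φ)
      rwa [map_natCast] at h3
    have h2 : s * z ∈ maximalIdeal S := Ideal.mul_mem_right _ _
      (by rw [hsm]; exact Ideal.mem_span_singleton_self s)
    by_contra h3
    have h4 : ↑v * ((e + 1 : ℕ) : S) ∈ maximalIdeal S := by
      have h5 := (maximalIdeal S).sub_mem ((mem_maximalIdeal _).mpr h3) h2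
      rwa [add_sub_cancel_right] at h5
    exact ((mem_maximalIdeal _).mp h4) (v.isUnit.mul h1)
  obtain ⟨q, hq⟩ := hq
  obtain ⟨z', rfl⟩ := hgen ω
  refine ⟨↑v * s * z' * ↑q⁻¹ * ψ (c j), ?_, ?_⟩
  · have h1 : s ∈ maximalIdeal S := by rw [hsm]; exact Ideal.mem_span_singleton_self s
    have h2 : ↑v * s * z' * ↑q⁻¹ * ψ (c j) = s * (↑v * z' * ↑q⁻¹ * ψ (c j)) := by ring
    rw [h2]
    exact Ideal.mul_mem_right _ _ h1
  · rw [mul_smul _ (ψ (c j)), hmain, ← hq, smul_smul, smul_smul, hv]
    congr 1
    have h1 : (q : S) * ↑q⁻¹ = 1 := Units.mul_inv q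
    linear_combination (-(↑v * s ^ (e + 1) * z')) * h1

end Main

end K910.SplitForm
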