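import Groth.Agent.Vanish.K910.SplitTr
import Groth.Agent.Vanish.K910.DescTop
import Groth.Agent.HTop.K347.DescSection
import Groth.Agent.S2665

/-!
# The trace of a function vanishing at all points over a point of codimension one
-/

set_option autoImplicit false
set_option backward.isDefEq.respectTransparency false

universe u

noncomputable section

open CategoryTheory CategoryTheory.Limits AlgebraicGeometry Opposite TopologicalSpace
open K475.GenStalk K910.DescGlue

namespace K910.SplitPt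

set_option backward.defeqAttrib.useBackward true in
open IsLocalRing in
theorem toSpecΓ_apply {X : Scheme.{u}} (U : X.Opens) (x : U) :
    U.toSpecΓ x = Spec.map (X.presheaf.germ U x x.2) (closedPoint _) := by
  dsimp [Scheme.toSpecΓ_apply, Scheme.Opens.toSpecΓ, TopCat.Presheaf.Γgerm]
  rw [← Scheme.Hom.comp_apply, ← Spec.map_comp,
    (Iso.eq_comp_inv _).mpr (Scheme.Opens.germ_stalkIso_hom U (V := ⊤) x trivial),
    X.presheaf.germ_res_assoc, Spec.map_comp, Scheme.Hom.comp_apply]
  congr 1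
  exact IsLocalRing.comap_closedPoint (U.stalkIso x).inv.hom

theorem exists_point {X₁ X : Scheme.{u}} (π : X₁ ⟶ X) [UniversallyClosed π] {V : X.Opens}
    (hV : IsAffineOpen V) (q : Ideal Γ(X₁, π ⁻¹ᵁ V)) [hq : q.IsPrime] :
    ∃ (y : X₁) (hy : π y ∈ V), ∀ b : Γ(X₁, π ⁻¹ᵁ V),
      X₁.presheaf.germ (π ⁻¹ᵁ V) y hy b ∈ IsLocalRing.maximalIdeal (X₁.presheaf.stalk y) ↔ b ∈ q := by
  haveI : IsAffine V.toScheme := hV
  have hsurj : Function.Surjective (π ⁻¹ᵁ V).toScheme.toSpecΓ :=
    K347.DescSection.surjective_toSpecΓ (π ∣_ V)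
  have hsurj' : Function.Surjective (π ⁻¹ᵁ V).toSpecΓ := by
    have h1 : Function.Surjective (Spec.map (π ⁻¹ᵁ V).topIso.inv) :=
      (Spec.map (π ⁻¹ᵁ V).topIso.inv).surjective
    have h2 := h1.comp hsurj
    exact h2
  obtain ⟨w, hw⟩ := hsurj' ⟨q, hq⟩
  refine ⟨w.1, w.2, fun b => ?_⟩
  rw [toSpecΓ_apply] at hw
  have h3 := congrArg PrimeSpectrum.asIdeal hw
  change _ ↔ b ∈ (⟨q, hq⟩ : PrimeSpectrum _).asIdeal
  rw [← h3]
  rfl

variable {X₁ X : Scheme.{u}} (π : X₁ ⟶ X) [IsIntegral X₁] [IsIntegral X]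

set_option maxHeartbeats 1000000 in
theorem trace_mem (k : Type u) [Field k] [CharZero k]
    [X₁.Over (Spec (CommRingCat.of k))] [X.Over (Spec (CommRingCat.of k))]
    [LocallyOfFiniteType (X₁ ↘ Spec (CommRingCat.of k))]
    [LocallyOfFiniteType (X ↘ Spec (CommRingCat.of k))] [IsProper π]
    (hπ : π ≫ (X ↘ Spec (CommRingCat.of k)) = X₁ ↘ Spec (CommRingCat.of k))
    (hdim : topologicalKrullDim X₁ = topologicalKrullDim X)
    (hX : ∀ x : X, IsRegularLocalRing (X.presheaf.stalk x))
    (hX₁ : ∀ y : X₁, IsRegularLocalRing (X₁.presheaf.stalk y))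
    (hη : π (genericPoint X₁) = genericPoint X) {x : X}
    (hx1 : ringKrullDim (X.presheaf.stalk x) = 1) (z : X₁.functionField)
    (hz : ∀ y : X₁, π y = x → ∃ r ∈ IsLocalRing.maximalIdeal (X₁.presheaf.stalk y),
      algebraMap (X₁.presheaf.stalk y) X₁.functionField r = z) :
    ∃ r ∈ IsLocalRing.maximalIdeal (X.presheaf.stalk x),
      algebraMap (X.presheaf.stalk x) X.functionField r = tr π hη z := by
  obtain ⟨V, hV, hxV, -⟩ := exists_isAffineOpen_mem_and_subset (x := x) (U := (⊤ : X.Opens)) trivial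
  have hηV : η X ∈ V := mem_of_nonempty hxV
  have h₁ : η X₁ ∈ π ⁻¹ᵁ V := by change π (η X₁) ∈ V; rw [hη]; exact hηV
  have hN : Nonempty V := ⟨⟨x, hxV⟩⟩
  have hN₁ : Nonempty (π ⁻¹ᵁ V) := ⟨⟨_, h₁⟩⟩
  have hNoeth : IsLocallyNoetherian X :=
    LocallyOfFiniteType.isLocallyNoetherian (X ↘ Spec (CommRingCat.of k))
  have i1 : IsNoetherianRing Γ(X, V) := IsLocallyNoetherian.component_noetherian ⟨V, hV⟩
  have i2 : IsIntegrallyClosed Γ(X, V) :=
    K562.DimF.isIntegrallyClosed_app (K910.DescTop.isNormal hX) V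
  have i3 : IsIntegrallyClosed Γ(X₁, π ⁻¹ᵁ V) :=
    K562.DimF.isIntegrallyClosed_app (K910.DescTop.isNormal hX₁) (π ⁻¹ᵁ V)
  have i4 : IsFractionRing Γ(X₁, π ⁻¹ᵁ V) X₁.functionField :=
    K562.DimF.isFractionRing_app π hη (K562.DimF.finiteDimensional_ff k π hπ hdim hη)
      (K910.DescTop.isNormal hX₁) hV
  letI algAB : Algebra Γ(X, V) Γ(X₁, π ⁻¹ᵁ V) := (π.app V).hom.toAlgebra
  haveI : Module.Finite Γ(X, V) Γ(X₁, π ⁻¹ᵁ V) := K562.DimF.finite_app π hV
  letI algKL : Algebra X.functionField X₁.functionField := (K660.FF.ff π hη).toAlgebra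
  letI algAL : Algebra Γ(X, V) X₁.functionField :=
    ((algebraMap X.functionField X₁.functionField).comp
      (algebraMap Γ(X, V) X.functionField)).toAlgebra
  haveI : IsScalarTower Γ(X, V) X.functionField X₁.functionField :=
    IsScalarTower.of_algebraMap_eq (fun _ => rfl)
  haveI : IsScalarTower Γ(X, V) Γ(X₁, π ⁻¹ᵁ V) X₁.functionField :=
    IsScalarTower.of_algebraMap_eq (fun a => K660.FF.ff_germ π hη V hηV h₁ a)
  haveI : IsFractionRing Γ(X, V) X.functionField :=
    functionField_isFractionRing_of_isAffineOpen X V hV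
  have hinj : Function.Injective (algebraMap Γ(X, V) Γ(X₁, π ⁻¹ᵁ V)) := by
    rw [injective_iff_map_eq_zero]
    intro a ha
    have h2 : algebraMap Γ(X, V) X₁.functionField a = 0 := by
      rw [IsScalarTower.algebraMap_apply Γ(X, V) Γ(X₁, π ⁻¹ᵁ V) X₁.functionField, ha, map_zero]
    rw [IsScalarTower.algebraMap_apply Γ(X, V) X.functionField X₁.functionField,
      map_eq_zero_iff _ (RingHom.injective _), IsFractionRing.to_map_eq_zero_iff] at h2
    exact h2
  have hcK : CharZero X.functionField := by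
    let F : k →+* X.functionField := (X.presheaf.germ ⊤ (η X) trivial).hom.comp
      ((Scheme.ΓSpecIso (CommRingCat.of k)).inv ≫ (X ↘ Spec (CommRingCat.of k)).appTop).hom
    exact charZero_of_injective_ringHom F.injective
  -- the prime of `x`
  set p : Ideal Γ(X, V) := (hV.primeIdealOf ⟨x, hxV⟩).asIdeal with hp
  letI : Algebra Γ(X, V) (X.presheaf.stalk x) :=
    TopCat.Presheaf.algebra_section_stalk X.presheaf ⟨x, hxV⟩
  haveI hloc : IsLocalization.AtPrime (X.presheaf.stalk x) p := hV.isLocalization_stalk ⟨x, hxV⟩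
  have hp1 : p.height = 1 := by
    have h2 := IsLocalization.AtPrime.ringKrullDim_eq_height p (X.presheaf.stalk x)
    rw [hx1] at h2
    exact_mod_cast h2.symm
  haveI : IsNoetherianRing Γ(X₁, π ⁻¹ᵁ V) := IsNoetherianRing.of_finite Γ(X, V) _
  obtain ⟨s, hs, a, ha, hsa⟩ := K910.SplitTr.trace_regular (A := Γ(X, V)) (B := Γ(X₁, π ⁻¹ᵁ V))
    (K := X.functionField) (L := X₁.functionField) hcK hinj p hp1 z (by
      intro q hq hqp
      obtain ⟨y, hy, hyq⟩ := exists_point π hV q
      have hyx : π y = x := by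
        have h2 : hV.primeIdealOf ⟨π y, hy⟩ = hV.primeIdealOf ⟨x, hxV⟩ := by
          apply PrimeSpectrum.ext
          rw [← hp, ← hqp]
          ext c
          have h3 : c ∈ (hV.primeIdealOf ⟨π y, hy⟩).asIdeal ↔
              X.presheaf.germ V (π y) hy c ∈ IsLocalRing.maximalIdeal (X.presheaf.stalk (π y)) := by
            rw [hV.primeIdealOf_eq_map_closedPoint]
            rfl
          have h4 : π.stalkMap y (X.presheaf.germ V (π y) hy c) =
              X₁.presheaf.germ (π ⁻¹ᵁ V) y hy (π.app V c) :=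
            Scheme.Hom.germ_stalkMap_apply π V y hy c
          rw [h3, Ideal.mem_comap]
          change _ ↔ π.app V c ∈ q
          rw [← hyq, ← h4, IsLocalRing.mem_maximalIdeal, IsLocalRing.mem_maximalIdeal,
            mem_nonunits_iff, mem_nonunits_iff]
          exact (not_congr (isUnit_map_iff (π.stalkMap y).hom _)).symm
        have h5 := congrArg hV.fromSpec h2
        rw [hV.fromSpec_primeIdealOf, hV.fromSpec_primeIdealOf] at h5
        exact h5
      obtain ⟨r, hr, hrz⟩ := hz y hyx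
      have hgm : ∀ b : Γ(X₁, π ⁻¹ᵁ V), algebraMap (X₁.presheaf.stalk y) X₁.functionField
          (X₁.presheaf.germ (π ⁻¹ᵁ V) y hy b) = algebraMap Γ(X₁, π ⁻¹ᵁ V) X₁.functionField b :=
        fun b => TopCat.Presheaf.germ_stalkSpecializes_apply X₁.presheaf (U := π ⁻¹ᵁ V) hy (spec y) b
      have hinjy : Function.Injective (algebraMap (X₁.presheaf.stalk y) X₁.functionField) :=
        IsFractionRing.injective _ _
      have hq1 : q.height = 1 := by
        apply le_antisymm
        · have h2 := Groth.Agent.S2665.height_le_height_comap (A := Γ(X, V)) q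
          rw [hqp, hp1] at h2
          exact h2
        · rw [ENat.one_le_iff_ne_zero]
          intro h0'
          have h0 : q = ⊥ := Ideal.height_eq_zero_iff_eq_bot.mp h0'
          have h3 : p = ⊥ := by
            rw [← hqp, h0]
            exact Ideal.comap_bot_of_injective _ hinj
          rw [h3, Ideal.height_bot] at hp1
          exact zero_ne_one hp1
      obtain ⟨x', z', hz', hxz⟩ := IsFractionRing.div_surjective (A := Γ(X₁, π ⁻¹ᵁ V)) z
      have hz0 : algebraMap Γ(X₁, π ⁻¹ᵁ V) X₁.functionField z' ≠ 0 := by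
        rw [Ne, IsFractionRing.to_map_eq_zero_iff]
        exact nonZeroDivisors.ne_zero hz'
      have hzz : z * algebraMap _ X₁.functionField z' = algebraMap _ X₁.functionField x' := by
        rw [← hxz, div_mul_cancel₀ _ hz0]
      rcases K562.TraceAlg.dvd_total_of_height_one q hq1 z' x' with ⟨c, t, ht, hct⟩ | ⟨c, t, ht, hct⟩
      · have h2 : algebraMap Γ(X₁, π ⁻¹ᵁ V) X₁.functionField t * z =
            algebraMap Γ(X₁, π ⁻¹ᵁ V) X₁.functionField c := by
          apply mul_right_cancel₀ hz0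
          rw [mul_assoc, hzz, ← map_mul, ← map_mul, hct]
        refine ⟨c, ?_, t, ht, h2⟩
        rw [← hyq]
        have h3 : X₁.presheaf.germ (π ⁻¹ᵁ V) y hy c = X₁.presheaf.germ (π ⁻¹ᵁ V) y hy t * r := by
          apply hinjy
          rw [map_mul, hgm, hgm, hrz, h2]
        rw [h3]
        exact Ideal.mul_mem_left _ _ hr
      · exfalso
        apply ht
        have h2 : algebraMap Γ(X₁, π ⁻¹ᵁ V) X₁.functionField c * z =
            algebraMap Γ(X₁, π ⁻¹ᵁ V) X₁.functionField t := by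
          apply mul_right_cancel₀ hz0
          rw [mul_assoc, hzz, ← map_mul, ← map_mul, hct]
        rw [← hyq]
        have h3 : X₁.presheaf.germ (π ⁻¹ᵁ V) y hy t = X₁.presheaf.germ (π ⁻¹ᵁ V) y hy c * r := by
          apply hinjy
          rw [map_mul, hgm, hgm, hrz, h2]
        rw [h3]
        exact Ideal.mul_mem_left _ _ hr)
  have hgX : ∀ b : Γ(X, V), algebraMap (X.presheaf.stalk x) X.functionField
      (algebraMap Γ(X, V) (X.presheaf.stalk x) b) = algebraMap Γ(X, V) X.functionField b :=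
    fun b => TopCat.Presheaf.germ_stalkSpecializes_apply X.presheaf (U := V) hxV (spec x) b
  have hsu : IsUnit (algebraMap Γ(X, V) (X.presheaf.stalk x) s) :=
    (IsLocalization.AtPrime.isUnit_to_map_iff (X.presheaf.stalk x) p s).mpr hs
  obtain ⟨v, hv⟩ := hsu
  refine ⟨↑v⁻¹ * algebraMap Γ(X, V) (X.presheaf.stalk x) a, Ideal.mul_mem_left _ _
    ((IsLocalization.AtPrime.to_map_mem_maximal_iff (X.presheaf.stalk x) p a).mpr ha), ?_⟩
  have hs0 : algebraMap Γ(X, V) X.functionField s ≠ 0 := by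
    rw [Ne, IsFractionRing.to_map_eq_zero_iff]
    rintro rfl
    exact hs (zero_mem _)
  apply mul_left_cancel₀ hs0
  refine Eq.trans ?_ hsa.symm
  rw [map_mul, ← hgX s, ← hv, ← mul_assoc, ← map_mul, Units.mul_inv, map_one, one_mul, hgX]

end K910.SplitPt
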