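import Groth.Agent.Vanish.K910.SplitForm
import Groth.Agent.Vanish.K910.SplitPt

/-!
# The pull-back of top forms `J : W ⟶ π_* W₁` and its behaviour at points of codimension one
-/

set_option autoImplicit false
set_option backward.isDefEq.respectTransparency false

universe u

noncomputable section

open CategoryTheory CategoryTheory.Limits AlgebraicGeometry Opposite TopologicalSpace OmegaSh
open K583.AlgUniv K583.StalkDer K583.DerFunct K476.ExtStalk K680.FormHom K680.FormAlg
open Groth.Agent.CycB.ModStalk K475.GenStalk K680.FormMain K910.SplitForm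

namespace K910.SplitJ

section Pst

variable {k : Type u} [Field k] {X X₁ : Scheme.{u}} {f : X ⟶ Spec (CommRingCat.of k)} (π : X₁ ⟶ X)
  {Ω : X.Modules} {d : Der f Ω} {Ω₁ : X₁.Modules} {n : ℕ} {W : X.Modules} {W₁ : X₁.Modules}

theorem exists_pst [CharZero k] (hd : IsUniversal d) {d₁ : Der (π ≫ f) Ω₁}
    (hd₁ : IsUniversal d₁) (hr : FlatMod.IsFinLocFreeOfRank n Ω)
    (hr₁ : FlatMod.IsFinLocFreeOfRank n Ω₁)
    (hW : ExtPow.IsExtPow n Ω W) (hW₁ : ExtPow.IsExtPow n Ω₁ W₁)
    {J : W ⟶ (Scheme.Modules.pushforward π).obj W₁}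
    (hJ : IsPull π (psi π hd d₁) hW hW₁ J) (y : X₁) [IsDomain (X₁.presheaf.stalk y)]
    [IsDiscreteValuationRing (X₁.presheaf.stalk y)]
    (halg : ResAlg (π.stalkMap y).hom) {t : X.presheaf.stalk (π y)}
    (ht : t ∈ IsLocalRing.maximalIdeal (X.presheaf.stalk (π y)))
    (ht2 : t ∉ IsLocalRing.maximalIdeal (X.presheaf.stalk (π y)) ^ 2)
    (ht0 : π.stalkMap y t ≠ 0)
    {m : W.presheaf.stalk (π y)} (hm : IsGen W (π y) m) (ω : W₁.presheaf.stalk y) :
    ∃ a ∈ IsLocalRing.maximalIdeal (X₁.presheaf.stalk y),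
      π.stalkMap y t • ω = a • pst π J y m := by
  have hq : Coh.IsQCoh Ω := K583.UnivAffine.isQuasicoherent_of_isUniversal hd
  have hq₁ : Coh.IsQCoh Ω₁ := K583.UnivAffine.isQuasicoherent_of_isUniversal hd₁
  obtain ⟨b⟩ := Groth.Agent.Krr.H450.ConormalIso.exists_basis_stalk hr (π y)
  obtain ⟨b₁⟩ := Groth.Agent.Krr.H450.ConormalIso.exists_basis_stalk hr₁ y
  obtain ⟨δ, hδ, hδt⟩ := exists_isDer (kst f (π y)) ht ht2
  obtain ⟨ℓ, hℓ, -⟩ := (isAlgUniv_kst hd (π y)).lift _ δ hδ
  set w := stalkDer d (π y) t with hw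
  have hw0 : ℓ w ≠ 0 := by rw [hw, hℓ]; exact hδt
  obtain ⟨j, hj⟩ := exists_isUnit_repr b ℓ hw0
  have hδ' : IsAlgUniv ((π.stalkMap y).hom.comp (kst f (π y))) (stalkDer d₁ y) := by
    rw [← kst_comp]
    exact isAlgUniv_kst hd₁ y
  obtain ⟨a, ha, haω⟩ := K910.SplitForm.main (kst f (π y)) (π.stalkMap y).hom halg hδ'
    (pst π (psi π hd d₁) y) (fun c m => pst_smul π (psi π hd d₁) y c m)
    (fun a => pst_psi π hd d₁ y a) b b₁ (wedge hq₁ hW₁ y)
    (fun ω => by
      obtain ⟨c, hc⟩ := (isGen_wedge hq₁ hW₁ y b₁).2 ω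
      exact ⟨c, hc.symm⟩) t ht ht0 j hj ω
  have h2 := pst_wedge π hq hq₁ (psi π hd d₁) hW hW₁ J hJ y b
  obtain ⟨c, hc⟩ := hm.2 (wedge hq hW (π y) b)
  refine ⟨a * π.stalkMap y c, Ideal.mul_mem_right _ _ ha, ?_⟩
  refine haω.trans ?_
  rw [← h2, ← hc]
  change a • pst π J y (c • m) = _
  rw [pst_smul, smul_smul]

end Pst

/-- The pull-back `J` of top differential forms for a dominant morphism of smooth integral schemes of
the same dimension over a field of characteristic zero: `J` is injective at the generic point, and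
`t ω₁ ⊂ 𝔪 J(ω)` at points of codimension one. -/
theorem props {k : Type u} [Field k] [CharZero k] {X X₁ : Scheme.{u}} (n : ℕ)
    (f : X ⟶ Spec (CommRingCat.of k)) (π : X₁ ⟶ X) [IsIntegral X] [IsIntegral X₁]
    [QuasiSeparated f] [QuasiSeparated (π ≫ f)] [SmoothOfRelativeDimension n f]
    [SmoothOfRelativeDimension n (π ≫ f)] (hη : π (genericPoint X₁) = genericPoint X)
    {W : X.Modules} {W₁ : X₁.Modules}
    (hW : ExtPow.IsExtPow n (Omega.sheaf f) W)
    (hW₁ : ExtPow.IsExtPow n (Omega.sheaf (π ≫ f)) W₁)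
    {J : W ⟶ (Scheme.Modules.pushforward π).obj W₁}
    (hJ : IsPull π (psi π (Groth.Agent.S5005.result f) (dOmega (π ≫ f))) hW hW₁ J) :
      (∀ (U : X.Opens) (β : Γ(W, U)), β ≠ 0 → ∀ h : genericPoint X₁ ∈ π ⁻¹ᵁ U,
        W₁.presheaf.germ (π ⁻¹ᵁ U) (genericPoint X₁) h (im π J β) ≠ 0) ∧
      (∀ (y : X₁), IsDiscreteValuationRing (X₁.presheaf.stalk y) →
        IsDiscreteValuationRing (X.presheaf.stalk (π y)) → ResAlg (π.stalkMap y).hom →
        ∀ t : X.presheaf.stalk (π y), Irreducible t → ∀ m : W.presheaf.stalk (π y),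
        IsGen W (π y) m → ∀ ω : W₁.presheaf.stalk y,
        ∃ a ∈ IsLocalRing.maximalIdeal (X₁.presheaf.stalk y),
          π.stalkMap y t • ω = a • pst π J y m) := by
  have hd := Groth.Agent.S5005.result f
  have hd₁ := Groth.Agent.S5005.result (π ≫ f)
  have hr := Groth.Agent.Dual.H339.OmegaRank.isFinLocFreeOfRank_omega n f
  have hr₁ := Groth.Agent.Dual.H339.OmegaRank.isFinLocFreeOfRank_omega n (π ≫ f)
  have hq : Coh.IsQCoh (Omega.sheaf f) := K583.UnivAffine.isQuasicoherent_of_isUniversal hd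
  refine ⟨?_, ?_⟩
  · intro U β hβ h
    have hK : IsField (X.presheaf.stalk (π (genericPoint X₁))) := by
      rw [hη]
      exact Field.toIsField X.functionField
    have hL : IsField (X₁.presheaf.stalk (genericPoint X₁)) := Field.toIsField X₁.functionField
    have h3 : W.presheaf.germ U (π (genericPoint X₁)) h β ≠ 0 := by
      intro h0
      apply hβ
      refine section_ext (inj_of_rank hq hr hW) (fun hη' => ?_)
      rw [map_zero]
      exact germ_eq_zero_of_eq β hη h hη' h0
    have h4 := pst_ne_zero π hd hd₁ hr hr₁ hW hW₁ hJ (genericPoint X₁) hK hL h3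
    rw [pst_germ] at h4
    exact h4
  · intro y i1 i2 halg t ht m hm ω
    have h1 : t ∈ IsLocalRing.maximalIdeal (X.presheaf.stalk (π y)) := by
      rw [ht.maximalIdeal_eq]
      exact Ideal.mem_span_singleton_self t
    have h2 : t ∉ IsLocalRing.maximalIdeal (X.presheaf.stalk (π y)) ^ 2 := by
      rw [ht.maximalIdeal_eq, Ideal.span_singleton_pow, Ideal.mem_span_singleton]
      rintro ⟨c, hc⟩
      have h3 : t * 1 = t * (t * c) := by rw [mul_one, ← mul_assoc, ← pow_two, ← hc]
      exact ht.not_isUnit (IsUnit.of_mul_eq_one c (mul_left_cancel₀ ht.ne_zero h3).symm)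
    have h0 : π.stalkMap y t ≠ 0 := by
      intro h0
      have h3 := K660.FF.ff_algebraMap π hη y t
      have h4 : K660.FF.ff π hη (algebraMap (X.presheaf.stalk (π y)) X.functionField t) = 0 :=
        h3.trans ((congrArg _ h0).trans (map_zero _))
      rw [map_eq_zero_iff _ (RingHom.injective _), map_eq_zero_iff _ (IsFractionRing.injective _ _)]
        at h4
      exact ht.ne_zero h4
    exact exists_pst π hd hd₁ hr hr₁ hW hW₁ hJ y halg h1 h2 h0 hm ω

/-- The pull-back of top differential forms for a dominant morphism of smooth integral schemes of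
the same dimension over a field of characteristic zero. -/
theorem exists_J {k : Type u} [Field k] [CharZero k] {X X₁ : Scheme.{u}} (n : ℕ)
    (f : X ⟶ Spec (CommRingCat.of k)) (π : X₁ ⟶ X) [IsIntegral X] [IsIntegral X₁]
    [QuasiSeparated f] [QuasiSeparated (π ≫ f)] [SmoothOfRelativeDimension n f]
    [SmoothOfRelativeDimension n (π ≫ f)]
    {W : X.Modules} {W₁ : X₁.Modules}
    (hW : ExtPow.IsExtPow n (Omega.sheaf f) W)
    (hW₁ : ExtPow.IsExtPow n (Omega.sheaf (π ≫ f)) W₁) :
    ∃ J : W ⟶ (Scheme.Modules.pushforward π).obj W₁,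
      IsPull π (psi π (Groth.Agent.S5005.result f) (dOmega (π ≫ f))) hW hW₁ J :=
  exists_isPull π (psi π (Groth.Agent.S5005.result f) (dOmega (π ≫ f))) hW hW₁

/-- The residue extension at a point over a point of codimension one is algebraic. -/
theorem resAlg (k : Type u) [Field k] {X₁ X : Scheme.{u}} [X₁.Over (Spec (CommRingCat.of k))]
    [X.Over (Spec (CommRingCat.of k))] [LocallyOfFiniteType (X₁ ↘ Spec (CommRingCat.of k))]
    [LocallyOfFiniteType (X ↘ Spec (CommRingCat.of k))] (π : X₁ ⟶ X)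
    (hπ : π ≫ (X ↘ Spec (CommRingCat.of k)) = X₁ ↘ Spec (CommRingCat.of k))
    [IsIntegral X₁] [IsIntegral X] (hdim : topologicalKrullDim X₁ = topologicalKrullDim X)
    (hη : π (genericPoint X₁) = genericPoint X) {y : X₁}
    (hy : ringKrullDim (X.presheaf.stalk (π y)) = 1) : ResAlg (π.stalkMap y).hom := by
  have hy1 := K562.DimF.ringKrullDim_stalk_eq_one k π hπ hdim hη hy
  have h1 := K562.DimF.ringKrullDim_add k X₁ y
  have h2 := K562.DimF.ringKrullDim_add k X (π y)
  rw [hy1, K562.DimF.trd_genericPoint k hdim, ← h2, hy] at h1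
  have h3 := K562.DimF.trd_add k π hπ y
  letI algR : Algebra (X.residueField (π y)) (X₁.residueField y) :=
    (π.residueFieldMap y).hom.toAlgebra
  have h4 : Groth.Agent.VarietyB.DimSch.trd k X₁ y = Groth.Agent.VarietyB.DimSch.trd k X (π y) := by
    have h5 : ((1 + Groth.Agent.VarietyB.DimSch.trd k X₁ y : ℕ) : WithBot ℕ∞) =
        ((1 + Groth.Agent.VarietyB.DimSch.trd k X (π y) : ℕ) : WithBot ℕ∞) := by
      push_cast
      exact h1
    have h6 : (1 + Groth.Agent.VarietyB.DimSch.trd k X₁ y : ℕ) = 1 + Groth.Agent.VarietyB.DimSch.trd k X (π y) := by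
      exact_mod_cast h5
    omega
  have h5 : Algebra.trdeg (X.residueField (π y)) (X₁.residueField y) = 0 := by
    rw [h4] at h3
    have h6 : (Groth.Agent.VarietyB.DimSch.trd k X (π y) : Cardinal.{u}) +
        Algebra.trdeg (X.residueField (π y)) (X₁.residueField y) =
        (Groth.Agent.VarietyB.DimSch.trd k X (π y) : Cardinal.{u}) + 0 := by
      rw [add_zero]
      exact h3
    exact (Cardinal.add_nat_inj _).mp (by rw [add_comm, h6, add_comm])
  have h6 : Algebra.IsAlgebraic (X.residueField (π y)) (X₁.residueField y) :=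
    trdeg_eq_zero_iff.mp h5
  exact h6

end K910.SplitJ
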