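import Groth.Agent.Vanish.K562.TraceAlg

/-!
# The trace of elements vanishing at all primes over a height one prime
-/

set_option autoImplicit false

namespace K910.SplitTr

open Algebra

section Local

attribute [local instance] Ideal.Quotient.field

theorem trace_mem_of_local {R S : Type*} [CommRing R] [IsLocalRing R] [CommRing S] [Algebra R S]
    [Module.Free R S] [Module.Finite R S] (z : S)
    (hz : ∀ Q : Ideal S, Q.IsPrime → (IsLocalRing.maximalIdeal R).map (algebraMap R S) ≤ Q →
      z ∈ Q) :
    Algebra.trace R S z ∈ IsLocalRing.maximalIdeal R := by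
  set I := (IsLocalRing.maximalIdeal R).map (algebraMap R S) with hI
  have hrad : z ∈ I.radical := by
    rw [Ideal.radical_eq_sInf, Ideal.mem_sInf]
    rintro J ⟨hJ, hJp⟩
    exact hz J hJp hJ
  obtain ⟨n, hn⟩ := hrad
  have hnil : IsNilpotent (Ideal.Quotient.mk I z) :=
    ⟨n, by rw [← map_pow, Ideal.Quotient.eq_zero_iff_mem]; exact hn⟩
  have : Module.Finite (R ⧸ IsLocalRing.maximalIdeal R) (S ⧸ I) :=
    Module.Finite.of_restrictScalars_finite R _ _
  have h1 : Algebra.trace (R ⧸ IsLocalRing.maximalIdeal R) (S ⧸ I) (Ideal.Quotient.mk I z) = 0 :=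
    (Algebra.isNilpotent_trace_of_isNilpotent hnil).eq_zero
  rw [Algebra.trace_quotient_mk, Ideal.Quotient.eq_zero_iff_mem] at h1
  exact h1

end Local

section Glob

open nonZeroDivisors

variable {A B : Type*} [CommRing A] [IsDomain A] [IsNoetherianRing A] [IsIntegrallyClosed A]
  [CommRing B] [IsDomain B] [IsIntegrallyClosed B] [Algebra A B] [Module.Finite A B]

theorem intTrace_mem
    (hinj : Function.Injective (algebraMap A B)) (p : Ideal A) [hp : p.IsPrime] (hp1 : p.height = 1)
    (z : B) (hz : ∀ q : Ideal B, q.IsPrime → q.comap (algebraMap A B) = p → z ∈ q) :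
    haveI : FaithfulSMul A B := (faithfulSMul_iff_algebraMap_injective A B).mpr hinj
    Algebra.intTrace A B z ∈ p := by
  have : FaithfulSMul A B := (faithfulSMul_iff_algebraMap_injective A B).mpr hinj
  let R := Localization.AtPrime p
  let S := Localization (Algebra.algebraMapSubmonoid B p.primeCompl)
  let : Algebra R S := localizationAlgebra p.primeCompl B
  have : IsScalarTower A R S := IsScalarTower.of_algebraMap_eq'
    (by rw [RingHom.algebraMap_toAlgebra, IsLocalization.map_comp, ← IsScalarTower.algebraMap_eq])
  have : IsLocalization (Submonoid.map (algebraMap A B) (Ideal.primeCompl p)) S :=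
    inferInstanceAs (IsLocalization (Algebra.algebraMapSubmonoid B p.primeCompl) S)
  have e : Algebra.algebraMapSubmonoid B p.primeCompl ≤ B⁰ :=
    Submonoid.map_le_of_le_comap _ <| p.primeCompl_le_nonZeroDivisors.trans
      (nonZeroDivisors_le_comap_nonZeroDivisors_of_injective _
        (FaithfulSMul.algebraMap_injective _ _))
  have : IsDomain S := IsLocalization.isDomain_of_le_nonZeroDivisors _ e
  have : Module.IsTorsionFree R S := by
    rw [Module.isTorsionFree_iff_algebraMap_injective, RingHom.injective_iff_ker_eq_bot,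
      RingHom.ker_eq_bot_iff_eq_zero]
    simp
  have : Module.Finite R S := .of_isLocalization A B p.primeCompl
  have : IsIntegrallyClosed S := isIntegrallyClosed_of_isLocalization _ _ e
  have : IsPrincipalIdealRing R := K562.TraceAlg.isPrincipalIdealRing_of_height_one p hp1
  have : Module.Free R S := Module.free_of_finite_type_torsion_free'
  have key : Algebra.trace R S (algebraMap B S z) ∈ IsLocalRing.maximalIdeal R := by
    refine trace_mem_of_local (algebraMap B S z) ?_
    intro Q hQ hmQ
    have h1 : (Q.comap (algebraMap B S)).comap (algebraMap A B) = p := by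
      rw [Ideal.comap_comap, ← IsScalarTower.algebraMap_eq, IsScalarTower.algebraMap_eq A R S,
        ← Ideal.comap_comap]
      have h2 : Q.comap (algebraMap R S) = IsLocalRing.maximalIdeal R := by
        refine ((IsLocalRing.maximalIdeal.isMaximal R).eq_of_le ?_ ?_).symm
        · exact (hQ.comap (algebraMap R S)).ne_top
        · exact Ideal.map_le_iff_le_comap.mp hmQ
      rw [h2]
      exact Localization.AtPrime.under_maximalIdeal
    exact hz (Q.comap (algebraMap B S)) (hQ.comap _) h1
  rw [← Algebra.intTrace_eq_trace,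
    ← Algebra.intTrace_eq_of_isLocalization A B p.primeCompl (Aₘ := R) (Bₘ := S) z] at key
  exact (IsLocalization.AtPrime.to_map_mem_maximal_iff R p _).mp key

end Glob

section Main

variable {A B K L : Type*} [CommRing A] [IsDomain A] [IsNoetherianRing A] [IsIntegrallyClosed A]
  [CommRing B] [IsDomain B] [IsIntegrallyClosed B] [Algebra A B] [Module.Finite A B]
  [Field K] [Algebra A K] [IsFractionRing A K] [Field L] [Algebra B L] [IsFractionRing B L]
  [Algebra K L] [Algebra A L] [IsScalarTower A K L] [IsScalarTower A B L]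

/-- The trace of `z` which is in `q B_q` for all `q` over the height one prime `p` is in `p A_p`. -/
theorem trace_regular (hcK : CharZero K) (hinj : Function.Injective (algebraMap A B)) (p : Ideal A)
    [hp : p.IsPrime]
    (hp1 : p.height = 1) (z : L) (hz : ∀ q : Ideal B, q.IsPrime → q.comap (algebraMap A B) = p →
      ∃ c ∈ q, ∃ d, d ∉ q ∧ algebraMap B L d * z = algebraMap B L c) :
    ∃ s, s ∉ p ∧ ∃ a ∈ p, algebraMap A K s * Algebra.trace K L z = algebraMap A K a := by
  have : FaithfulSMul A B := (faithfulSMul_iff_algebraMap_injective A B).mpr hinj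
  have : FiniteDimensional K L := K562.TraceAlg.finiteDimensional (A := A) (B := B) hinj
  let D : Ideal B :=
    { carrier := {b | ∃ c : B, algebraMap B L b * z = algebraMap B L c}
      add_mem' := by
        rintro b b' ⟨c, hc⟩ ⟨c', hc'⟩
        exact ⟨c + c', by rw [map_add, add_mul, hc, hc', map_add]⟩
      zero_mem' := ⟨0, by rw [map_zero, zero_mul]⟩
      smul_mem' := by
        rintro r b ⟨c, hc⟩
        exact ⟨r * c, by rw [smul_eq_mul, map_mul, mul_assoc, hc, map_mul]⟩ }
  obtain ⟨s, hsD, hs⟩ : ∃ s : A, algebraMap A B s ∈ D ∧ s ∉ p := by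
    by_contra hcon
    push Not at hcon
    obtain ⟨Q, hQD, hQp, hQ⟩ := Ideal.exists_ideal_over_prime_of_isIntegral p D (fun s hs => hcon s hs)
    obtain ⟨c, -, d, hd, hdc⟩ := hz Q hQp hQ
    exact hd (hQD ⟨c, hdc⟩)
  obtain ⟨c, hc⟩ := hsD
  have hcq : ∀ q : Ideal B, q.IsPrime → q.comap (algebraMap A B) = p → c ∈ q := by
    intro q hq hqp
    obtain ⟨c', hc', d, hd, hdc⟩ := hz q hq hqp
    have h1 : d * c = algebraMap A B s * c' := by
      apply IsFractionRing.injective B L
      rw [map_mul, map_mul, ← hc, ← hdc]
      ring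
    have h2 : d * c ∈ q := by
      rw [h1]
      exact Ideal.mul_mem_left _ _ hc'
    exact (hq.mem_or_mem h2).resolve_left hd
  refine ⟨s, hs, Algebra.intTrace A B c, intTrace_mem hinj p hp1 c hcq, ?_⟩
  have h2 : Algebra.trace K L (algebraMap K L (algebraMap A K s) * z) =
      algebraMap A K s * Algebra.trace K L z := by
    rw [← Algebra.smul_def (algebraMap A K s) z, map_smul, smul_eq_mul]
  rw [Algebra.algebraMap_intTrace (K := K) (L := L), ← hc, ← IsScalarTower.algebraMap_apply A B L,
    IsScalarTower.algebraMap_apply A K L, h2]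

end Main

end K910.SplitTr
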